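import Cfsg.Agent.H51.A12Spec
import Cfsg.Agent.H31.A8Sig

/-! Sylow `2`-subgroups of type `A₁₂`, slot C1: the signalizer functor at the frame and at the
products of two frame elements. -/

set_option autoImplicit false
set_option linter.unusedSectionVars false

namespace H10.A12C

open Cfsg Subgroup H14 H98 H1.Gold H31.S2 H51.X12
open H31.A8 (Iso iso_of)
open scoped commutatorElement

universe u

variable {G : Type u} [Group G] [Finite G] {A Y H : Subgroup G} {τ : Fin 7 → G} {i j k : Fin 7}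
  {x y a z : G}

/-- The facts on the frame that are used. -/
structure Fm (A : Subgroup G) (τ : Fin 7 → G) : Prop where
  el : IsElementaryAbelian 2 A
  mem : ∀ i, τ i ∈ A
  k1 : ∀ i j, i ≠ j → opp 2 (cen1 (τ i) ⊓ cen1 (τ j)) ≤ oc (τ i)
  k4 : ∀ i j k l, j ≠ i → k ≠ i → j ≠ k → l ≠ j → l ≠ k →
    ∀ y ∈ opp 2 (cen1 (τ i) ⊓ cen1 (τ j * τ k)), ⁅y, τ l⁆ ∈ oc (τ i)
  iso : ∀ j k, j ≠ k → Iso (τ j * τ k) (τ j)
  five : ∀ j k, j ≠ k → ∃ L : List (Fin 7), Odd L.length ∧ (∀ l ∈ L, l ≠ j ∧ l ≠ k) ∧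
    (L.map fun l => τ l * (τ j * τ k)).prod = 1

/-- good subgroups -/
def Gd (A : Subgroup G) (τ : Fin 7 → G) (Y : Subgroup G) : Prop :=
  OI A Y ∧ ∀ i, Y ⊓ cen1 (τ i) ≤ oc (τ i)

/-- the subgroup of order 16 -/
def BB (τ : Fin 7 → G) (j k : Fin 7) : Subgroup G :=
  closure {b | ∃ l, l ≠ j ∧ l ≠ k ∧ b = τ l * (τ j * τ k)}

theorem inf_le_opp (h1 : oc x ⊓ cen1 y ≤ H) (h2 : H ≤ cen1 x) (h3 : H ≤ cen1 y) :
    oc x ⊓ cen1 y ≤ opp 2 H :=
  le_opp_of_odd h1 (le_normalizer_inf (h2.trans (cen1_le_nor_oc x)) (le_normalizer_of_le h3))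
    (odd_of_le inf_le_left (odd_opp _))

theorem inf_le_opp' (x y : G) : oc x ⊓ cen1 y ≤ opp 2 (cen1 y ⊓ cen1 x) :=
  inf_le_opp (le_inf inf_le_right (inf_le_left.trans (oc_le _))) inf_le_right inf_le_left

theorem cen_mul (h1 : z ∈ cen1 x) (h2 : z ∈ cen1 y) : z ∈ cen1 (x * y) := by
  rw [mem_cen1] at *
  rw [← mul_assoc, h1, mul_assoc, h2, mul_assoc]

theorem cen_div (h1 : z ∈ cen1 (x * y)) (h2 : z ∈ cen1 y) : z ∈ cen1 x := by
  rw [mem_cen1] at *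
  rw [← mul_assoc, mul_assoc x, ← h2, ← mul_assoc] at h1
  exact mul_right_cancel h1

theorem cen_div' (h1 : z ∈ cen1 (x * y)) (h2 : z ∈ cen1 x) : z ∈ cen1 y := by
  rw [mem_cen1] at *
  rw [← mul_assoc, h2, mul_assoc, mul_assoc] at h1
  exact mul_left_cancel h1

theorem comm_mul (h : z ∈ cen1 y) (x : G) : ⁅z, x * y⁆ = ⁅z, x⁆ := by
  rw [commutatorElement_def, commutatorElement_def, ← mul_assoc z, mul_assoc _ y,
    (Commute.inv_left (show Commute z y from mem_cen1.1 h)).eq.symm]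
  group

theorem list_mem {B D : Subgroup G} (hD : D.relIndex B = 2) (L : List G) (h1 : ∀ b ∈ L, b ∈ B)
    (h2 : ∀ b ∈ L, b ∉ D) : L.prod ∈ D ↔ Even L.length := by
  induction L with
  | nil => simp [one_mem]
  | cons b L ih =>
    have m1 := h1 b List.mem_cons_self
    have m2 : L.prod ∈ B := list_prod_mem fun c hc => h1 c (List.mem_cons_of_mem _ hc)
    have := mul_mem_iff_of_index_two (H := D.subgroupOf B) hD (a := ⟨b, m1⟩) (b := ⟨L.prod, m2⟩)
    simp only [mem_subgroupOf, MulMemClass.mk_mul_mk] at this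
    rw [List.prod_cons, this, ih (fun c hc => h1 c (List.mem_cons_of_mem _ hc))
      fun c hc => h2 c (List.mem_cons_of_mem _ hc), List.length_cons, Nat.even_add_one]
    simp [h2 b List.mem_cons_self]

namespace Fm

variable (f : Fm A τ)
include f

theorem cc (i : Fin 7) : A ≤ cen1 (τ i) := elem_le_cen1 f.el (f.mem i)

theorem ca (j k : Fin 7) : A ≤ cen1 (τ j * τ k) := elem_le_cen1 f.el (mul_mem (f.mem j) (f.mem k))

theorem zp (i : Fin 7) : zpowers (τ i) ≤ A := zpowers_le.2 (f.mem i)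

theorem pz (i : Fin 7) : IsPGroup 2 (zpowers (τ i)) := (isPGroup_of_elem f.el).to_le (f.zp i)

theorem bal (i j : Fin 7) : oc (τ i) ⊓ cen1 (τ j) ≤ oc (τ j) := by
  by_cases h : j = i
  · subst h; exact inf_le_left
  · exact (inf_le_opp' _ _).trans (f.k1 j i h)

theorem one (i : Fin 7) : Gd A τ (oc (τ i)) := ⟨oi_oc (f.cc i), f.bal i⟩

theorem alpha (h : j ≠ k) (hY : Gd A τ Y) (hc : Y ≤ cen1 (τ j * τ k)) : Y ≤ oc (τ j * τ k) := by
  have I := f.iso j k h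
  refine (hY.1.mono (f.zp j)).le_of_comm (f.pz j) ?_ ?_
  · refine (commutator_mono (I.odd hY.1.odd hc) le_rfl).trans (commutator_sup_left_le le_normalizer
      ((inf_le_right.trans inf_le_left).trans (cen1_le_nor_oc _))
      (commutator_le_left' (((f.zp j).trans (f.ca j k)).trans (cen1_le_nor_oc _))) ?_)
    rw [commutator_eq_bot_iff_le_centralizer.2
      ((inf_le_right.trans inf_le_right).trans (cen1_eq _).le)]
    exact bot_le
  · rw [← cen1_eq]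
    exact (le_inf (hY.2 j) (inf_le_left.trans hc)).trans ((inf_le_opp' _ _).trans I.opp_le')

theorem le_T (h : j ≠ k) (hY : Gd A τ Y) (hc : Y ≤ cen1 (τ j * τ k)) (i : Fin 7) :
    Y ≤ (oc (τ i) ⊓ oc (τ j * τ k)) ⊔ ⁅oc (τ j * τ k), zpowers (τ i)⁆ := by
  have h1 := f.alpha h hY hc
  refine (hY.1.mono (f.zp i)).le_of_comm (f.pz i)
    ((commutator_mono h1 le_rfl).trans le_sup_right) ?_
  rw [← cen1_eq]
  exact (le_inf (hY.2 i) (inf_le_left.trans h1)).trans le_sup_left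

theorem BB_le (j k : Fin 7) : BB τ j k ≤ A := (closure_le _).2 <| by
  rintro _ ⟨l, -, -, rfl⟩
  exact mul_mem (f.mem l) (mul_mem (f.mem j) (f.mem k))

theorem k4B (h : j ≠ k) (hj : i ≠ j) (hk : i ≠ k) :
    ⁅oc (τ j * τ k) ⊓ cen1 (τ i), BB τ j k⁆ ≤ oc (τ i) := by
  refine commutator_closure_right_le
    (fun x hx => cen1_le_nor_oc _ (f.cc i (f.BB_le j k (subset_closure hx)))) ?_
  rintro c hc _ ⟨l, l1, l2, rfl⟩
  rw [comm_mul (oc_le _ hc.1)]
  exact f.k4 i j k l hj.symm hk.symm h l1 l2 c (inf_le_opp' _ _ hc)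

theorem cenB (hj : i ≠ j) (hk : i ≠ k) : oc (τ j * τ k) ⊓ cen (BB τ j k) ≤ cen1 (τ i) :=
  fun _ hz => cen_div (cen_le_cen1 (X := BB τ j k) (Subgroup.subset_closure ⟨i, hj, hk, rfl⟩) hz.2)
    (oc_le _ hz.1)

theorem oiB (j k : Fin 7) : OI A ⁅oc (τ j * τ k), BB τ j k⁆ :=
  (oi_oc (f.ca j k)).of_le (commutator_le_left' ((oi_oc (f.ca j k)).mono (f.BB_le j k)).nor)
    (le_normalizer_commutator (oi_oc (f.ca j k)).nor
      (le_normalizer_of_le_centralizer (elem_le_cen f.el (f.BB_le j k))))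

theorem cB_le (j k : Fin 7) : ⁅oc (τ j * τ k), BB τ j k⁆ ≤ oc (τ j * τ k) :=
  commutator_le_left' ((oi_oc (f.ca j k)).mono (f.BB_le j k)).nor

theorem beta (h : j ≠ k) (hj : i ≠ j) (hk : i ≠ k) :
    ⁅oc (τ j * τ k), BB τ j k⁆ ⊓ cen (BB τ j k) ≤ oc (τ i) := by
  have o := (oi_oc (f.ca j k)).mono (f.BB_le j k)
  refine o.lemG (H15.elem_of_le f.el (f.BB_le j k)) ((f.cenB hj hk).trans (cen1_le_nor_oc _))
    fun D h1 h2 => ?_
  obtain ⟨l, l1, l2, hl⟩ : ∃ l, l ≠ j ∧ l ≠ k ∧ τ l * (τ j * τ k) ∈ D := by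
    by_contra hn
    obtain ⟨L, o1, o2, o3⟩ := f.five j k h
    have := list_mem h2 (L.map fun l => τ l * (τ j * τ k)) (fun b hb => by
      obtain ⟨l, hl, rfl⟩ := List.mem_map.1 hb
      exact subset_closure ⟨l, (o2 l hl).1, (o2 l hl).2, rfl⟩) fun b hb hd => by
      obtain ⟨l, hl, rfl⟩ := List.mem_map.1 hb
      exact hn ⟨l, (o2 l hl).1, (o2 l hl).2, hd⟩
    rw [o3, List.length_map] at this
    exact Nat.not_even_iff_odd.2 o1 (this.1 (one_mem _))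
  have e1 : oc (τ j * τ k) ⊓ cen D ≤ oc (τ j * τ k) ⊓ cen1 (τ l) := fun z hz =>
    ⟨hz.1, cen_div (cen_le_cen1 hl hz.2) (oc_le _ hz.1)⟩
  refine le_trans (le_inf (inf_le_left.trans ((commutator_mono e1 le_rfl).trans (f.k4B h l1 l2)))
    (le_trans (inf_le_inf_right _ ?_) (f.cenB hj hk))) (f.bal l i)
  exact (commutator_mono inf_le_left le_rfl).trans (f.cB_le j k)

theorem gdB (h : j ≠ k) : Gd A τ ⁅oc (τ j * τ k), BB τ j k⁆ := by
  refine ⟨f.oiB j k, fun i => ?_⟩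
  have l0 := inf_le_inf_right (cen1 (τ i)) (f.cB_le j k)
  by_cases hj : i = j
  · subst hj
    exact l0.trans ((inf_le_opp (H := cen1 (τ i) ⊓ cen1 (τ k))
      (fun z hz => ⟨hz.2, cen_div' (oc_le _ hz.1) hz.2⟩)
      (fun z hz => cen_mul hz.1 hz.2) inf_le_left).trans (f.k1 i k h))
  by_cases hk : i = k
  · subst hk
    exact l0.trans ((inf_le_opp (H := cen1 (τ i) ⊓ cen1 (τ j))
      (fun z hz => ⟨hz.2, cen_div (oc_le _ hz.1) hz.2⟩)
      (fun z hz => cen_mul hz.2 hz.1) inf_le_left).trans (f.k1 i j hj))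
  exact (((f.oiB j k).inf_cen1 f.el (f.mem i)).mono (f.BB_le j k)).le_of_comm
    ((isPGroup_of_elem f.el).to_le (f.BB_le j k))
    ((commutator_mono l0 le_rfl).trans (f.k4B h hj hk))
    ((inf_le_inf_right _ inf_le_left).trans (f.beta h hj hk))

theorem gdT (h : j ≠ k) (i : Fin 7) :
    Gd A τ (⁅oc (τ j * τ k), BB τ j k⁆ ⊔ (oc (τ i) ⊓ oc (τ j * τ k))) := by
  have g1 := f.gdB h
  have o2 : OI A (oc (τ i) ⊓ oc (τ j * τ k)) := (f.one i).1.inf (oi_oc (f.ca j k)).nor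
  have n : oc (τ i) ⊓ oc (τ j * τ k) ≤ nor ⁅oc (τ j * τ k), BB τ j k⁆ :=
    inf_le_right.trans (H46.nrm_commutator_left _ _)
  refine ⟨sup_comm (oc (τ i) ⊓ oc (τ j * τ k)) _ ▸ o2.sup g1.1 n, fun l => ?_⟩
  have o3 := odd_of_le (inf_le_left (b := oc (τ i) ⊓ oc (τ j * τ k))) g1.1.odd
  rw [cen1_eq, H46.coprime_cent_sup n (g1.1.mono (f.zp l)).nor (o2.mono (f.zp l)).nor ?_
    (Or.inr (sol_of_odd o3)), ← show cen1 (τ l) = H46.Cent (zpowers (τ l)) from cen1_eq _]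
  · exact sup_le (g1.2 l) ((inf_le_inf_right _ inf_le_left).trans (f.bal i l))
  · obtain ⟨n, hn⟩ := IsPGroup.iff_card.1 (f.pz l)
    rw [hn]
    exact (Nat.coprime_two_left.2 o3).pow_left n

theorem th_eq (h : j ≠ k) (hj : i ≠ j) (hk : i ≠ k) :
    sSup {Y | Gd A τ Y ∧ Y ≤ cen1 (τ j * τ k)} =
        (oc (τ i) ⊓ oc (τ j * τ k)) ⊔ ⁅oc (τ j * τ k), zpowers (τ i)⁆ ∧
      Gd A τ (sSup {Y | Gd A τ Y ∧ Y ≤ cen1 (τ j * τ k)}) := by
  have h1 : sSup {Y | Gd A τ Y ∧ Y ≤ cen1 (τ j * τ k)} ≤ _ :=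
    sSup_le fun Y hY => f.le_T h hY.1 hY.2 i
  have h2 : ⁅oc (τ j * τ k), BB τ j k⁆ ⊔ (oc (τ i) ⊓ oc (τ j * τ k)) ≤
      sSup {Y | Gd A τ Y ∧ Y ≤ cen1 (τ j * τ k)} :=
    le_sSup ⟨f.gdT h i, (sup_le (f.cB_le j k) inf_le_right).trans (oc_le _)⟩
  have h3 : ⁅oc (τ j * τ k), zpowers (τ i)⁆ ≤ ⁅oc (τ j * τ k), BB τ j k⁆ := by
    rw [zpowers_eq_closure]
    refine commutator_closure_right_le (fun x hx => (f.oiB j k).nor (hx ▸ f.mem i)) ?_
    rintro c hc _ rfl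
    rw [← comm_mul (oc_le _ hc)]
    exact commutator_mem_commutator hc (subset_closure ⟨i, hj, hk, rfl⟩)
  have h4 := sup_le le_sup_right (h3.trans (le_sup_left (b := oc (τ i) ⊓ oc (τ j * τ k))))
  exact ⟨le_antisymm h1 (h4.trans h2), le_antisymm h2 (h1.trans h4) ▸ f.gdT h i⟩

end Fm

theorem iso_cj {u : G} (I : Iso x u) (g : G) : Iso (g * x * g⁻¹) (g * u * g⁻¹) where
  sq := by rw [conj_mul, I.sq, mul_one, mul_inv_cancel]
  dec k hk := by
    rw [← cj_cen1] at hk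
    obtain ⟨n, h1, h2⟩ := I.dec _ (mem_cj.1 hk)
    refine ⟨g * n * g⁻¹, ?_, ?_⟩
    · rw [← cj_oc, mem_cj]
      convert h1 using 1
      group
    · rw [show g * n * g⁻¹ * (g * u * g⁻¹) * (g * n * g⁻¹)⁻¹ = g * (n * u * n⁻¹) * g⁻¹ by group,
        conj_mul]
      exact h2.imp (fun e => by rw [e]) fun e => by rw [e]

variable {φ : M →* G}

theorem tau_inj : ∀ i j : Fin 7, tau i = tau j → i = j := by decide +kernel

theorem iso56 (c : Fr φ) : Iso (φ (tau 5) * φ (tau 6)) (φ (tau 5)) := by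
  have e : φ (tau 5) * φ (tau 6) = φ uM := by rw [← map_mul]; congr 1
  rw [e]
  have r : φ.range ≤ cen1 (φ uM) := by
    rintro _ ⟨m, rfl⟩; exact mem_cen1.2 (by rw [← map_mul, ← map_mul, cen_u])
  refine iso_of (c.syl.of_le r le_top) (c.toSy.ord (by decide +kernel) (by decide +kernel)) ⟨_, rfl⟩
    (by rw [← map_mul, show tau 5 * tau 5 = 1 by decide +kernel, map_one]) ?_
  rintro k hk ⟨x, hx⟩
  have h1 : Cj φ k (tau 5) x := hx.symm
  have h2 : Cj φ k (tau 5 * uM) (x * uM) := h1.mul (mul_inv_eq_iff_eq_mul.2 (mem_cen1.1 hk))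
  rw [show tau 5 * uM = tau 6 by decide +kernel] at h2
  obtain ⟨m, rfl⟩ := (c.cls x).1 (((c.cls _).2 ⟨5, rfl⟩).trans h1.fu)
  obtain ⟨m', e'⟩ := (c.cls _).1 (((c.cls _).2 ⟨6, rfl⟩).trans h2.fu)
  rw [← hx, ← map_mul]
  exact ((by decide +kernel : ∀ m m' : Fin 7, tau m * uM = tau m' →
    tau m = tau 5 ∨ tau m = tau 5 * uM) m m' e').imp (congrArg φ) (congrArg φ)

theorem fm (c : Fr φ) (kf : KF φ) : Fm (H51.X12.A.map φ) fun i => φ (tau i) where
  el := elem_A φ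
  mem i := mem_map_of_mem φ ((by decide +kernel : ∀ i, tau i ∈ H51.X12.A) i)
  k1 i j h := by
    obtain ⟨g, -, g1, g2⟩ := c.two 0 1 i j (by decide) h
    have := cj_mono g kf.k1
    rwa [cj_opp, cj_inf, cj_cen1, cj_cen1, cj_oc, show g * φ tM * g⁻¹ = _ from g1,
      show g * φ (tau 1) * g⁻¹ = _ from g2] at this
  k4 i j k l h1 h2 h3 h4 h5 y hy := by
    obtain ⟨g, hg, g1, -⟩ := c.two i j 0 1 h1.symm (by decide)
    obtain ⟨σ, hσ⟩ := c.perm g hg
    have s0 : σ i = 0 := tau_inj _ _ (c.toSy.uniq (hσ i) g1)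
    have := kf.k4 (σ j) (σ k) (σ l) (s0 ▸ σ.injective.ne h1) (s0 ▸ σ.injective.ne h2)
      (σ.injective.ne h3) (σ.injective.ne h4) (σ.injective.ne h5) (g * y * g⁻¹) (by
        rw [← show _ = φ tM from g1, ← show _ = φ (tau (σ j) * tau (σ k)) from (hσ j).mul (hσ k),
          ← cj_cen1, ← cj_cen1, ← cj_inf, ← cj_opp, map_mul]
        exact conj_mem_cj hy)
    rwa [← show _ = φ tM from g1, ← show _ = φ (tau (σ l)) from hσ l,
      ← conjugate_commutatorElement, ← cj_oc, conj_mem_cj_iff] at this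
  iso j k h := by
    obtain ⟨g, -, g1, g2⟩ := c.two 5 6 j k (by decide) h
    have := iso_cj (iso56 c) g
    rwa [← conj_mul, show g * φ (tau 5) * g⁻¹ = _ from g1, show g * φ (tau 6) * g⁻¹ = _ from g2]
      at this
  five j k h := by
    obtain ⟨h1, h2⟩ := (by decide +kernel : ∀ j k : Fin 7, j ≠ k →
      ((List.finRange 7).filter fun l => l ≠ j ∧ l ≠ k).length = 5 ∧
      (((List.finRange 7).filter fun l => l ≠ j ∧ l ≠ k).map
        fun l => tau l * (tau j * tau k)).prod = 1) j k h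
    refine ⟨_, by rw [h1]; decide, fun l hl => of_decide_eq_true (List.mem_filter.1 hl).2, ?_⟩
    have := congrArg φ h2
    rw [map_list_prod, List.map_map, map_one] at this
    simpa only [Function.comp_def, map_mul] using this

theorem jobC1 : H51.X12.JobC1.{u} := fun G _ _ φ c kf => by
  have f := fm c kf
  refine ⟨f.one, fun j k h => ?_, fun i j k h hj hk => ?_⟩
  · obtain ⟨i, hj, hk⟩ := (by decide : ∀ j k : Fin 7, ∃ i, i ≠ j ∧ i ≠ k) j k
    rw [map_mul]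
    exact (f.th_eq h hj hk).2
  · rw [map_mul, show th φ _ = _ from (f.th_eq h hj hk).1]
    have n1 := (inf_le_left.trans inf_le_left : cen1 (φ (tau i)) ⊓ cen1 (φ (tau j)) ⊓
      cen1 (φ (tau k)) ≤ cen1 (φ (tau i)))
    have n2 : cen1 (φ (tau i)) ⊓ cen1 (φ (tau j)) ⊓ cen1 (φ (tau k)) ≤
        nor (oc (φ (tau j) * φ (tau k))) := fun z hz => cen1_le_nor_oc _ (cen_mul hz.1.2 hz.2)
    exact le_normalizer_sup (le_normalizer_inf (n1.trans (cen1_le_nor_oc _)) n2)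
      (le_normalizer_commutator n2 (le_normalizer_of_le_centralizer (n1.trans (cen1_eq _).le)))

end H10.A12C
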