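import Cfsg.Agent.H53.CKBase

/-! Tower CK: small kit on `Ind`, `Ind3`, `TS` and quotients by a point. -/

set_option autoImplicit false

namespace H10.CK

open Module Submodule H53.CK

universe u v

variable {F : Type u} [Field F] {V : Type v} [AddCommGroup V] [Module F V]

theorem ind_iff {x y : V} : Ind F x y ↔ ∀ a b : F, a • x + b • y = 0 → a = 0 ∧ b = 0 := by
  constructor
  · rintro ⟨hx, hy⟩ a b h
    have hb : b = 0 := by
      by_contra hb
      refine hy (mem_span_singleton.2 ⟨-(b⁻¹ * a), ?_⟩)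
      have : y = b⁻¹ • (b • y) := by rw [smul_smul, inv_mul_cancel₀ hb, one_smul]
      rw [this, eq_neg_of_add_eq_zero_right h, smul_neg, smul_smul, neg_smul]
    rw [hb, zero_smul, add_zero] at h
    exact ⟨(smul_eq_zero.1 h).resolve_right hx, hb⟩
  · intro h
    refine ⟨fun hx => one_ne_zero (h 1 0 (by simp [hx])).1, fun hy => ?_⟩
    obtain ⟨c, hc⟩ := mem_span_singleton.1 hy
    exact one_ne_zero (neg_eq_zero.1 (h c (-1) (by simp [hc])).2)

theorem ind3_iff {x y z : V} :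
    Ind3 F x y z ↔ ∀ a b c : F, a • x + b • y + c • z = 0 → a = 0 ∧ b = 0 ∧ c = 0 := by
  constructor
  · rintro ⟨hxy, hz⟩ a b c h
    have hc : c = 0 := by
      by_contra hc
      refine hz (mem_span_pair.2 ⟨-(c⁻¹ * a), -(c⁻¹ * b), ?_⟩)
      have : z = c⁻¹ • (c • z) := by rw [smul_smul, inv_mul_cancel₀ hc, one_smul]
      rw [this, eq_neg_of_add_eq_zero_right h, smul_neg, smul_add, smul_smul, smul_smul, neg_smul,
        neg_smul, neg_add]
    rw [hc, zero_smul, add_zero] at h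
    exact ⟨(ind_iff.1 hxy a b h).1, (ind_iff.1 hxy a b h).2, hc⟩
  · intro h
    refine ⟨ind_iff.2 fun a b e => ?_, fun hz => ?_⟩
    · have := h a b 0 (by simpa using e)
      exact ⟨this.1, this.2.1⟩
    · obtain ⟨a, b, e⟩ := mem_span_pair.1 hz
      exact one_ne_zero (neg_eq_zero.1 (h a b (-1) (by simp [e])).2.2)

theorem ind3_swap {x y z : V} (h : Ind3 F x y z) : Ind3 F x z y :=
  ind3_iff.2 fun a b c e => by
    have := ind3_iff.1 h a c b (by rw [← e]; abel)
    exact ⟨this.1, this.2.2, this.2.1⟩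

theorem ind3_rot {x y z : V} (h : Ind3 F x y z) : Ind3 F z x y :=
  ind3_iff.2 fun a b c e => by
    have := ind3_iff.1 h b c a (by rw [← e]; abel)
    exact ⟨this.2.2, this.1, this.2.1⟩

theorem left_mem (x y : V) : x ∈ span F {x, y} := subset_span (by simp)

theorem right_mem (x y : V) : y ∈ span F {x, y} := subset_span (by simp)

theorem pt_le (x y : V) : (F ∙ x) ≤ span F {x, y} := span_mono (by simp)

theorem pair_le {x y : V} {U : Submodule F V} (hx : x ∈ U) (hy : y ∈ U) : span F {x, y} ≤ U :=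
  span_le.2 (by rintro _ (rfl | rfl); exacts [hx, hy])

theorem pt_le_iff {x : V} {U : Submodule F V} : (F ∙ x) ≤ U ↔ x ∈ U := span_singleton_le_iff_mem x U

/-- exchange in a line -/
theorem exch {x y t : V} (ht : t ∈ span F {x, y}) (hn : t ∉ F ∙ x) : y ∈ span F {x, t} := by
  obtain ⟨a, b, rfl⟩ := mem_span_pair.1 ht
  have hb : b ≠ 0 := fun hb => hn (mem_span_singleton.2 ⟨a, by simp [hb]⟩)
  exact mem_span_pair.2 ⟨-(b⁻¹ * a), b⁻¹, by
    rw [smul_add, smul_smul, smul_smul, inv_mul_cancel₀ hb, one_smul, neg_smul]; abel⟩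

theorem span_eq_pt {x x' : V} (h : x' ∈ F ∙ x) (h0 : x' ≠ 0) : (F ∙ x') = F ∙ x := by
  obtain ⟨c, rfl⟩ := mem_span_singleton.1 h
  exact span_singleton_smul_eq (IsUnit.mk0 c fun hc => h0 (by simp [hc])) x

theorem mk_eq_zero {x y : V} : (F ∙ x).mkQ y = 0 ↔ y ∈ F ∙ x := Quotient.mk_eq_zero _

theorem mk_eq {x y z : V} : (F ∙ x).mkQ y = (F ∙ x).mkQ z ↔ y - z ∈ F ∙ x := Submodule.Quotient.eq _

theorem mk_mem_pt {x y z : V} : (F ∙ x).mkQ z ∈ F ∙ (F ∙ x).mkQ y ↔ z ∈ span F {x, y} := by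
  rw [mem_span_singleton, mem_span_pair]
  constructor
  · rintro ⟨c, hc⟩
    rw [← map_smul, mk_eq, mem_span_singleton] at hc
    obtain ⟨a, ha⟩ := hc
    exact ⟨-a, c, by rw [neg_smul, ha]; abel⟩
  · rintro ⟨a, b, rfl⟩
    exact ⟨b, by rw [map_add, map_smul, map_smul, mk_eq_zero.2 (mem_span_singleton_self x)]; simp⟩

theorem mk_mem_map {x z : V} {U : Submodule F V} (hx : x ∈ U) :
    (F ∙ x).mkQ z ∈ U.map (F ∙ x).mkQ ↔ z ∈ U := by
  rw [← mem_comap, comap_map_mkQ, sup_eq_right.2 (pt_le_iff.2 hx)]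

theorem finrank_map_mk [FiniteDimensional F V] {K U : Submodule F V} (h : K ≤ U) :
    finrank F (U.map K.mkQ) + finrank F K = finrank F U := by
  have := LinearMap.finrank_range_add_finrank_ker (K.mkQ.domRestrict U)
  rw [LinearMap.range_domRestrict, LinearMap.ker_domRestrict, ker_mkQ,
    (comapSubtypeEquivOfLe h).finrank_eq] at this
  exact this

theorem finrank_map_pt [FiniteDimensional F V] {x : V} (hx : x ≠ 0) {U : Submodule F V}
    (h : x ∈ U) : finrank F (U.map (F ∙ x).mkQ) + 1 = finrank F U := by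
  rw [← finrank_map_mk (pt_le_iff.2 h), finrank_span_singleton hx]

theorem finrank_quo_pt [FiniteDimensional F V] {x : V} (hx : x ≠ 0) :
    finrank F (V ⧸ F ∙ x) + 1 = finrank F V := by
  rw [← finrank_quotient_add_finrank (F ∙ x), finrank_span_singleton hx]

theorem map_inf_mk {x : V} {U U' : Submodule F V} (h : x ∈ U) (h' : x ∈ U') :
    (U ⊓ U').map (F ∙ x).mkQ = U.map (F ∙ x).mkQ ⊓ U'.map (F ∙ x).mkQ := by
  ext a
  obtain ⟨z, rfl⟩ := (F ∙ x).mkQ_surjective a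
  rw [mem_inf, mk_mem_map h, mk_mem_map h', mk_mem_map (show x ∈ U ⊓ U' from ⟨h, h'⟩), mem_inf]

/-- A functional killing `x`, on the quotient. -/
theorem exists_bar {x : V} {φ : Dual F V} (h : φ x = 0) :
    ∃ ψ : Dual F (V ⧸ F ∙ x), ∀ v, ψ ((F ∙ x).mkQ v) = φ v :=
  ⟨(F ∙ x).liftQ φ (pt_le_iff.2 h), fun _ => rfl⟩

section TS

variable {G : Subgroup (V ≃ₗ[F] V)} (T : TS G)

theorem pair_le_W {x : V} (hx : x ≠ 0) (y : V) : span F {x, y} ≤ T.W x y :=
  pair_le (T.left x y) (T.right x y hx)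

/-- `W x y` depends only on the line `xy` (or is the point `x`). -/
theorem W_of_mem {x y t : V} (hx : x ≠ 0) (ht : t ∈ span F {x, y}) (hn : t ∉ F ∙ x) :
    T.W x t = T.W x y :=
  T.congr x y x t ⟨hx, fun hy => hn (pair_le (mem_span_singleton_self x) hy ht)⟩ ⟨hx, hn⟩
    (left_mem x y) ht

theorem W_le_of_mem {x y t : V} (hx : x ≠ 0) (ht : t ∈ span F {x, y}) : T.W x t ≤ T.W x y := by
  by_cases hn : t ∈ F ∙ x
  · rw [T.dep x t hn]; exact pt_le_iff.2 (T.left x y)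
  · exact (W_of_mem T hx ht hn).le

theorem W_pt {x x' : V} (h : x' ∈ F ∙ x) (h0 : x' ≠ 0) (y : V) : T.W x' y = T.W x y := by
  have e := span_eq_pt h h0
  have hx : x ≠ 0 := by rintro rfl; exact h0 (by simpa using h)
  by_cases hy : y ∈ F ∙ x
  · rw [T.dep x y hy, T.dep x' y (e ▸ hy), e]
  · exact T.congr x y x' y ⟨hx, hy⟩ ⟨h0, e ▸ hy⟩ (pt_le x y h) (right_mem x y)

theorem W_comm {x y : V} (h : Ind F x y) : T.W y x = T.W x y :=
  T.congr x y y x h h.symm (right_mem x y) (left_mem x y)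

theorem W_map {g : V ≃ₗ[F] V} (hg : g ∈ G) (x y z : V) : g z ∈ T.W (g x) (g y) ↔ z ∈ T.W x y :=
  ⟨fun h => by simpa using T.map g⁻¹ (G.inv_mem hg) _ _ _ h, T.map g hg x y z⟩

theorem W_map_eq {g : V ≃ₗ[F] V} (hg : g ∈ G) (x y : V) :
    T.W (g x) (g y) = (T.W x y).map (g : V →ₗ[F] V) := by
  ext z
  obtain ⟨z, rfl⟩ := g.surjective z
  rw [W_map T hg, mem_map_equiv]; simp

end TS

end H10.CK
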