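import Cfsg.Agent.H10.CKKit

/-! Tower CK: cover lemma and the reduction to the hyperplane case (`JobR5`). -/

set_option autoImplicit false
set_option linter.unusedSectionVars false

namespace H10.CK

open Module Submodule H53.CK

universe u v

variable {F : Type u} [Field F] {V : Type v} [AddCommGroup V] [Module F V] [FiniteDimensional F V]
  {G : Subgroup (V ≃ₗ[F] V)}

theorem eq_sup_pt {P A : Submodule F V} (h : P ≤ A) (e : finrank F A ≤ finrank F P + 1) {u : V}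
    (hu : u ∈ A) (hn : u ∉ P) : P ⊔ F ∙ u = A :=
  eq_of_le_of_finrank_le (sup_le h (pt_le_iff.2 hu)) (by rwa [finrank_sup_span_singleton hn])

theorem codim1 {P A : Submodule F V} (h : P ≤ A) (e : finrank F A ≤ finrank F P + 1) {u : V}
    (hu : u ∈ A) (hn : u ∉ P) {s : V} (hs : s ∈ A) : ∃ a : F, s - a • u ∈ P := by
  rw [← eq_sup_pt h e hu hn] at hs
  obtain ⟨p, hp, w, hw, rfl⟩ := mem_sup.1 hs
  obtain ⟨a, rfl⟩ := mem_span_singleton.1 hw
  exact ⟨a, by simpa using hp⟩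

theorem finrank_pair_le (x y : V) : finrank F (span F {x, y}) ≤ 2 := by
  have := H62.finrank_span_list_le (F := F) [x, y]
  rwa [show {t | t ∈ [x, y]} = ({x, y} : Set V) by ext; simp] at this

theorem ind_right {x y z : V} (h : Ind3 F x y z) : Ind F x z := (ind3_swap h).1

/-- two subspaces of codimension at most one in a third -/
theorem inf_ge {A B C : Submodule F V} (hA : A ≤ C) (hB : B ≤ C) :
    finrank F A + finrank F B ≤ finrank F ↥(A ⊓ B) + finrank F C := by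
  have := finrank_sup_add_finrank_inf_eq A B
  have := finrank_mono (sup_le hA hB)
  omega

/-- Equivariant functions of (point, line) are symmetric. -/
theorem comm_of_pl (hp : PL G) (B : V → V → Submodule F V)
    (hm : ∀ g ∈ G, ∀ x y z, z ∈ B x y → g z ∈ B (g x) (g y))
    (hl : ∀ x y t, x ≠ 0 → t ∈ span F {x, y} → t ∉ F ∙ x → B x t = B x y)
    (hs : ∀ x y, x ≠ 0 → span F {x, y} ≤ B x y) {x y : V} (h : Ind F x y) : B x y ≤ B y x :=
    fun z hz => by
  by_cases hl : z ∈ span F {x, y}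
  · exact hs y x h.symm.1 (Set.pair_comm x y ▸ hl)
  have i3 : Ind3 F x y z := ⟨h, hl⟩
  obtain ⟨g, hg, g1, g2, g3⟩ := hp z y x (ind3_swap (ind3_rot i3)) 0 1
  obtain ⟨k, hk, k1, k2, k3⟩ := hp z x y (ind3_rot i3) 0 (-1)
  have e1 := hm g hg _ _ _ hz
  rw [g1, g2, g3, zero_smul, add_zero, one_smul] at e1
  have hxy : Ind F (x + y) x := ind_iff.2 fun a b e => by
    have := ind_iff.1 h (a + b) a (by linear_combination (norm := module) e)
    exact ⟨this.2, by simpa [this.2] using this.1⟩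
  rename_i hl'
  rw [← hl' _ y x hxy.1 (mem_span_pair.2 ⟨1, -1, by simp⟩) hxy.2] at e1
  have e2 := hm k hk _ _ _ e1
  rwa [k1, map_add, k2, k3, show x + (y + (0 : F) • z + (-1 : F) • x) = y by simp] at e2

variable {T : TS G} {r : ℕ}

theorem finrank_sup_W (f : TF T r) (c : T.Cod r) {x y z : V} (i : Ind3 F x y z)
    (hz : z ∈ T.W x y) : finrank F ↥(T.W x y ⊔ T.W x z) = r + 1 := by
  have := finrank_sup_add_finrank_inf_eq (T.W x y) (T.W x z)
  have := c x y z i hz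
  rw [f.rk x y i.1, f.rk x z (ind_right i)] at *
  omega

theorem W_smul_le (T : TS G) {x : V} (hx : x ≠ 0) (c : F) (y : V) : T.W x (c • y) ≤ T.W x y :=
  W_le_of_mem T hx (smul_mem _ c (right_mem x y))

/-- The cover lemma. -/
theorem cover [Finite F] (f : TF T r) (c : T.Cod r) {x y z t : V} (i : Ind3 F x y z)
    (hz : z ∈ T.W x y) (ht : t ∈ T.W x y ⊔ T.W x z) :
    ∃ a b : F, a • y + b • z ∉ (F ∙ x) ∧ t ∈ T.W x (a • y + b • z) := by
  have hx := i.1.1
  have hn : ∀ a : F, a • y + (1 : F) • z ∉ F ∙ x := fun a h => by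
    obtain ⟨d, hd⟩ := mem_span_singleton.1 h
    exact one_ne_zero (ind3_iff.1 i (-d) a 1 (by linear_combination (norm := module) -hd)).2.2
  set P := T.W x y ⊓ T.W x z with hP
  have cP : finrank F P + 1 = r := c x y z i hz
  have r1 := f.rk x y i.1
  have r2 := f.rk x z (ind_right i)
  have hP1 : ∀ a : F, P ≤ T.W x (a • y + (1 : F) • z) := fun a s hs => by
    by_cases h : s ∈ F ∙ x
    · exact pt_le_iff.2 (T.left _ _) h
    · exact T.symm x s _ hx (hn a) (add_mem (smul_mem _ _ (T.symm x y s hx h hs.1))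
        (smul_mem _ _ (T.symm x z s hx h hs.2)))
  have hP2 : ∀ a a' : F, a ≠ a' → ∀ s ∈ T.W x (a • y + (1 : F) • z),
      s ∈ T.W x (a' • y + (1 : F) • z) → s ∈ T.W x y := fun a a' e s h1 h2 => by
    by_cases h : s ∈ F ∙ x
    · exact pt_le_iff.2 (T.left _ _) h
    refine T.symm x s y hx i.1.2 ?_
    have := smul_mem _ (a - a')⁻¹ (sub_mem (T.symm x _ s hx h h1) (T.symm x _ s hx h h2))
    rwa [add_sub_add_right_eq_sub, ← sub_smul, smul_smul, inv_mul_cancel₀ (sub_ne_zero.2 e),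
      one_smul] at this
  have hP3 : ∀ a : F, ∀ s ∈ T.W x (a • y + (1 : F) • z), s ∈ T.W x y → s ∈ P := fun a s h1 h2 => by
    refine ⟨h2, ?_⟩
    by_cases h : s ∈ F ∙ x
    · exact pt_le_iff.2 (T.left _ _) h
    refine T.symm x s z hx (ind_right i).2 ?_
    simpa using sub_mem (T.symm x _ s hx h h1) (smul_mem _ a (T.symm x y s hx h h2))
  obtain ⟨u, hu, nu⟩ := H62.exists_mem_notMem (W := T.W x y) (Z := P) (by omega)
  obtain ⟨w, hw, nw⟩ := H62.exists_mem_notMem (W := T.W x z) (Z := P) (by omega)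
  have dec : ∀ s ∈ T.W x y ⊔ T.W x z, ∃ α β : F, s - α • u - β • w ∈ P := fun s hs => by
    obtain ⟨a, ha, b, hb, rfl⟩ := mem_sup.1 hs
    obtain ⟨α, h1⟩ := codim1 (P := P) inf_le_left (by omega) hu nu ha
    obtain ⟨β, h2⟩ := codim1 (P := P) inf_le_right (by omega) hw nw hb
    exact ⟨α, β, by convert add_mem h1 h2 using 1; abel⟩
  have inY : ∀ s (α β : F), s - α • u - β • w ∈ P → β = 0 → s ∈ T.W x y := fun s α β h e => by
    simpa [e] using add_mem h.1 (smul_mem _ α hu)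
  have ex : ∀ a : F, ∃ γ : F, γ • u + w ∈ T.W x (a • y + (1 : F) • z) := fun a => by
    obtain ⟨s, hs, ns⟩ := H62.exists_mem_notMem (W := T.W x (a • y + (1 : F) • z)) (Z := P)
      (by rw [f.rk x _ ⟨hx, hn a⟩]; omega)
    obtain ⟨α, β, h⟩ := dec s (((T.add x _ _ hx).trans
      (sup_le_sup (W_smul_le T hx a y) (W_smul_le T hx 1 z))) hs)
    have hβ : β ≠ 0 := fun e => ns (hP3 a s hs (inY s α β h e))
    refine ⟨β⁻¹ * α, ?_⟩
    convert smul_mem _ β⁻¹ (sub_mem hs (hP1 a h)) using 1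
    rw [show s - (s - α • u - β • w) = α • u + β • w by abel, smul_add, smul_smul, smul_smul,
      inv_mul_cancel₀ hβ, one_smul]
  choose γ hγ using ex
  have inj : Function.Injective γ := fun a a' e => by
    by_contra ne
    have := hP2 a a' ne _ (hγ a) (e ▸ hγ a')
    exact nw ⟨by simpa using sub_mem this (smul_mem _ (γ a) hu), hw⟩
  obtain ⟨α, β, h⟩ := dec t ht
  by_cases hβ : β = 0
  · exact ⟨1, 0, by simpa using i.1.2, by simpa using inY t α β h hβ⟩
  obtain ⟨a, ha⟩ := Finite.injective_iff_surjective.1 inj (β⁻¹ * α)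
  refine ⟨a, 1, hn a, ?_⟩
  convert add_mem (hP1 a h) (smul_mem _ β (hγ a)) using 1
  rw [ha, smul_add, smul_smul, mul_inv_cancel_left₀ hβ]; abel

theorem sup_smul_add (T : TS G) {x : V} (hx : x ≠ 0) (y m : V) (a : F) :
    T.W x y ⊔ T.W x (m + a • y) = T.W x y ⊔ T.W x m := by
  have : ∀ (m : V) (a : F), T.W x y ⊔ T.W x (m + a • y) ≤ T.W x y ⊔ T.W x m := fun m a =>
    sup_le le_sup_left ((T.add x _ _ hx).trans
      (sup_le le_sup_right ((W_smul_le T hx a y).trans le_sup_left)))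
  refine (this m a).antisymm ?_
  simpa using this (m + a • y) (-a)

theorem sup_indep (f : TF T r) (c : T.Cod r) (h5 : 5 ≤ r) {x y z z' : V} (i : Ind3 F x y z)
    (i' : Ind3 F x y z') (hz : z ∈ T.W x y) (hz' : z' ∈ T.W x y) :
    T.W x y ⊔ T.W x z = T.W x y ⊔ T.W x z' := by
  have hx := i.1.1
  have r1 := f.rk x y i.1
  have key : ∀ z, Ind3 F x y z → z ∈ T.W x y → ∃ N : Submodule F V, N ≤ T.W x y ∧
      r ≤ finrank F N + 1 ∧ ∀ s ∈ N, s ∉ span F {x, y} →
        T.W x y ⊔ T.W x z = T.W x y ⊔ T.W x s := fun z i hz => by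
    have c1 := c x y z i hz
    have r2 := f.rk x z (ind_right i)
    obtain ⟨t, ht, nt⟩ := H62.exists_mem_notMem (W := T.W x z) (Z := T.W x y ⊓ T.W x z) (by omega)
    replace nt : t ∉ T.W x y := fun h => nt ⟨h, ht⟩
    have c2 := c x z t ⟨ind_right i, fun h => nt (pair_le (T.left x y) hz h)⟩ ht
    have ny : y ∉ T.W x y ⊓ T.W x t := fun h => nt (T.symm x t y hx i.1.2 h.2)
    have d1 := inf_ge (A := T.W x y ⊓ T.W x z) (B := T.W x z ⊓ T.W x t) inf_le_right inf_le_left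
    have d2 := finrank_mono (show T.W x y ⊓ T.W x z ⊓ (T.W x z ⊓ T.W x t) ≤ T.W x y ⊓ T.W x t from
      fun s hs => ⟨hs.1.1, hs.2.2⟩)
    refine ⟨(T.W x y ⊓ T.W x t) ⊔ F ∙ y, sup_le inf_le_left (pt_le_iff.2 (T.right x y hx)),
      by rw [finrank_sup_span_singleton ny]; omega, fun s hs ns => ?_⟩
    obtain ⟨m, hm, w, hw, rfl⟩ := mem_sup.1 hs
    obtain ⟨a, rfl⟩ := mem_span_singleton.1 hw
    have nm : m ∉ F ∙ x := fun h => ns (add_mem (pt_le x y h) (smul_mem _ a (right_mem x y)))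
    have e := finrank_sup_W f c ⟨i.1, ns⟩ (add_mem hm.1 (smul_mem _ a (T.right x y hx)))
    rw [← eq_sup_pt le_sup_left (by rw [finrank_sup_W f c i hz, r1]) (mem_sup_right ht) nt]
    refine eq_sup_pt le_sup_left (by rw [e, r1]) ?_ nt
    rw [sup_smul_add T hx]
    exact mem_sup_right (T.symm x t m hx nm hm.2)
  obtain ⟨N, h1, h2, h3⟩ := key z i hz
  obtain ⟨N', h1', h2', h3'⟩ := key z' i' hz'
  have := inf_ge h1 h1'
  have := finrank_pair_le (F := F) x y
  obtain ⟨s, hs, ns⟩ := H62.exists_mem_notMem (W := N ⊓ N') (Z := span F {x, y}) (by omega)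
  rw [h3 s hs.1 ns, h3' s hs.2 ns]

/-- the span of the second neighbourhood -/
def BB (T : TS G) (x y : V) : Submodule F V := ⨆ z ∈ T.W x y, T.W x z

theorem W_le_BB {x y z : V} (h : z ∈ T.W x y) : T.W x z ≤ BB T x y :=
  le_iSup₂_of_le (f := fun z (_ : z ∈ T.W x y) => T.W x z) z h le_rfl

theorem BB_map {g : V ≃ₗ[F] V} (hg : g ∈ G) (x y t : V) (h : t ∈ BB T x y) :
    g t ∈ BB T (g x) (g y) :=
  (iSup₂_le fun z hz s hs => W_le_BB (T.map g hg x y z hz) (T.map g hg x z s hs) :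
    BB T x y ≤ (BB T (g x) (g y)).comap (g : V →ₗ[F] V)) h

theorem BB_comm (hp : PL G) {x y : V} (h : Ind F x y) : BB T x y = BB T y x := by
  have := fun {x y : V} (h : Ind F x y) => comm_of_pl hp (BB T) (fun _ hg => BB_map hg)
    (fun x y t hx ht hn => by rw [BB, W_of_mem T hx ht hn, BB])
    (fun x y hx => (pair_le_W T hx y).trans (W_le_BB (T.right x y hx))) h
  exact (this h).antisymm (this h.symm)

theorem BB_eq (f : TF T r) (c : T.Cod r) (h5 : 5 ≤ r) {x y z : V} (i : Ind3 F x y z)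
    (hz : z ∈ T.W x y) : BB T x y = T.W x y ⊔ T.W x z := by
  refine le_antisymm (iSup₂_le fun s hs => ?_)
    (sup_le (W_le_BB (T.right x y i.1.1)) (W_le_BB hz))
  by_cases h : s ∈ span F {x, y}
  · exact (W_le_of_mem T i.1.1 h).trans le_sup_left
  · rw [sup_indep f c h5 i ⟨i.1, h⟩ hz hs]; exact le_sup_right

theorem BB_adj (f : TF T r) (c : T.Cod r) (h5 : 5 ≤ r) {x y z : V} (i : Ind F x y)
    (hz : z ∈ T.W x y) (hn : z ∉ F ∙ x) : BB T x z = BB T x y := by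
  by_cases h : z ∈ span F {x, y}
  · rw [BB, W_of_mem T i.1 h hn, BB]
  · rw [BB_eq f c h5 ⟨i, h⟩ hz, BB_eq f c h5 (ind3_swap ⟨i, h⟩) (T.symm x y z i.1 hn hz), sup_comm]

theorem BB_mem [Finite F] (f : TF T r) (c : T.Cod r) (h5 : 5 ≤ r) {x y t : V} (i : Ind F x y)
    (ht : t ∈ BB T x y) (hn : t ∉ F ∙ x) : BB T x t = BB T x y := by
  obtain ⟨z, hz, nz⟩ := T.nt x y i
  rw [BB_eq f c h5 ⟨i, nz⟩ hz] at ht
  obtain ⟨a, b, na, ha⟩ := cover f c ⟨i, nz⟩ hz ht
  rw [BB_adj f c h5 ⟨i.1, na⟩ ha hn,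
    BB_adj f c h5 i (add_mem (smul_mem _ a (T.right x y i.1)) (smul_mem _ b hz)) na]

theorem BB_all [Finite F] (hp : PL G) (f : TF T r) (c : T.Cod r) (h5 : 5 ≤ r) {x y a b : V}
    (i : Ind F x y) (ha : a ∈ BB T x y) (hb : b ∈ BB T x y) (j : Ind F a b) :
    BB T a b = BB T x y := by
  by_cases h : a ∈ F ∙ x
  · rw [← BB_mem f c h5 i hb (span_eq_pt h j.1 ▸ j.2), BB, BB]
    simp only [W_pt T h j.1]
  · have i' : Ind F x a := ⟨i.1, h⟩
    have e : BB T a x = BB T x y := by rw [← BB_comm hp i', BB_mem f c h5 i ha h]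
    rw [← e]
    exact BB_mem f c h5 i'.symm (e ▸ hb) j.2

section sub

variable {D : Submodule F V}

theorem ind_coe {a b : D} : Ind F a b ↔ Ind F (a : V) (b : V) := by
  rw [ind_iff, ind_iff]
  exact forall₂_congr fun s t => by rw [← Submodule.coe_eq_zero]; rfl

theorem pt_coe {a b : D} : b ∈ (F ∙ a) ↔ (b : V) ∈ F ∙ (a : V) := by
  rw [mem_span_singleton, mem_span_singleton]
  exact exists_congr fun s => by rw [Subtype.ext_iff]; rfl

theorem pair_coe {a b t : D} : t ∈ span F {a, b} ↔ (t : V) ∈ span F {(a : V), (b : V)} := by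
  rw [mem_span_pair, mem_span_pair]
  exact exists₂_congr fun s t => by rw [Subtype.ext_iff]; rfl

/-- restriction of `TS` to a closed subspace -/
def resTS (T : TS G) (D : Submodule F V) (hW : ∀ a ∈ D, ∀ b ∈ D, a ≠ 0 → T.W a b ≤ D)
    (hg : ∀ g ∈ G, ∀ a ∈ D, ∀ b ∈ D, Ind F a b → g a ∈ D → g b ∈ D → ∀ w ∈ D, g w ∈ D) :
    TS (res G D) where
  W a b := (T.W a b).comap D.subtype
  dep := fun a b h => by
    ext t
    rw [mem_comap, T.dep _ _ (pt_coe.1 h), pt_coe]; rfl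
  left := fun a b => T.left _ _
  right := fun a b h => T.right _ _ (by simpa using h)
  congr := fun a b a' b' h h' ha hb => by
    rw [T.congr _ _ _ _ (ind_coe.1 h) (ind_coe.1 h') (pair_coe.1 ha) (pair_coe.1 hb)]
  symm := fun a b t h hn ht => T.symm _ _ _ (by simpa using h) (fun e => hn (pt_coe.2 e)) ht
  map := fun e ⟨g, hg, he⟩ a b t ht => by
    have := T.map g hg _ _ _ ht
    rw [he, he, show g (D.subtype t) = e t from he t] at this
    exact this
  nt := fun a b h => by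
    obtain ⟨z, hz, nz⟩ := T.nt _ _ (ind_coe.1 h)
    exact ⟨⟨z, hW _ a.2 _ b.2 (ind_coe.1 h).1 hz⟩, hz, fun e => nz (pair_coe.1 e)⟩
  add := fun a b t h s hs => by
    have h0 : (a : V) ≠ 0 := by simpa using h
    obtain ⟨p, hp, w, hw, e⟩ := mem_sup.1 (T.add a b t h0 hs)
    exact mem_sup.2 ⟨⟨p, hW _ a.2 _ b.2 h0 hp⟩, hp, ⟨w, hW _ a.2 _ t.2 h0 hw⟩, hw, Subtype.ext e⟩
  key := fun x y z y' z' φ φ' h h' hz hz' p1 p2 p3 q1 q2 q3 => by
    obtain ⟨ψ, hψ⟩ := φ.exists_extend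
    obtain ⟨ψ', hψ'⟩ := φ'.exists_extend
    have e : ∀ w : D, ψ w = φ w := fun w => LinearMap.congr_fun hψ w
    have e' : ∀ w : D, ψ' w = φ' w := fun w => LinearMap.congr_fun hψ' w
    obtain ⟨g, hG, c, g1, g2, g3, g4⟩ := T.key x y z y' z' ψ ψ' (ind_coe.1 h) (ind_coe.1 h') hz hz'
      (by rw [e, p1]) (by rw [e, p2]) (by rw [e, p3]) (by rw [e', q1]) (by rw [e', q2])
      (by rw [e', q3])
    have hx : (F ∙ (x : V)) ≤ D := pt_le_iff.2 x.2
    obtain ⟨k, hk, hv⟩ := exists_res (W := D) hG (hg g hG _ x.2 _ y.2 (ind_coe.1 h) (hx g1)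
      (by simpa using add_mem (hx g2) (smul_mem _ c y'.2)))
    refine ⟨k, hk, c, pt_coe.2 (hv x ▸ g1), pt_coe.2 ?_, pt_coe.2 ?_, fun w => ?_⟩
    · rw [Submodule.coe_sub, hv]; exact g2
    · rw [Submodule.coe_sub, hv]; exact g3
    · rw [← e', hv, g4, e]

end sub

theorem jobR5 : JobR5.{u, v} := by
  intro F _ _ V _ _ _ G T r hs h2 hp f c h5 hr
  have : Nontrivial V := finrank_pos_iff.1 (show 0 < finrank F V by omega)
  obtain ⟨x, hx⟩ := exists_ne (0 : V)
  obtain ⟨y, i⟩ := exists_ind (F := F) (by omega) hx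
  obtain ⟨z, hz, nz⟩ := T.nt x y i
  have hW : ∀ a ∈ BB T x y, ∀ b ∈ BB T x y, a ≠ 0 → T.W a b ≤ BB T x y := fun a ha b hb h0 => by
    by_cases h : b ∈ F ∙ a
    · rw [T.dep a b h]; exact pt_le_iff.2 ha
    · rw [← BB_all hp f c h5 i ha hb ⟨h0, h⟩]; exact W_le_BB (T.right a b h0)
  have hg : ∀ g ∈ G, ∀ a ∈ BB T x y, ∀ b ∈ BB T x y, Ind F a b → g a ∈ BB T x y →
      g b ∈ BB T x y → ∀ w ∈ BB T x y, g w ∈ BB T x y := fun g hg a ha b hb j ga gb w hw => by
    rw [← BB_all hp f c h5 i ha hb j] at hw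
    rw [← BB_all hp f c h5 i ga gb (j.map g)]
    exact BB_map hg _ _ _ hw
  refine ⟨BB T x y, by rw [BB_eq f c h5 ⟨i, nz⟩ hz, finrank_sup_W f c ⟨i, nz⟩ hz],
    fun a b a' b' j j' => ?_, resTS T _ hW hg, fun a b j => ?_⟩
  · obtain ⟨g, hG, s, -, e1, e2⟩ := h2.pair hs (ind_coe.1 j) (ind_coe.1 j')
    obtain ⟨k, hk, hv⟩ := exists_res (W := BB T x y) hG (hg g hG _ a.2 _ b.2 (ind_coe.1 j)
      (e1 ▸ smul_mem _ s a'.2) (e2 ▸ b'.2))
    exact ⟨k, hk, s, 1, Subtype.ext (by rw [hv, e1]; rfl), Subtype.ext (by rw [hv, e2, one_smul])⟩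
  · rw [← f.rk _ _ (ind_coe.1 j)]
    exact (comapSubtypeEquivOfLe (hW _ a.2 _ b.2 (ind_coe.1 j).1)).finrank_eq

end H10.CK
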