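import Cfsg.Agent.H10.CKKit

/-! Tower CK: the subspaces `W x y` of a 2-transitive linear group (`JobTS`). -/

set_option autoImplicit false
set_option linter.unusedSectionVars false

namespace H10.CK

open Module Submodule H53.CK

universe u v

variable {F : Type u} [Field F] {V : Type v} [AddCommGroup V] [Module F V]
  {G : Subgroup (V ≃ₗ[F] V)}

theorem map_pt {g : V ≃ₗ[F] V} {x x0 : V} (h : g x ∈ F ∙ x0) {y : V} (hy : y ∈ F ∙ x) :
    g y ∈ F ∙ x0 := by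
  obtain ⟨c, rfl⟩ := mem_span_singleton.1 hy
  rw [map_smul]; exact smul_mem _ _ h

theorem map_pt_iff {g : V ≃ₗ[F] V} {x x0 : V} (hx : x ≠ 0) (h : g x ∈ F ∙ x0) {y : V} :
    g y ∈ F ∙ x0 ↔ y ∈ F ∙ x := by
  refine ⟨fun hy => ?_, map_pt h⟩
  rw [← span_eq_pt h (by simpa using hx)] at hy
  obtain ⟨c, hc⟩ := mem_span_singleton.1 hy
  exact mem_span_singleton.2 ⟨c, g.injective (by rw [map_smul, hc])⟩

section ex

variable {x0 : V} (S : WS (quo G (F ∙ x0)))

/-- the transported subspaces -/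
def WW (x y : V) : Submodule F V where
  carrier := {z | (x = 0 → z = 0) ∧
    ∀ g ∈ G, g x ∈ F ∙ x0 → (F ∙ x0).mkQ (g z) ∈ S.W ((F ∙ x0).mkQ (g y))}
  zero_mem' := ⟨fun _ => rfl, fun g _ _ => by simp⟩
  add_mem' := fun {a b} ha hb => ⟨fun h => by rw [ha.1 h, hb.1 h, add_zero], fun g hg h => by
    rw [map_add, map_add]; exact add_mem (ha.2 g hg h) (hb.2 g hg h)⟩
  smul_mem' := fun c a ha => ⟨fun h => by rw [ha.1 h, smul_zero], fun g hg h => by
    rw [map_smul, map_smul]; exact smul_mem _ c (ha.2 g hg h)⟩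

variable [FiniteDimensional F V]

theorem mem_WW {x y z : V} (hx : x ≠ 0) {g : V ≃ₗ[F] V} (hg : g ∈ G) (h : g x ∈ F ∙ x0) :
    z ∈ WW S x y ↔ (F ∙ x0).mkQ (g z) ∈ S.W ((F ∙ x0).mkQ (g y)) := by
  refine ⟨fun hz => hz.2 g hg h, fun hz => ⟨fun h0 => absurd h0 hx, fun g' hg' h' => ?_⟩⟩
  obtain ⟨e, he, hv⟩ := exists_quo (W := F ∙ x0) (G.mul_mem hg' (G.inv_mem hg)) fun w hw =>
    map_pt h' ((map_pt_iff hx h).1 (by simpa using hw))
  have := S.map e he _ _ hz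
  rw [hv, hv] at this
  simpa using this

theorem WW_left (x y : V) : x ∈ WW S x y :=
  ⟨id, fun g _ h => by rw [mk_eq_zero.2 h]; exact zero_mem _⟩

theorem WW_right {x : V} (hx : x ≠ 0) (y : V) : y ∈ WW S x y :=
  ⟨fun h => absurd h hx, fun _ _ _ => S.self _⟩

theorem WW_map {g : V ≃ₗ[F] V} (hg : g ∈ G) {x y z : V} (h : z ∈ WW S x y) :
    g z ∈ WW S (g x) (g y) :=
  ⟨fun h0 => by rw [h.1 (by simpa using h0), map_zero], fun k hk e => h.2 (k * g) (G.mul_mem hk hg) e⟩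

theorem WW_line {x y t : V} (ht : t ∈ span F {x, y}) (hn : t ∉ F ∙ x) : WW S x t = WW S x y := by
  obtain ⟨a, b, rfl⟩ := mem_span_pair.1 ht
  have hb : b ≠ 0 := fun hb => hn (mem_span_singleton.2 ⟨a, by simp [hb]⟩)
  have : ∀ g ∈ G, g x ∈ F ∙ x0 →
      S.W ((F ∙ x0).mkQ (g (a • x + b • y))) = S.W ((F ∙ x0).mkQ (g y)) := fun g _ h => by
    rw [map_add, map_add, map_smul, map_smul, map_smul, map_smul, mk_eq_zero.2 h, smul_zero, zero_add,
      S.smul b _ hb]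
  ext z
  exact and_congr_right fun _ => forall₃_congr fun g hg h => by rw [this g hg h]

theorem WW_pt {x x' : V} (h : x' ∈ F ∙ x) (h0 : x' ≠ 0) (y : V) : WW S x' y = WW S x y := by
  have hx : x ≠ 0 := by rintro rfl; exact h0 (by simpa using h)
  have e := span_eq_pt h h0
  ext z
  refine and_congr (by simp [hx, h0]) (forall₂_congr fun g _ => ⟨fun H hg => H (map_pt hg h),
    fun H hg => H (map_pt hg (e ▸ mem_span_singleton_self x))⟩)

theorem WW_comm (hp : PL G) {x y : V} (h : Ind F x y) : WW S x y ≤ WW S y x := fun z hz => by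
  by_cases hl : z ∈ span F {x, y}
  · exact pair_le (WW_right S h.symm.1 x) (WW_left S y x) hl
  have i3 : Ind3 F x y z := ⟨h, hl⟩
  obtain ⟨g, hg, g1, g2, g3⟩ := hp z y x (ind3_swap (ind3_rot i3)) 0 1
  obtain ⟨k, hk, k1, k2, k3⟩ := hp z x y (ind3_rot i3) 0 (-1)
  have e1 := WW_map S hg hz
  rw [g1, g2, g3, zero_smul, add_zero, one_smul] at e1
  have hxy : x ∉ F ∙ (x + y) := fun hm => by
    obtain ⟨c, hc⟩ := mem_span_singleton.1 hm
    have := ind_iff.1 h (c - 1) c (by rw [sub_smul, one_smul]; linear_combination (norm := module) hc)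
    rw [this.2] at this; simp at this
  rw [← WW_line S (t := x) (mem_span_pair.2 ⟨1, -1, by simp⟩) hxy] at e1
  have e2 := WW_map S hk e1
  rwa [k1, map_add, k2, k3, show x + (y + (0 : F) • z + (-1 : F) • x) = y by simp] at e2

/-- existence of `TS` -/
def mkTS [Finite F] (hs : Sc G) (h2 : T2 G) (hp : PL G) (h0 : x0 ≠ 0) : TS G where
  W := WW S
  dep := fun x y hy => by
    by_cases hx : x = 0
    · subst hx
      ext z
      exact ⟨fun hz => by simp [hz.1 rfl], fun hz => by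
        rw [show z = 0 by simpa using hz]; exact zero_mem _⟩
    obtain ⟨g, hg, e⟩ := h2.trans hs hx h0
    have h : g x ∈ F ∙ x0 := by rw [e]; exact mem_span_singleton_self x0
    ext z
    rw [mem_WW S hx hg h, mk_eq_zero.2 (map_pt h hy), S.zero, mem_bot, mk_eq_zero, map_pt_iff hx h]
  left := WW_left S
  right := fun _ y hx => WW_right S hx y
  congr := fun x y x' y' h h' hx hy => by
    by_cases hn : x' ∈ F ∙ x
    · rw [WW_pt S hn h'.1, WW_line S hy (span_eq_pt hn h'.1 ▸ h'.2)]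
    · have i : Ind F x x' := ⟨h.1, hn⟩
      have : y' ∈ span F {x', x} :=
        pair_le (right_mem x' x) (Set.pair_comm x x' ▸ exch hx hn) hy
      rw [WW_line S this h'.2, (WW_comm S hp i.symm).antisymm (WW_comm S hp i), WW_line S hx hn]
  symm := fun x y z hx hz h => ⟨fun e => absurd e hx, fun g hg e =>
    S.symm _ _ (fun h0 => hz ((map_pt_iff hx e).1 (mk_eq_zero.1 h0))) (h.2 g hg e)⟩
  map := fun _ hg _ _ _ h => WW_map S hg h
  nt := fun x y h => by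
    obtain ⟨g, hg, e⟩ := h2.trans hs h.1 h0
    have hx : g x ∈ F ∙ x0 := by rw [e]; exact mem_span_singleton_self x0
    obtain ⟨a, ha, hn⟩ := S.nt ((F ∙ x0).mkQ (g y))
      fun h0 => h.2 ((map_pt_iff h.1 hx).1 (mk_eq_zero.1 h0))
    obtain ⟨w, rfl⟩ := (F ∙ x0).mkQ_surjective a
    obtain ⟨z, rfl⟩ := g.surjective w
    refine ⟨z, (mem_WW S h.1 hg hx).2 ha, fun hz => hn (mk_mem_pt.2 ?_)⟩
    obtain ⟨a, b, rfl⟩ := mem_span_pair.1 hz
    exact mem_span_pair.2 ⟨a, b, by rw [map_add, map_smul, map_smul, e]⟩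
  add := fun x y z hx t ht => by
    obtain ⟨g, hg, e⟩ := h2.trans hs hx h0
    have h : g x ∈ F ∙ x0 := by rw [e]; exact mem_span_singleton_self x0
    rw [mem_WW S hx hg h, map_add, map_add] at ht
    obtain ⟨a, ha, b, hb, hab⟩ := mem_sup.1 (S.add _ _ ht)
    obtain ⟨w, rfl⟩ := (F ∙ x0).mkQ_surjective a
    obtain ⟨s, rfl⟩ := g.surjective w
    refine mem_sup.2 ⟨s, (mem_WW S hx hg h).2 ha, t - s, (mem_WW S hx hg h).2 ?_, by abel⟩
    rwa [map_sub, map_sub, ← hab, add_sub_cancel_left]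
  key := fun x y z y' z' φ φ' h h' hz hz' p1 p2 p3 q1 q2 q3 => by
    obtain ⟨g, hg, e⟩ := h2.trans hs h.1 h0
    have hx : g x ∈ F ∙ x0 := by rw [e]; exact mem_span_singleton_self x0
    obtain ⟨ψ, hψ⟩ := exists_bar (x := x0) (φ := φ ∘ₗ (g.symm : V →ₗ[F] V)) (by simp [← e, p1])
    obtain ⟨ψ', hψ'⟩ := exists_bar (x := x0) (φ := φ' ∘ₗ (g.symm : V →ₗ[F] V)) (by simp [← e, q1])
    obtain ⟨k, ⟨m, hm, hk⟩, c, k1, k2, k3⟩ := S.key _ _ _ _ ψ ψ'
      (fun h0 => h.2 ((map_pt_iff h.1 hx).1 (mk_eq_zero.1 h0)))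
      (fun h0 => h'.2 ((map_pt_iff h.1 hx).1 (mk_eq_zero.1 h0))) ((mem_WW S h.1 hg hx).1 hz)
      ((mem_WW S h.1 hg hx).1 hz') (by rw [hψ]; simp [p2]) (by rw [hψ]; simp [p3])
      (by rw [hψ']; simp [q2]) (by rw [hψ']; simp [q3])
    have back : ∀ a b, (F ∙ x0).mkQ (m (g a)) = (F ∙ x0).mkQ (g b) →
        (g⁻¹ * m * g) a - b ∈ F ∙ x := fun a b hab => by
      rw [← map_pt_iff h.1 hx, map_sub]
      simpa using mk_eq.1 hab
    refine ⟨g⁻¹ * m * g, G.mul_mem (G.mul_mem (G.inv_mem hg) hm) hg, c, ?_, back _ _ ?_, back _ _ ?_,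
      fun v => ?_⟩
    · simpa using back x 0 (by rw [← hk, mk_eq_zero.2 hx, map_zero, map_zero, map_zero])
    · rw [← hk, k1, map_smul, map_smul]
    · rw [← hk, k2]
    · have := k3 ((F ∙ x0).mkQ (g v))
      rw [hk, hψ, hψ'] at this
      simpa using this

end ex

section ws

variable (T : TS G) {x : V}

theorem W_mk (hx : x ≠ 0) {y y' : V} (h : y' - y ∈ F ∙ x) : T.W x y' = T.W x y := by
  have a : y' ∈ span F {x, y} := by simpa using add_mem (pt_le x y h) (right_mem x y)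
  have b : y ∈ span F {x, y'} := by simpa using sub_mem (right_mem x y') (pt_le x y' h)
  exact (W_le_of_mem T hx a).antisymm (W_le_of_mem T hx b)

/-- the subspaces of the quotient -/
noncomputable def wq (x : V) (a : V ⧸ F ∙ x) : Submodule F (V ⧸ F ∙ x) :=
  (T.W x (Quotient.out a)).map (F ∙ x).mkQ

theorem wq_mk (hx : x ≠ 0) (y : V) : wq T x ((F ∙ x).mkQ y) = (T.W x y).map (F ∙ x).mkQ := by
  rw [wq, W_mk T hx (mk_eq.1 (Quotient.out_eq' _))]

theorem mem_wq (hx : x ≠ 0) {y z : V} :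
    (F ∙ x).mkQ z ∈ wq T x ((F ∙ x).mkQ y) ↔ z ∈ T.W x y := by
  rw [wq_mk T hx, mk_mem_map (T.left x y)]

/-- `WS` on the quotient by a point -/
noncomputable def ws [FiniteDimensional F V] (hx : x ≠ 0) : WS (quo G (F ∙ x)) where
  W := wq T x
  zero := by
    rw [← map_zero (F ∙ x).mkQ, wq_mk T hx, T.dep x 0 (zero_mem _), mkQ_map_self]
  self := fun a => by
    obtain ⟨y, rfl⟩ := (F ∙ x).mkQ_surjective a
    exact (mem_wq T hx).2 (T.right x y hx)
  smul := fun c a hc => by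
    obtain ⟨y, rfl⟩ := (F ∙ x).mkQ_surjective a
    rw [← map_smul, wq_mk T hx, wq_mk T hx,
      (W_le_of_mem T hx (smul_mem _ c (right_mem x y))).antisymm (W_le_of_mem T hx (by
        simpa [hc] using smul_mem _ c⁻¹ (right_mem (F := F) x (c • y))))]
  symm := fun a b hb h => by
    obtain ⟨y, rfl⟩ := (F ∙ x).mkQ_surjective a
    obtain ⟨z, rfl⟩ := (F ∙ x).mkQ_surjective b
    exact (mem_wq T hx).2 (T.symm x y z hx (fun h0 => hb (mk_eq_zero.2 h0)) ((mem_wq T hx).1 h))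
  map := fun e ⟨g, hg, he⟩ a b h => by
    obtain ⟨y, rfl⟩ := (F ∙ x).mkQ_surjective a
    obtain ⟨z, rfl⟩ := (F ∙ x).mkQ_surjective b
    have h1 : g x ∈ F ∙ x := by
      rw [← mk_eq_zero, ← he, mk_eq_zero.2 (mem_span_singleton_self x), map_zero]
    rw [he, he, mem_wq T hx, ← W_pt T h1 (by simpa using hx)]
    exact T.map g hg _ _ _ ((mem_wq T hx).1 h)
  nt := fun a ha => by
    obtain ⟨y, rfl⟩ := (F ∙ x).mkQ_surjective a
    obtain ⟨z, hz, hn⟩ := T.nt x y ⟨hx, fun h0 => ha (mk_eq_zero.2 h0)⟩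
    exact ⟨_, (mem_wq T hx).2 hz, fun h => hn (mk_mem_pt.1 h)⟩
  add := fun a b => by
    obtain ⟨y, rfl⟩ := (F ∙ x).mkQ_surjective a
    obtain ⟨z, rfl⟩ := (F ∙ x).mkQ_surjective b
    rw [← map_add, wq_mk T hx, wq_mk T hx, wq_mk T hx, ← Submodule.map_sup]
    exact map_mono (T.add x y z hx)
  key := fun a b a' b' φ φ' ha ha' h h' p1 p2 q1 q2 => by
    obtain ⟨y, rfl⟩ := (F ∙ x).mkQ_surjective a
    obtain ⟨z, rfl⟩ := (F ∙ x).mkQ_surjective b
    obtain ⟨y', rfl⟩ := (F ∙ x).mkQ_surjective a'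
    obtain ⟨z', rfl⟩ := (F ∙ x).mkQ_surjective b'
    have e0 : (F ∙ x).mkQ x = 0 := mk_eq_zero.2 (mem_span_singleton_self x)
    obtain ⟨g, hg, c, g1, g2, g3, g4⟩ := T.key x y z y' z' (φ ∘ₗ (F ∙ x).mkQ) (φ' ∘ₗ (F ∙ x).mkQ)
      ⟨hx, fun h0 => ha (mk_eq_zero.2 h0)⟩ ⟨hx, fun h0 => ha' (mk_eq_zero.2 h0)⟩ ((mem_wq T hx).1 h)
      ((mem_wq T hx).1 h') (by rw [LinearMap.comp_apply, e0, map_zero]) p1 p2
      (by rw [LinearMap.comp_apply, e0, map_zero]) q1 q2
    obtain ⟨e, he, hv⟩ := exists_quo (W := F ∙ x) hg fun w hw => map_pt g1 hw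
    refine ⟨e, he, c, by rw [hv, ← map_smul, mk_eq]; exact g2, by rw [hv, mk_eq]; exact g3,
      fun v => ?_⟩
    obtain ⟨w, rfl⟩ := (F ∙ x).mkQ_surjective v
    rw [hv]; exact g4 w

end ws

theorem jobTS : JobTS.{u, v} := by
  intro jWS jWF jB1 F _ _ V _ _ _ G hs h2 hp h3
  have hq : ∀ {x : V}, x ≠ 0 → 2 ≤ finrank F (V ⧸ F ∙ x) := fun hx => by
    have := finrank_quo_pt (F := F) hx; omega
  have : Nontrivial V := finrank_pos_iff.1 (show 0 < finrank F V by omega)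
  obtain ⟨x0, h0⟩ := exists_ne (0 : V)
  refine ⟨?_, fun T => ⟨?_, fun ht x hx a b a' b' h h' => ?_⟩⟩
  · obtain ⟨S⟩ := jWS F _ (quo G (F ∙ x0)) (hs.quo _) (h2.af_quo hs h0) (hq h0)
    exact ⟨mkTS S hs h2 hp h0⟩
  · obtain ⟨y0, i0⟩ := exists_ind (F := F) (by omega) h0
    have rk : ∀ x y, Ind F x y → finrank F (T.W x y) = finrank F (T.W x0 y0) := fun x y h => by
      obtain ⟨g, hg, c, hc, e1, e2⟩ := h2.pair hs h i0
      rw [← W_pt T (smul_mem _ c (mem_span_singleton_self x0)) (smul_ne_zero hc h0), ← e1, ← e2,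
        W_map_eq T hg, LinearEquiv.finrank_map_eq]
    generalize finrank F (T.W x0 y0) = r at rk
    have wf : ∀ {x : V} (hx : x ≠ 0), ∃ w, w + 1 = r ∧ WF (ws T hx) w := fun {x} hx => by
      obtain ⟨w, hw⟩ := jWF F _ _ (ws T hx) (hs.quo _) (h2.af_quo hs hx) (hq hx)
      obtain ⟨y, i⟩ := exists_ind (F := F) (by omega) hx
      refine ⟨w, ?_, hw⟩
      rw [← hw.rk _ fun h0 => i.2 (mk_eq_zero.1 h0), ← rk x y i, ← finrank_map_pt hx (T.left x y)]
      exact congrArg (fun U : Submodule F _ => finrank F U + 1) (wq_mk T hx y)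
    refine ⟨r, rk, fun x φ hx hφ e => ?_, ?_, fun hb hr => ?_⟩
    · obtain ⟨w, hw, f⟩ := wf hx
      obtain ⟨ψ, hψ⟩ := exists_bar e
      have := f.circ ψ fun h => hφ (LinearMap.ext fun v => by rw [← hψ, h]; rfl)
      refine ⟨((ws T hx).circ (LinearMap.ker ψ)).comap (F ∙ x).mkQ, fun y => ?_, ?_⟩
      · change wq T x _ ≤ _ ↔ _
        rw [wq_mk T hx, map_le_iff_le_comap]
        exact forall₂_congr fun z _ => by rw [mem_comap, LinearMap.mem_ker, hψ, LinearMap.mem_ker]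
      · rw [← finrank_map_pt hx (U := Submodule.comap _ _) (by
          rw [mem_comap, mk_eq_zero.2 (mem_span_singleton_self x)]; exact zero_mem _),
          map_comap_eq_of_surjective (F ∙ x).mkQ_surjective, ← finrank_quo_pt hx]
        omega
    · by_contra hc
      rw [not_or] at hc
      refine hc.2 fun x y z i hz => ?_
      obtain ⟨w, hw, f⟩ := wf i.1.1
      rcases f.dich with d | d
      · refine absurd (fun x' y' z' hx' hn hz' => ?_) hc.1
        obtain ⟨g, hg, rfl⟩ := h2.trans hs i.1.1 hx'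
        obtain ⟨y', rfl⟩ := g.surjective y'
        obtain ⟨z', rfl⟩ := g.surjective z'
        have := d ((F ∙ x).mkQ y') _ (fun h0 => hn (map_pt (mem_span_singleton_self _)
          (mk_eq_zero.1 h0))) ((mem_wq T i.1.1).2 ((W_map T hg _ _ _).1 hz'))
        rw [W_map_eq T hg, W_map_eq T hg]
        congr 1
        ext t
        rw [← mem_wq T i.1.1, ← mem_wq T i.1.1]
        exact Iff.of_eq (congrArg (fun U => (F ∙ x).mkQ t ∈ U) this)
      · have := d _ _ (fun h0 => i.1.2 (mk_eq_zero.1 h0)) ((mem_wq T i.1.1).2 hz)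
          fun h => i.2 (mk_mem_pt.1 h)
        change finrank F ↥(wq T x _ ⊓ wq T x _) + 1 = w at this
        rw [wq_mk T i.1.1, wq_mk T i.1.1, ← map_inf_mk (T.left x y) (T.left x z),
          finrank_map_pt i.1.1 (show x ∈ _ ⊓ _ from ⟨T.left x y, T.left x z⟩)] at this
        omega
    · have b1 : ∀ {x : V} (hx : x ≠ 0), Nat.card F = 2 ∧ r = 3 ∧ ∃ ω : V →ₗ[F] V, ω x = 0 ∧
          ∀ y, ω y ∈ T.W x y ∧ ω (ω y) + ω y + y ∈ F ∙ x := fun {x} hx => by
        obtain ⟨w, hw, f⟩ := wf hx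
        obtain ⟨c2, w2, ω, hω⟩ := jB1 F _ _ (ws T hx) w f.rk (fun a b hb0 h => by
          obtain ⟨y, rfl⟩ := (F ∙ x).mkQ_surjective a
          obtain ⟨z, rfl⟩ := (F ∙ x).mkQ_surjective b
          change wq T x _ = wq T x _
          rw [wq_mk T hx, wq_mk T hx,
            hb x y z hx (fun h0 => hb0 (mk_eq_zero.2 h0)) ((mem_wq T hx).1 h)])
          (by have := finrank_quo_pt (F := F) hx; omega)
        obtain ⟨s, hs⟩ := (F ∙ x).mkQ.exists_rightInverse_of_surjective (range_mkQ _)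
        have hs' : ∀ a, (F ∙ x).mkQ (s a) = a := fun a => LinearMap.congr_fun hs a
        refine ⟨c2, by omega, s ∘ₗ ω ∘ₗ (F ∙ x).mkQ, by
          simp only [LinearMap.comp_apply, mk_eq_zero.2 (mem_span_singleton_self x), map_zero],
          fun y => ⟨(mem_wq T hx).1 ?_, mk_eq_zero.1 ?_⟩⟩
        · simp only [LinearMap.comp_apply, hs']; exact (hω _).1
        · simp only [LinearMap.comp_apply, map_add, hs']; exact (hω _).2
      exact ⟨(b1 h0).1, (b1 h0).2.1, fun x hx => (b1 hx).2.2⟩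
  · obtain ⟨φ, p1, p2⟩ := H62.exists_dual_pair h.2
    obtain ⟨φ', q1, q2⟩ := H62.exists_dual_pair h'.2
    have top : ∀ a b : V ⧸ F ∙ x, a ≠ 0 → b ∈ (ws T hx).W a := fun a b ha => by
      obtain ⟨y, rfl⟩ := (F ∙ x).mkQ_surjective a
      obtain ⟨z, rfl⟩ := (F ∙ x).mkQ_surjective b
      exact (mem_wq T hx).2 (ht x y ⟨hx, fun h0 => ha (mk_eq_zero.2 h0)⟩ ▸ mem_top)
    obtain ⟨g, hg, c, e1, e2, -⟩ :=
      (ws T hx).key a b a' b' φ φ' h.1 h'.1 (top _ _ h.1) (top _ _ h'.1) p2 p1 q2 q1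
    exact ⟨g, hg, c, 1, e1, by rw [e2, one_smul]⟩

end H10.CK
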