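import Cfsg.Agent.H57.DPCSpec
import Cfsg.Agent.H1.CoprimeGen

/-! S3275, chapter C+KM, job Sm: transport of the facts on the three groups. -/

set_option autoImplicit false

namespace H10.DSm

open Subgroup Cfsg H98 H48.DP H57.DPC

universe u

variable {G : Type u} [Group G]

theorem ord_coe {K : Subgroup G} {g : G} (hg : g ∈ K) : orderOf (⟨g, hg⟩ : K) = orderOf g :=
  (orderOf_mk g hg)

theorem comm_coe {K : Subgroup G} {g h : G} (hg : g ∈ K) (hh : h ∈ K) (hc : Commute g h) :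
    Commute (⟨g, hg⟩ : K) ⟨h, hh⟩ := Subtype.ext hc

theorem conj_mem_Z {S : Subgroup G} {a z : G} (ha : a ∈ No S) (hz : z ∈ S ⊓ Ce S) :
    a * z * a⁻¹ ∈ S ⊓ Ce S := by
  refine ⟨(mem_normalizer_iff.1 ha z).1 hz.1, mem_centralizer_iff.2 fun s hs => ?_⟩
  have h1 : a⁻¹ * s * a⁻¹⁻¹ ∈ S := (mem_normalizer_iff.1 (inv_mem ha) s).1 hs
  have h2 := mem_centralizer_iff.1 hz.2 _ h1
  calc s * (a * z * a⁻¹) = a * ((a⁻¹ * s * a⁻¹⁻¹) * z) * a⁻¹ := by group
    _ = a * (z * (a⁻¹ * s * a⁻¹⁻¹)) * a⁻¹ := by rw [h2]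
    _ = a * z * a⁻¹ * s := by group

theorem no_Z (S : Subgroup G) : No S ≤ No (S ⊓ Ce S) := by
  intro a ha
  refine mem_normalizer_iff.2 fun z => ⟨conj_mem_Z ha, fun h => ?_⟩
  have := conj_mem_Z (inv_mem ha) h
  simpa [mul_assoc] using this

theorem Z_ne_bot [Finite G] {S : Subgroup G} (hS : IsPGroup 2 S) (h : S ≠ ⊥) : S ⊓ Ce S ≠ ⊥ := by
  have : Nontrivial S := (nontrivial_iff_ne_bot _).2 h
  have := hS.center_nontrivial
  obtain ⟨⟨z, hz⟩, hz1⟩ := exists_ne (1 : center S)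
  intro hb
  have hm : (z : G) ∈ S ⊓ Ce S := ⟨z.2, mem_centralizer_iff.2 fun s hs =>
    congrArg Subtype.val (mem_center_iff.1 hz ⟨s, hs⟩)⟩
  rw [hb] at hm
  exact hz1 (Subtype.ext (Subtype.ext (mem_bot.1 hm)))

theorem simple_sub {K : Subgroup G} (hs : IsSimpleGroup K) (N : Subgroup G) (hN : N ≤ K)
    (hK : K ≤ No N) : N = ⊥ ∨ N = K := by
  have hn : (N.subgroupOf K).Normal := (normal_subgroupOf_iff_le_normalizer hN).2 hK
  rcases hn.eq_bot_or_eq_top with h | h
  · left
    rw [subgroupOf_eq_bot] at h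
    exact h.eq_bot_of_le hN
  · right
    exact le_antisymm hN (subgroupOf_eq_top.1 h)

theorem jobSm : JobSm.{u} := by
  intro hCen hKN hFA G _ _ K h3
  obtain ⟨hs, hnc, ⟨A, hAc, hA2, hA4⟩, -, -, -⟩ := hCen K h3
  obtain ⟨-, hrk, -⟩ := hKN K h3
  have hF := hFA K h3
  have simple := simple_sub hs
  have four : ∃ s ∈ K, ∃ t ∈ K, orderOf s = 2 ∧ orderOf t = 2 ∧ Commute s t ∧ s ≠ t := by
    have h3' : 2 < Nat.card A := by omega
    have : Nontrivial A := Finite.one_lt_card_iff_nontrivial.1 (by omega)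
    obtain ⟨s, hs1⟩ := exists_ne (1 : A)
    obtain ⟨t, ht1, hts⟩ : ∃ t : A, t ≠ 1 ∧ t ≠ s := by
      by_contra hcon
      push Not at hcon
      have hle : (Set.univ : Set A) ⊆ {1, s} := by
        intro t _
        by_cases h : t = 1
        · exact Or.inl h
        · exact Or.inr (hcon t h)
      have h1 := Set.ncard_le_ncard hle
      rw [Set.ncard_univ, Set.ncard_pair hs1.symm] at h1
      omega
    have ho : ∀ w : A, w ≠ 1 → orderOf ((w : K) : G) = 2 := fun w hw => by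
      refine orderOf_eq_prime ?_ fun h => hw (Subtype.ext (Subtype.ext h))
      exact congrArg Subtype.val (hA2 w w.2)
    refine ⟨s, (s : K).2, t, (t : K).2, ho s hs1, ho t ht1, ?_, fun h => hts ?_⟩
    · exact congrArg (fun w : A => ((w : K) : G)) (hAc.is_comm.comm s t)
    · exact Subtype.ext (Subtype.ext h.symm)
  have f3 : ∀ y ∈ K, ∀ s ∈ K, ∀ t ∈ K, orderOf y = 3 → orderOf s = 2 → orderOf t = 2 →
      Commute y s → Commute y t → Commute s t → s = t := by
    intro y hy s hs t ht h1 h2 h3 h4 h5 h6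
    exact congrArg Subtype.val (hF.f3 ⟨y, hy⟩ ⟨s, hs⟩ ⟨t, ht⟩ ((ord_coe hy).trans h1)
      ((ord_coe hs).trans h2) ((ord_coe ht).trans h3) (comm_coe hy hs h4) (comm_coe hy ht h5)
      (comm_coe hs ht h6))
  refine ⟨simple, ?_, ?_, four, ?_, f3, ?_, ?_⟩
  · rcases simple (K ⊓ Ce K) inf_le_left (le_normalizer.trans (no_Z K)) with h | h
    · exact h
    · exfalso
      refine hnc ⟨⟨fun a b => Subtype.ext ?_⟩⟩
      have hb : (b : G) ∈ K ⊓ Ce K := h.symm ▸ b.2
      exact mem_centralizer_iff.1 hb.2 a a.2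
  · intro X hX
    set N : Subgroup G := closure {g | g ∈ K ∧ orderOf g = 2} with hN
    have hNK : N ≤ K := (closure_le _).2 fun g hg => hg.1
    have hNX : N ≤ X := (closure_le _).2 fun g hg => hX g hg.1 hg.2
    have key : ∀ a ∈ K, ∀ n ∈ N, a * n * a⁻¹ ∈ N := by
      intro a ha n hn
      have : N ≤ N.comap (MulAut.conj a).toMonoidHom := by
        refine (closure_le _).2 fun g hg => subset_closure ⟨?_, ?_⟩
        · exact K.mul_mem (K.mul_mem ha hg.1) (K.inv_mem ha)
        · exact ((MulAut.conj a).orderOf_eq g).trans hg.2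
      exact this hn
    have hKN' : K ≤ No N := by
      intro a ha
      refine mem_normalizer_iff.2 fun z => ⟨key a ha z, fun h => ?_⟩
      have := key a⁻¹ (inv_mem ha) _ h
      simpa [mul_assoc] using this
    rcases simple N hNK hKN' with h | h
    · exfalso
      obtain ⟨s, hs, -, -, hs2, -⟩ := four
      have : s ∈ N := subset_closure ⟨hs, hs2⟩
      rw [h, mem_bot] at this
      rw [this, orderOf_one] at hs2
      omega
    · exact h ▸ hNX
  · obtain ⟨V, y, hV, hV1, hy, hyV⟩ := hF.loc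
    refine ⟨V.map K.subtype, map_subtype_le V, y, y.2, hV.map _, ?_, (orderOf_coe y).trans hy, ?_⟩
    · rwa [Ne, map_eq_bot_iff_of_injective V K.subtype_injective]
    · exact le_normalizer_map K.subtype (mem_map_of_mem _ hyV)
  · intro P S hPK hSK hP hS hPS
    by_contra hcon
    push Not at hcon
    obtain ⟨hS1, hP3⟩ := hcon
    have hPp : IsPGroup 3 P := H87.KM.pgrp Nat.prime_three hP
    have hZp : IsPGroup 2 ↥(S ⊓ Ce S) := hS.to_le inf_le_left
    have := hP.1
    have hnc : ¬ IsCyclic P := by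
      intro hc
      have h1 : Monoid.exponent P ∣ 3 :=
        Monoid.exponent_dvd_of_forall_pow_eq_one fun g => Subtype.ext (hP.2 g g.2)
      rw [IsCyclic.exponent_eq_card] at h1
      have := Nat.le_of_dvd (by norm_num) h1
      omega
    obtain ⟨y, hyP, hy1, hy⟩ : ∃ y ∈ P, y ≠ 1 ∧ (S ⊓ Ce S) ⊓ C1 y ≠ ⊥ := by
      by_contra hcon
      push Not at hcon
      exact Z_ne_bot hS hS1 (le_bot_iff.1 (H1.le_of_noncyclic_centralizer_le hnc
        (hPS.trans (no_Z S)) (H87.KM.coprime_two Nat.prime_three (by norm_num) hPp hZp) ⊥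
        fun a ha ha1 => (hcon a ha ha1).le))
    obtain ⟨t, ⟨htZ, hty⟩, ht2⟩ := H87.KM.exists_inv (hZp.to_le inf_le_left) hy
    have hy3 : orderOf y = 3 := orderOf_eq_prime (hP.2 y hyP) hy1
    have hyt : Commute y t := (mem_centralizer_singleton_iff.1 hty).symm
    have htK : t ∈ K := hSK htZ.1
    have hPt : P.subgroupOf K ≤ C1 (⟨t, htK⟩ : K) := by
      intro a ha
      have haP : (a : G) ∈ P := ha
      have h1 := conj_mem_Z (hPS haP) htZ
      have hay : Commute y (a : G) :=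
        congrArg Subtype.val (hP.1.is_comm.comm (⟨y, hyP⟩ : P) ⟨a, haP⟩)
      have h2 := f3 y (hPK hyP) _ (hSK h1.1) t htK hy3
        (((MulAut.conj (a : G)).orderOf_eq t).trans ht2) ht2
        ((hay.mul_right hyt).mul_right hay.inv_right) hyt (mem_centralizer_iff.1 htZ.2 _ h1.1)
      refine mem_centralizer_singleton_iff.2 (Subtype.ext ?_)
      exact mul_inv_eq_iff_eq_mul.1 h2
    refine hF.c9 ⟨t, htK⟩ ((ord_coe htK).trans ht2) (Dvd.dvd.trans ?_ (card_dvd_of_le hPt))
    rw [Nat.card_congr (subgroupOfEquivOfLe hPK).toEquiv]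
    have : Fact (Nat.Prime 3) := ⟨Nat.prime_three⟩
    obtain ⟨n, hn⟩ := hPp.exists_card_eq
    rw [hn] at hP3 ⊢
    have : 2 ≤ n := by
      by_contra hlt
      have : n = 0 ∨ n = 1 := by omega
      rcases this with rfl | rfl <;> simp at hP3
    exact pow_dvd_pow 3 this
  · intro P hPK hP
    have := hP.1
    have h1 := hrk (P.subgroupOf K) inferInstance fun a ha => Subtype.ext (hP.2 a ha)
    rwa [Nat.card_congr (subgroupOfEquivOfLe hPK).toEquiv] at h1

end H10.DSm
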