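import Cfsg.Agent.H57.U2CSpec
import Cfsg.Agent.H48.DP3Kit

/-! # S3275, chapter U2C, slot NL -/

set_option autoImplicit false

namespace H10.DpvNL

open Subgroup Cfsg H98 H48.DP H57.U2C
open scoped commutatorElement

universe u

theorem aut_sq {U : Type*} [Group U] [Finite U] (cm : ∀ a b : U, a * b = b * a)
    (h3 : ∀ a : U, a ^ 3 = 1) (card : Nat.card U = 9) {x : U} (x1 : x ≠ 1) (φ : MulAut U)
    (hx : φ x ∈ zpowers x) {k : ℕ} (hk : φ ^ 2 ^ k = 1) (v : U) : φ (φ v) = v := by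
  have : Fact (Nat.Prime 3) := ⟨Nat.prime_three⟩
  have ox : orderOf x = 3 := orderOf_eq_prime (h3 x) x1
  have idx : (zpowers x).relIndex ⊤ = 3 := by
    have := card_mul_index (zpowers x)
    rw [Nat.card_zpowers, ox, card] at this
    rw [relIndex_top_right]; omega
  have hX : ∀ a ∈ zpowers x, φ a ∈ zpowers x := by
    rintro _ ⟨n, rfl⟩
    simpa using zpow_mem hx n
  have hxx : φ (φ x) = x := by
    obtain ⟨n, hn⟩ := (mem_powers_iff_mem_zpowers.2 hx)
    have hn' : x ^ (n % 3) = φ x := by rw [← ox, pow_mod_orderOf]; exact hn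
    have : n % 3 = 0 ∨ n % 3 = 1 ∨ n % 3 = 2 := by omega
    rcases this with e | e | e <;> rw [e] at hn'
    · exact absurd (by simpa using hn'.symm) x1
    · rw [pow_one] at hn'; rw [← hn', ← hn']
    · rw [← hn', map_pow, ← hn', ← pow_mul, show 2 * 2 = 3 + 1 from rfl, pow_succ, h3, one_mul]
  have hX2 : ∀ a ∈ zpowers x, φ (φ a) = a := by
    rintro _ ⟨n, rfl⟩
    simp only [map_zpow, hxx]
  have key : ∀ w : U, w⁻¹ * φ (φ w) ∈ zpowers x := by
    intro w
    by_cases hw : w ∈ zpowers x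
    · rw [hX2 w hw, inv_mul_cancel]; exact one_mem _
    have hw' : φ w ∉ zpowers x := fun h => hw (by
      have := φ.injective (hX2 _ h)
      rw [← this]; exact hX _ h)
    have e2 : w⁻¹ * w⁻¹ = w := by
      have := h3 w
      rw [← mul_inv_rev, inv_eq_iff_mul_eq_one, ← this, pow_succ, pow_two]
    rcases cover3 idx (a := 1) (b := w) (c := w⁻¹) (g := φ w) trivial trivial trivial trivial
      (by simpa using hw) (by simpa using hw) (by rwa [e2]) with h | h | h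
    · exact absurd (by simpa using h) hw'
    · have := mul_mem h (hX _ h)
      rwa [map_mul, map_inv, mul_assoc, mul_inv_cancel_left] at this
    · rw [inv_inv] at h
      have := mul_mem (inv_mem h) (hX _ h)
      rwa [map_mul, cm w, mul_inv_rev, mul_assoc, inv_mul_cancel_left] at this
  have e3 : (φ ^ 2) ^ 3 = 1 := by
    ext w
    obtain ⟨c, hc⟩ : ∃ c, c = w⁻¹ * φ (φ w) := ⟨_, rfl⟩
    have c1 : c ∈ zpowers x := hc ▸ key w
    have c2 : φ (φ w) = w * c := by rw [hc, mul_inv_cancel_left]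
    have c3 := hX2 c c1
    have : ((φ ^ 2) ^ 3) w = φ (φ (φ (φ (φ (φ w))))) := by
      simp only [pow_succ, pow_zero, one_mul, MulAut.mul_apply]
    rw [this, c2, map_mul, map_mul, c2, c3, map_mul, map_mul, map_mul, map_mul, c2, c3,
      MulAut.one_apply]
    calc w * c * c * c = w * c ^ 3 := by rw [pow_succ, pow_two]; group
      _ = w := by rw [h3, mul_one]
  have e2 : (φ ^ 2) ^ 2 ^ k = 1 := by rw [← pow_mul, mul_comm, pow_mul, hk, one_pow]
  have e1 : φ ^ 2 = 1 := orderOf_eq_one_iff.1 (Nat.eq_one_of_dvd_coprimes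
    (Nat.Coprime.pow_right k (by decide : Nat.Coprime 3 2)) (orderOf_dvd_of_pow_eq_one e3)
    (orderOf_dvd_of_pow_eq_one e2))
  have : (φ ^ 2) v = v := by rw [e1, MulAut.one_apply]
  rwa [pow_two, MulAut.mul_apply] at this

theorem jobNL : JobNL.{u} := by
  intro kk G _ _ M Q T R Q₀ F U y t x sb UF ea c9 TU xU x1 Tx
  have : Fact (Nat.Prime 3) := ⟨Nat.prime_three⟩
  have kq := sb.kq
  have U3 : IsPGroup 3 U := kq.F3.to_le UF
  have Q2 : IsPGroup 2 Q₀ := kq.T2.to_le kq.le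
  have UQ : U ≤ No Q₀ := UF.trans kq.FQ
  have triv : ∀ a ∈ U, a ∈ Q₀ → a = 1 := fun a ha hq => by
    by_contra a1
    exact not_mem_of_three Q2 (orderOf_eq_prime (ea.2 a ha) a1) hq
  have QT : Q₀ ≤ T ⊓ stab (Q₀ ⊔ U) Q₀ := fun q hq =>
    ⟨kq.le hq, mem_stab.2 ⟨le_normalizer hq, fun c hc => by
      rw [commutatorElement_def, mul_assoc]
      have := mul_mem (conj_mem_of_mem_normalizer (sup_le le_normalizer UQ hc) hq) (inv_mem hq)
      simpa only [mul_assoc] using this⟩⟩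
  have TT : T ≤ No (T ⊓ stab (Q₀ ⊔ U) Q₀) :=
    le_normalizer_inf le_normalizer (le_normalizer_stab TU kq.TQ)
  have k1 : Kq T (T ⊓ stab (Q₀ ⊔ U) Q₀) U := by
    refine ⟨kq.T2, U3, inf_le_left, TT, fun a ha => mem_normalizer_of_cj_le ?_, ?_⟩
    · rintro _ ⟨s, hs, rfl⟩
      have e : (MulAut.conj a).toMonoidHom s = ⁅a, s⁆ * s := by
        simp [commutatorElement_def]
      rw [e]
      exact mul_mem (QT ((mem_stab.1 hs.2).2 a (mem_sup_right ha))) hs
    · have e : (T ⊓ stab (Q₀ ⊔ U) Q₀) ⊔ U = (T ⊓ stab (Q₀ ⊔ U) Q₀) ⊔ (Q₀ ⊔ U) := by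
        rw [← sup_assoc, sup_eq_left.2 QT]
      rw [e]
      exact le_normalizer_sup TT TU
  have cm : ∀ a b : U, a * b = b * a := fun a b => ea.1.is_comm.comm a b
  have h3 : ∀ a : U, a ^ 3 = 1 := fun a => Subtype.ext (ea.2 a a.2)
  have nc : ¬ IsCyclic U := fun hc => by
    have := IsCyclic.exponent_eq_card (α := U)
    have h2 := Monoid.exponent_dvd_of_forall_pow_eq_one h3
    rw [this, c9] at h2
    exact absurd h2 (by decide)
  refine sb.el _ U (sb.QQ.trans QT) k1 (UF.trans sb.FM) nc fun s hs => ?_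
  have sT : s ∈ T := sb.RT (cj_le_of_le inf_le_right sb.yR hs)
  obtain ⟨φ, hφ⟩ := (kk G T Q₀ U ⟨kq.T2, U3, kq.le, kq.TQ, UQ, TU⟩).2.2.2.2.2.2 s sT
  have it : ∀ (n : ℕ) (f : U), (((φ ^ n) f : U) : G)⁻¹ * (s ^ n * f * (s ^ n)⁻¹) ∈ Q₀ := by
    intro n
    induction n with
    | zero => intro f; simp
    | succ n ih =>
      intro f
      have h1 := mul_mem (hφ ((φ ^ n) f)) (conj_mem_of_mem_normalizer (kq.TQ sT) (ih f))
      rw [pow_succ', pow_succ', MulAut.mul_apply]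
      convert h1 using 1
      group
  obtain ⟨k, hk⟩ := isPGroup_iff_forall.1 kq.T2 s sT
  have hk' : φ ^ 2 ^ k = 1 := by
    ext f
    have h1 := it (2 ^ k) f
    rw [hk, one_mul, inv_one, mul_one] at h1
    have := triv _ (mul_mem (inv_mem ((φ ^ 2 ^ k) f).2) f.2) h1
    simpa using inv_mul_eq_one.1 this
  have hx : φ ⟨x, xU⟩ ∈ zpowers (⟨x, xU⟩ : U) := by
    have h1 : s * x * s⁻¹ ∈ zpowers x ⊔ Q₀ := by
      rw [sup_comm]
      exact conj_mem_of_mem_normalizer (Tx sT) (mem_sup_right (mem_zpowers x))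
    obtain ⟨_, ⟨n, rfl⟩, q, hq, e⟩ :=
      (mem_sup_left_norm ((zpowers_le (G := G)).2 (UQ xU))).1 h1
    have h2 := hφ ⟨x, xU⟩
    rw [show ((⟨x, xU⟩ : U) : G) = x from rfl, e, ← mul_assoc] at h2
    have h3' := triv _ (mul_mem (inv_mem (φ ⟨x, xU⟩).2) (zpow_mem xU n))
      (by simpa using mul_mem h2 (inv_mem hq))
    exact ⟨n, Subtype.ext (by simpa using (inv_mul_eq_one.1 h3').symm)⟩
  have sq := aut_sq cm h3 c9 (x := ⟨x, xU⟩) (fun e => x1 (congrArg Subtype.val e)) φ hx hk'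
  have ssQ : s * s ∈ No Q₀ := kq.TQ (mul_mem sT sT)
  refine ⟨mul_mem sT sT, mem_stab.2 ⟨ssQ, fun c hc => ?_⟩⟩
  obtain ⟨q, hq, f, hf, rfl⟩ := (mem_sup_right_norm UQ).1 hc
  have h1 := it 2 ⟨f, hf⟩
  rw [pow_two, pow_two, MulAut.mul_apply, sq] at h1
  have h2 := mul_mem (mul_mem hq (conj_mem_of_mem_normalizer (UQ hf) (inv_mem h1)))
    (conj_mem_of_mem_normalizer ssQ (inv_mem hq))
  convert h2 using 1
  simp only [commutatorElement_def]
  generalize s * s = a
  group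

end H10.DpvNL
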