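import Cfsg.Agent.H67.SAFA

/-! STD-A, fact FH, part 1: the order of the centraliser of an involution of `SL_m(2^f)`. -/

set_option autoImplicit false

namespace H10.FH

open H64.SG (O2 Syl Cz Cs Ns cjs Is2 Inv2 IsO2 fx)
open H67.SA Matrix H57 Subgroup Module

/-- `|GL_k(q)|` -/
def glo (q k : ℕ) : ℕ := ∏ i ∈ Finset.range k, (q ^ k - q ^ i)

theorem card_units_end {F U : Type*} [Field F] [Finite F] [AddCommGroup U] [Module F U]
    [FiniteDimensional F U] : Nat.card (U →ₗ[F] U)ˣ = glo (Nat.card F) (finrank F U) := by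
  classical
  have := Fintype.ofFinite F
  let e : (U →ₗ[F] U) ≃* Matrix (Fin (finrank F U)) (Fin (finrank F U)) F :=
    (LinearMap.toMatrixAlgEquiv (Module.finBasis F U)).toMulEquiv
  rw [Nat.card_congr (Units.mapEquiv e).toEquiv, glo, Nat.card_eq_fintype_card (α := F),
    ← Fin.prod_univ_eq_prod_range (fun i => Fintype.card F ^ finrank F U - Fintype.card F ^ i)]
  exact Matrix.card_GL_field (finrank F U)

variable {n : ℕ} {F : Type} [Field F] [Finite F] [CharP F 2]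

theorem pow_four_of_cube {R : Type*} [Ring R] (h2 : (2 : R) = 0) {a : R}
    (h : (a - 1) * ((a - 1) * (a - 1)) = 0) : a ^ 2 ^ 2 = 1 := by
  have e : a ^ 4 - 1 = (a - 1) * ((a - 1) * ((a - 1) * (a - 1))) +
      2 * (2 * a ^ 3 - 3 * a ^ 2 + 2 * a - 1) := by noncomm_ring
  rw [h, h2, mul_zero, zero_mul, add_zero] at e
  exact sub_eq_zero.1 e

/-- (C) -/
theorem card_cz {g : SLn n F} (hg : Inv2 g) : ∃ a k, 1 ≤ k ∧ 2 * k ≤ n + 1 ∧
    Nat.card (Cz g) ∣ 2 ^ a * (glo (Nat.card F) k * glo (Nat.card F) (n + 1 - 2 * k)) := by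
  let T : Matrix (Fin (n + 1)) (Fin (n + 1)) F ≃ₐ[F] End F (Fin (n + 1) → F) :=
    Matrix.toLinAlgEquiv'
  let ρ : Representation F (Cz g) (Fin (n + 1) → F) :=
    (T.toMulEquiv.toMonoidHom.comp SpecialLinearGroup.coeMonoidHom).comp (Cz g).subtype
  have hρ : ∀ h : Cz g, ρ h = T h.1.1 := fun _ => rfl
  set N := T (g.1 - 1) with hN
  have hNN : N * N = 0 := by rw [hN, ← map_mul, sub_one_sq hg.1, map_zero]
  have hc : ∀ (h : Cz g) v, ρ h (N v) = N (ρ h v) := fun h v => by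
    have e : h.1.1 * (g.1 - 1) = (g.1 - 1) * h.1.1 := by
      rw [mul_sub, sub_mul, mul_one, one_mul, ← val_mul, ← val_mul,
        mem_centralizer_singleton_iff.1 h.2]
    rw [← End.mul_apply, ← End.mul_apply, hρ, hN, ← map_mul, ← map_mul, e]
  set U := LinearMap.range N
  set W := LinearMap.ker N
  have hUW : U ≤ W := by
    rintro _ ⟨v, rfl⟩
    rw [LinearMap.mem_ker, ← End.mul_apply, hNN, LinearMap.zero_apply]
  have iU : ∀ h, U ≤ U.comap (ρ h) := by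
    rintro h _ ⟨v, rfl⟩
    exact ⟨_, (hc h v).symm⟩
  have iW : ∀ h, W ≤ W.comap (ρ h) := fun h v hv => by
    rw [Submodule.mem_comap, LinearMap.mem_ker, ← hc, LinearMap.mem_ker.1 hv, map_zero]
  let U' : Submodule F W := U.comap W.subtype
  have iU' : ∀ h, U' ≤ U'.comap (ρ.subrepresentation W iW h) := fun h v hv => iU h hv
  let φ := (ρ.subrepresentation U iU).asGroupHom.prod
    ((ρ.subrepresentation W iW).quotient U' iU').asGroupHom
  have hk : IsPGroup 2 φ.ker := by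
    rintro ⟨h, hh⟩
    refine ⟨2, Subtype.ext (Subtype.ext (Subtype.ext ?_))⟩
    obtain ⟨h1, h2⟩ := Prod.ext_iff.1 (MonoidHom.mem_ker.1 hh)
    have a1 : ∀ v ∈ U, (ρ h - 1) v = 0 := fun v hv =>
      sub_eq_zero.2 (congrArg Subtype.val (LinearMap.congr_fun (congrArg Units.val h1) ⟨v, hv⟩))
    have a2 : ∀ v ∈ W, (ρ h - 1) v ∈ U := fun v hv =>
      (Submodule.Quotient.eq U').1
        (LinearMap.congr_fun (congrArg Units.val h2) (Submodule.Quotient.mk ⟨v, hv⟩))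
    have a3 : ∀ v, (ρ h - 1) v ∈ W := fun v => by
      have := a1 _ ⟨v, rfl⟩
      rw [LinearMap.sub_apply, hc] at this
      rw [LinearMap.mem_ker, LinearMap.sub_apply, map_sub]
      exact this
    have e : (h.1.1 - 1) * ((h.1.1 - 1) * (h.1.1 - 1)) = 0 := T.injective (by
      rw [map_mul, map_mul, map_sub, map_one, map_zero, ← hρ]
      exact LinearMap.ext fun v => a1 _ (a2 _ (a3 v)))
    exact pow_four_of_cube (CharTwo.two_eq_zero) e
  obtain ⟨a, ha⟩ := IsPGroup.iff_card.1 hk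
  have d1 : finrank F U + finrank F W = n + 1 := by
    rw [LinearMap.finrank_range_add_finrank_ker, finrank_fin_fun]
  have d2 : finrank F (W ⧸ U') + finrank F U = finrank F W := by
    rw [← (Submodule.comapSubtypeEquivOfLe hUW).finrank_eq, Submodule.finrank_quotient_add_finrank]
  refine ⟨a, finrank F U, Nat.pos_of_ne_zero fun h0 => hg.2 (Subtype.ext ?_), by omega, ?_⟩
  · have : N = 0 := LinearMap.range_eq_bot.1 (Submodule.finrank_eq_zero.1 h0)
    exact sub_eq_zero.1 (T.injective (hN.symm.trans (this.trans (map_zero T).symm)))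
  · rw [← card_mul_index φ.ker, ha, index_ker]
    refine Nat.mul_dvd_mul_left _ ((card_subgroup_dvd_card _).trans (dvd_of_eq ?_))
    rw [Nat.card_prod, card_units_end, card_units_end]
    congr 2
    omega

theorem prime_dvd_glo {r q k : ℕ} (hr : r.Prime) (hq : ¬ r ∣ q) (h : r ∣ glo q k) :
    ∃ i, 1 ≤ i ∧ i ≤ k ∧ r ∣ q ^ i - 1 := by
  obtain ⟨i, hi, h⟩ := (Prime.dvd_finsetProd_iff hr.prime _).1 h
  have hi := Finset.mem_range.1 hi
  have e : q ^ k - q ^ i = q ^ i * (q ^ (k - i) - 1) := by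
    rw [Nat.mul_sub, mul_one, ← pow_add, Nat.add_sub_cancel' hi.le]
  rw [e] at h
  rcases (Nat.Prime.dvd_mul hr).1 h with h | h
  · exact (hq (hr.dvd_of_dvd_pow h)).elim
  · exact ⟨k - i, by omega, by omega, h⟩

theorem not_dvd_q {r : ℕ} (hr : r.Prime) (h2 : r ≠ 2) : ¬ r ∣ Nat.card F := fun h => by
  obtain ⟨f, -, hf⟩ := exists_card_eq (F := F)
  exact h2 ((Nat.prime_dvd_prime_iff_eq hr Nat.prime_two).1 (hr.dvd_of_dvd_pow (hf ▸ h)))

/-- a prime `r` with `ord_r q > m - 2` does not divide the order of a centraliser. -/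
theorem prime_cz (hn : 2 ≤ n) {r : ℕ} (hr : r.Prime) (h2 : r ≠ 2)
    (h : ∀ i, 1 ≤ i → i + 1 ≤ n → ¬ r ∣ Nat.card F ^ i - 1) {g : SLn n F} (hg : Inv2 g) :
    ¬ r ∣ Nat.card (Cz g) := fun hd => by
  obtain ⟨a, k, k1, k2, hk⟩ := card_cz hg
  rcases (Nat.Prime.dvd_mul hr).1 (hd.trans hk) with h' | h'
  · exact h2 ((Nat.prime_dvd_prime_iff_eq hr Nat.prime_two).1 (hr.dvd_of_dvd_pow h'))
  · rcases (Nat.Prime.dvd_mul hr).1 h' with h' | h' <;>
      obtain ⟨i, i1, i2, hi⟩ := prime_dvd_glo hr (not_dvd_q hr h2) h' <;>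
      exact h i i1 (by omega) hi

theorem three_cz {e : ℕ} (h : ∀ k, 1 ≤ k → 2 * k ≤ n + 1 →
    ¬ 3 ^ e ∣ glo (Nat.card F) k * glo (Nat.card F) (n + 1 - 2 * k)) {g : SLn n F} (hg : Inv2 g) :
    ¬ 3 ^ e ∣ Nat.card (Cz g) := fun hd => by
  obtain ⟨a, k, k1, k2, hk⟩ := card_cz hg
  exact h k k1 k2 ((Nat.Coprime.pow e a (by norm_num)).dvd_of_dvd_mul_left (hd.trans hk))

theorem cz_4_4 (hn : n = 3) (hq : Nat.card F = 4) {g : SLn n F} (hg : Inv2 g) :
    ¬ 3 ^ 4 ∣ Nat.card (Cz g) := three_cz (fun k k1 k2 => by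
  subst hn
  have : k ≤ 2 := by omega
  rw [hq]
  interval_cases k <;> decide) hg

theorem cz_7_2 (hn : n = 6) (hq : Nat.card F = 2) {g : SLn n F} (hg : Inv2 g) :
    ¬ 3 ^ 3 ∣ Nat.card (Cz g) := three_cz (fun k k1 k2 => by
  subst hn
  have : k ≤ 3 := by omega
  rw [hq]
  interval_cases k <;> decide) hg

section Gen

variable {A B : Type*} [Group A] [Group B]

/-- the commutator subgroup contains an involution -/
def Invc (H : Subgroup A) : Prop := ∃ y ∈ ⁅H, H⁆, Inv2 y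

theorem comm_map (e : A →* B) {H H' : Subgroup A} {K K' : Subgroup B} (h : H.map e ≤ K)
    (h' : H'.map e ≤ K') {y : A} (hy : y ∈ ⁅H, H'⁆) : e y ∈ ⁅K, K'⁆ :=
  commutator_mono h h' (map_commutator H H' e ▸ mem_map_of_mem e hy)

theorem Invc.map {e : A →* B} (he : Function.Injective e) {H : Subgroup A} {K : Subgroup B}
    (h : H.map e ≤ K) : Invc H → Invc K := fun ⟨y, hy, h1, h2⟩ =>
  ⟨e y, comm_map e h h hy, by rw [← map_mul, h1, map_one],
    fun h0 => h2 (he (h0.trans (map_one e).symm))⟩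

theorem invc_of_is2 {H : Subgroup A} {y : A} (hy : y ∈ ⁅H, H⁆) (h2 : Is2 y) (h1 : y ≠ 1) :
    Invc H := by
  classical
  have h0 : Nat.find h2 ≠ 0 := fun h => h1 (by simpa [h] using Nat.find_spec h2)
  obtain ⟨k, hk⟩ := Nat.exists_eq_succ_of_ne_zero h0
  refine ⟨y ^ 2 ^ k, pow_mem hy _, ?_, Nat.find_min h2 (by omega)⟩
  rw [← pow_add, ← mul_two, ← pow_succ, ← Nat.succ_eq_add_one, ← hk]
  exact Nat.find_spec h2

theorem invc_cz_conj {g : A} (h : A) : Invc (Cz g) → Invc (Cz (h * g * h⁻¹)) :=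
  Invc.map (e := (MulAut.conj h).toMonoidHom) (MulAut.conj h).injective (by
    rintro _ ⟨c, hc, rfl⟩
    replace hc := mem_centralizer_singleton_iff.1 hc
    rw [mem_centralizer_singleton_iff]
    change h * c * h⁻¹ * _ = _ * (h * c * h⁻¹)
    calc _ = h * (c * g) * h⁻¹ := by group
      _ = _ := by rw [hc]; group)

theorem card_cz_conj (g h : A) : Nat.card (Cz (h * g * h⁻¹)) = Nat.card (Cz g) := by
  rw [← card_map_of_injective (K := Cz g) (f := (MulAut.conj h).toMonoidHom)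
    (MulAut.conj h).injective]
  congr 2
  ext c
  rw [mem_map_equiv, mem_centralizer_singleton_iff, mem_centralizer_singleton_iff]
  change _ ↔ h⁻¹ * c * h * g = g * (h⁻¹ * c * h)
  constructor <;> intro e
  · calc _ = h⁻¹ * (c * (h * g * h⁻¹)) * h := by group
      _ = _ := by rw [e]; group
  · calc _ = h * (h⁻¹ * c * h * g) * h⁻¹ := by group
      _ = _ := by rw [e]; group

end Gen

theorem cz_3_4 (hB : FB 2 F) (hq : Nat.card F = 4) {g : SLn 2 F} (hg : Inv2 g) :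
    ¬ 9 ∣ Nat.card (Cz g) := by
  obtain ⟨h, k, k1, k2, e⟩ := hB.ic g hg
  obtain rfl : k = 1 := by omega
  rw [← card_cz_conj g h, e]
  have hm : ∀ c : Cz (xk F 2 1), c.1.1 1 0 = 0 ∧ c.1.1 2 0 = 0 ∧ c.1.1 2 1 = 0 ∧
      c.1.1 2 2 = c.1.1 0 0 := fun c => by
    have e : c.1.1 * (xk F 2 1).1 = (xk F 2 1).1 * c.1.1 := by
      rw [← val_mul, ← val_mul, mem_centralizer_singleton_iff.1 c.2]
    have e1 := congrFun (congrFun e 1) 2
    have e2 := congrFun (congrFun e 2) 2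
    have e3 := congrFun (congrFun e 0) 1
    have e4 := congrFun (congrFun e 0) 2
    simp [Matrix.mul_apply, Fin.sum_univ_three, xk_apply] at e1 e2 e3 e4
    exact ⟨e1, e2, e3, by linear_combination -e4⟩
  let φ : Cz (xk F 2 1) →* F :=
    { toFun := fun c => c.1.1 0 0
      map_one' := rfl
      map_mul' := fun a b => by
        simp [Matrix.mul_apply, Fin.sum_univ_three, hm b] }
  have hk : IsPGroup 2 φ.toHomUnits.ker := by
    rintro ⟨c, hc⟩
    have h0 : c.1.1 0 0 = 1 := congrArg Units.val (MonoidHom.mem_ker.1 hc)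
    obtain ⟨h1, h2, h3, h4⟩ := hm c
    have hd := c.1.2
    rw [det_fin_three, h1, h2, h3, h4, h0] at hd
    have : c.1 ∈ UU 2 F := mem_UU.2 ⟨fun i => by fin_cases i <;> simp_all, fun i j hij => by
      fin_cases i <;> fin_cases j <;> simp_all⟩
    obtain ⟨a, ha⟩ := is2_of_UU this
    exact ⟨a, Subtype.ext (Subtype.ext ha)⟩
  obtain ⟨a, ha⟩ := IsPGroup.iff_card.1 hk
  rw [← card_mul_index φ.toHomUnits.ker, ha, index_ker]
  intro hd
  have := ((Nat.Coprime.pow 2 a (by norm_num : Nat.Coprime 3 2)).dvd_of_dvd_mul_left hd).trans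
    (card_subgroup_dvd_card _)
  rw [Nat.card_units, hq] at this
  omega

theorem invc_cz (hn : 2 ≤ n) (hB : FB n F) {s : SLn n F} (hs : s * s = 1) : Invc (Cz s) := by
  have n0 : (0 : Fin (n + 1)) ≠ la n := zero_ne_la (by omega)
  have h01 : (0 : Fin (n + 1)) ≠ ⟨1, by omega⟩ := by simp [Fin.ext_iff]
  have h1n : (⟨1, by omega⟩ : Fin (n + 1)) ≠ la n := by simp [Fin.ext_iff]; omega
  have hw : Inv2 (x 0 (la n) (1 : F)) := ⟨x_mul_self _ _ _, by simp [x_eq_one n0]⟩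
  have root : ∀ c : F, Invc (Cz (x 0 (la n) c)) := fun c =>
    ⟨_, by
      rw [← mul_one (1 : F), ← x_cm h01 h1n n0]
      exact commutator_mem_commutator
        (mem_centralizer_singleton_iff.2 (x_comm h01.symm n0 _ _))
        (mem_centralizer_singleton_iff.2 (x_comm n0.symm h1n _ _)), hw⟩
  by_cases h1 : s = 1
  · exact Invc.map (e := MonoidHom.id _) Function.injective_id
      (fun c _ => mem_centralizer_singleton_iff.2 (by simp [h1])) (root 0)
  obtain ⟨h, k, k1, k2, e⟩ := hB.ic s ⟨hs, h1⟩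
  have : s = h⁻¹ * xk F n k * h⁻¹⁻¹ := by rw [← e]; group
  rw [this]
  refine invc_cz_conj _ ?_
  by_cases hr : Root (xk F n k)
  · obtain ⟨h', c, -, e'⟩ := hr
    exact e' ▸ invc_cz_conj _ (root c)
  obtain ⟨q1, q2, q3, -⟩ := hB.qk k k1 k2
  have hq : x 0 (la n) (1 : F) ∈ Qk n F k :=
    Ml_le_Qk k (x_mem_Pat (by simp; omega) _)
  by_cases hc : x 0 (la n) (1 : F) ∈ Cs (Cz (xk F n k))
  · obtain ⟨c, hc⟩ := isConj_iff.1 (hB.g4 _ _ (inv2_xk k1 k2) hr hw hc).symm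
    exact (hr ⟨c, 1, one_ne_zero, hc.symm⟩).elim
  obtain ⟨c, c1, c2⟩ : ∃ c ∈ Cz (xk F n k), c * x 0 (la n) 1 ≠ x 0 (la n) 1 * c := by
    by_contra! h
    exact hc (mem_centralizer_iff.2 h)
  refine invc_of_is2 (commutator_mem_commutator c1 (q1 hq)) ?_ fun h => c2 (cm_eq_one.1 h)
  obtain ⟨a, ha⟩ := q3 ⟨_, mul_mem ((mem_normalizer_iff.1 (q2 c1) _).1 hq) (inv_mem hq)⟩
  exact ⟨a, congrArg Subtype.val ha⟩

/-- The conclusion of `FH`. -/
def Con (β : Au n F) : Prop := (∃ y ∈ ⁅fx β, fx β⁆, Inv2 y) ∧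
  ((∃ P ≤ fx β, IsPGroup 2 P ∧ Nat.card F ^ bg n ≤ Nat.card P) ∨
    β ≠ 1 ∧ ∃ N ≤ fx β,
      (N ≤ ⁅N, N⁆ ∨ ∃ y ∈ ⁅fx β, fx β⁆, y * y = 1 ∧ N ≤ ⁅fx β, Subgroup.zpowers y⁆) ∧
      ∃ ρ : ℕ, ρ ∣ (Subgroup.center (SLn n F)).relIndex N ∧
        ∀ g : SLn n F, Inv2 g → ¬ ρ ∣ Nat.card (Cz g))

theorem con_inner (hn : 2 ≤ n) (hB : FB n F) {β : Au n F} (h : β * β = 1) (ho : out n F β = 1) :
    Con β := by
  obtain ⟨s, ⟨k, hk⟩, rfl⟩ := inner_of_out hn ho ⟨1, by rw [pow_one, sq, h]⟩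
  have hs : s * s = 1 := conj_inj ⟨k, by rw [← sq, ← pow_mul, mul_comm, pow_mul, hk, one_pow]⟩
    ⟨0, one_pow _⟩ (by rw [map_mul, h, map_one])
  have e : fx (MulAut.conj s) = Cz s := Subgroup.ext fun c => by
    rw [mem_centralizer_singleton_iff]
    exact mul_inv_eq_iff_eq_mul.trans eq_comm
  rw [Con, e]
  exact ⟨invc_cz hn hB hs, Or.inl (hB.big s hs)⟩

variable (n F) in
/-- The conclusion of `FH` for an abstract group. -/
def GA (A : Type*) [Group A] : Prop := Invc (⊤ : Subgroup A) ∧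
  ((∃ P : Subgroup A, IsPGroup 2 P ∧ Nat.card F ^ bg n ≤ Nat.card P) ∨
    ∃ N : Subgroup A, (N ≤ ⁅N, N⁆ ∨ ∃ y ∈ commutator A, y * y = 1 ∧ N ≤ ⁅(⊤ : Subgroup A), zpowers y⁆) ∧
      ∃ ρ : ℕ, (∀ i c, c ∣ (n + 1).gcd (Nat.card F - 1) → Nat.card N = c * i → ρ ∣ i) ∧
        ∀ g : SLn n F, Inv2 g → ¬ ρ ∣ Nat.card (Cz g))

theorem con_of_GA {A : Type*} [Group A] (h : GA n F A) {e : A →* SLn n F}
    (he : Function.Injective e) {β : Au n F} (h1 : β ≠ 1) (hβ : ∀ a, e a ∈ fx β) : Con β := by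
  have hm : ∀ N : Subgroup A, N.map e ≤ fx β := by
    rintro N _ ⟨a, -, rfl⟩
    exact hβ a
  refine ⟨Invc.map he (hm _) h.1, h.2.imp ?_ ?_⟩
  · rintro ⟨P, p1, p2⟩
    exact ⟨_, hm P, p1.map e, by rwa [card_map_of_injective he]⟩
  rintro ⟨N, n1, ρ, r1, r2⟩
  refine ⟨h1, _, hm N, n1.imp (fun h => ?_) ?_, ρ, r1 _
    (Nat.card ((center (SLn n F)).subgroupOf (N.map e))) ?_ ?_, r2⟩
  · rw [← map_commutator]
    exact map_mono h
  · rintro ⟨y, y1, y2, y3⟩
    refine ⟨e y, comm_map e (hm _) (hm _) y1, by rw [← map_mul, y2, map_one], ?_⟩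
    rintro _ ⟨a, ha, rfl⟩
    exact comm_map e (hm _) (MonoidHom.map_zpowers e y).le (y3 ha)
  · have := card_center_sl (ι := Fin (n + 1)) (F := F)
    rw [Fintype.card_fin] at this
    rw [← this, ← inf_subgroupOf_right, Nat.card_congr (subgroupOfEquivOfLe inf_le_right).toEquiv]
    exact card_dvd_of_le inf_le_left
  · rw [← card_map_of_injective he, relIndex, card_mul_index]

/-- a perfect subgroup and a prime -/
theorem ga_prime (hn : 2 ≤ n) {A : Type*} [Group A] (hi : Invc (⊤ : Subgroup A)) (N : Subgroup A)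
    (hN : N ≤ ⁅N, N⁆) {r : ℕ} (hr : r.Prime) (h2 : r ≠ 2) (hd : r ∣ Nat.card N)
    (h : ∀ i, 1 ≤ i → i + 1 ≤ n → ¬ r ∣ Nat.card F ^ i - 1) : GA n F A :=
  ⟨hi, Or.inr ⟨N, Or.inl hN, r, fun i c hc e => ((Nat.Prime.dvd_mul hr).1 (e ▸ hd)).resolve_left
    fun h' => h 1 le_rfl hn (by simpa using h'.trans (hc.trans (Nat.gcd_dvd_right _ _))),
    fun _ => prime_cz hn hr h2 h⟩⟩

end H10.FH
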