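import Cfsg.Agent.H10.FH1
import Cfsg.Agent.H29.SAFG
import Cfsg.Agent.H55.Transport
import Cfsg.Agent.S0247

/-! STD-A, fact FH, part 2: the outer involutions. -/

set_option autoImplicit false

namespace H10.FH

open H64.SG (O2 Syl Cz Cs Ns cjs Is2 Inv2 IsO2 fx)
open H67.SA H29.SA Matrix H57 Subgroup
open scoped commutatorElement

section Gen

variable {A : Type*} [Group A] [Finite A]

theorem invc_of_perfect {N : Subgroup A} (hN : N ≤ ⁅N, N⁆) (h2 : 2 ∣ Nat.card N) :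
    Invc (⊤ : Subgroup A) := by
  obtain ⟨y, hy⟩ := exists_prime_orderOf_dvd_card' (G := N) 2 h2
  refine ⟨y, commutator_mono le_top le_top (hN y.2), ?_, fun h => ?_⟩
  · rw [← sq, ← hy, ← orderOf_coe, pow_orderOf_eq_one]
  · rw [← orderOf_coe, h, orderOf_one] at hy
    omega

theorem dvd27 {N : Subgroup A} {a c z : A} (ha : a ∈ N) (hc : c ∈ N) (a3 : a ^ 3 = 1)
    (c3 : c ^ 3 = 1) (z3 : z ^ 3 = 1) (hz : z ∈ center A) (z1 : z ≠ 1)
    (e : a * c = z * (c * a)) : 27 ∣ Nat.card N := by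
  have : Fact (Nat.Prime 3) := ⟨Nat.prime_three⟩
  have zp : ∀ {B : Type _} [Group B] {b : B}, b ^ 3 = 1 → IsPGroup 3 (zpowers b) := fun h => by
    rintro ⟨_, k, rfl⟩
    exact ⟨1, Subtype.ext (by
      change (_ ^ k) ^ 3 = 1
      rw [← zpow_natCast, ← _root_.zpow_mul, mul_comm, _root_.zpow_mul, zpow_natCast, h,
        _root_.one_zpow])⟩
  have : (zpowers z).Normal := ⟨fun y hy g => by
    rwa [mem_center_iff.1 (zpowers_le.2 hz hy) g, mul_inv_cancel_right]⟩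
  let π := QuotientGroup.mk' (zpowers z)
  have hQ : IsPGroup 3 (zpowers (π a) ⊔ zpowers (π c) : Subgroup _) :=
    IsPGroup.to_sup_of_normal_right' (zp (by rw [← map_pow, a3, map_one]))
      (zp (by rw [← map_pow, c3, map_one])) (zpowers_le.2 (centralizer_le_normalizer _ (by
        rintro _ ⟨k, rfl⟩
        refine (Commute.zpow_left ?_ k).eq
        rw [Commute, SemiconjBy, ← map_mul, ← map_mul, e, map_mul π z,
          show π z = 1 from (QuotientGroup.eq_one_iff z).2 (mem_zpowers z), one_mul])))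
  have hP := (hQ.comap_of_ker_isPGroup π (by rw [QuotientGroup.ker_mk']; exact zp z3)).to_inf_left
    (K := N)
  set P := (zpowers (π a) ⊔ zpowers (π c)).comap π ⊓ N
  obtain ⟨k, hk⟩ := IsPGroup.iff_card.1 hP
  refine Dvd.dvd.trans ?_ (card_dvd_of_le (inf_le_right : P ≤ N))
  rw [hk]
  by_contra h
  have hk' : k ≤ 2 := by
    by_contra h'
    exact h (pow_dvd_pow 3 (by omega : 3 ≤ k))
  have hm : IsMulCommutative P := by
    interval_cases k
    · have : IsCyclic P := isCyclic_of_card_dvd_prime (p := 3) (by simp [hk])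
      infer_instance
    · have : IsCyclic P := isCyclic_of_card_dvd_prime (p := 3) (by simp [hk])
      infer_instance
    · exact IsPGroup.isMulCommutative_of_card_eq_prime_sq hk
  have := congrArg Subtype.val (hm.is_comm.comm ⟨a, mem_sup_left (mem_zpowers _), ha⟩
    ⟨c, mem_sup_right (mem_zpowers _), hc⟩)
  exact z1 (mul_right_cancel (e.symm.trans (this.trans (one_mul _).symm)))

end Gen

theorem ppd_ne_two {a k r : ℕ} (ha : 1 < a) (hk : 1 < k) (h1 : r ∣ a ^ k - 1)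
    (h2 : ∀ i, 0 < i → i < k → ¬ r ∣ a ^ i - 1) : r ≠ 2 := by
  rintro rfl
  refine h2 1 one_pos hk ?_
  rcases Nat.even_or_odd a with h | h
  · have := (h.pow_of_ne_zero (by omega : k ≠ 0)).two_dvd
    have := Nat.one_le_pow k a (by omega)
    omega
  · obtain ⟨b, rfl⟩ := h
    simp

variable {n : ℕ} {F : Type} [Field F] [Finite F] [CharP F 2]

theorem exists_odd (hn : 2 ≤ n) : ∃ j, Odd j ∧ n ≤ j ∧ j ≤ n + 1 ∧ 3 ≤ j := by
  rcases Nat.even_or_odd n with h | h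
  · exact ⟨n + 1, h.add_one, by omega, le_rfl, by omega⟩
  · exact ⟨n, h, le_rfl, by omega, by obtain ⟨k, rfl⟩ := h; omega⟩

theorem perf {A : Type*} [Group A] (h : commutator A = ⊤) :
    (⊤ : Subgroup A) ≤ ⁅(⊤ : Subgroup A), (⊤ : Subgroup A)⁆ := h.ge

/-- field automorphisms -/
theorem ga_field (hn : 2 ≤ n) {K : Type} [Field K] [Finite K]
    (hK : Nat.card F = Nat.card K ^ 2) : GA n F (SLn n K) := by
  cases nonempty_fintype K
  obtain ⟨j, j1, j2, j3, j4⟩ := exists_odd hn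
  have q1 : 1 < Nat.card K := one_lt_card
  obtain ⟨r, r1, r2, r3⟩ := H27.zsigmondy (Nat.card K) j q1 (by omega)
    (by obtain ⟨k, rfl⟩ := j1; omega) (by omega)
  have hc := card_sl_fin_eq (F := K) (n + 1)
  rw [← Nat.card_eq_fintype_card, ← card_top] at hc
  refine ga_prime hn (invc_of_perfect (perf (perfect hn)) ?_) ⊤ (perf (perfect hn)) r1
    (ppd_ne_two q1 (by omega) r2 r3) ?_ fun i i1 i2 h => ?_
  · obtain ⟨f, f1, hf⟩ := exists_card_eq (F := F)
    rw [hc]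
    refine Dvd.dvd.mul_right (Dvd.dvd.pow (Nat.prime_two.dvd_of_dvd_pow (n := 2) ?_) ?_) _
    · rw [← hK, hf]
      exact dvd_pow_self _ (by omega)
    · exact ne_of_gt (lt_of_lt_of_le (by norm_num) (three_le_NN hn))
  · rw [hc]
    obtain ⟨i, rfl⟩ : ∃ i, j = i + 2 := ⟨j - 2, by omega⟩
    exact (r2.trans (Finset.dvd_prod_of_mem (fun i => Nat.card K ^ (i + 2) - 1)
      (Finset.mem_range.2 (by omega)))).mul_left _
  · rw [hK, ← pow_mul] at h
    have := Nat.dvd_gcd r2 h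
    rw [Nat.pow_sub_one_gcd_pow_sub_one, (Nat.coprime_two_left.2 j1).gcd_mul_left_cancel_right]
      at this
    exact r3 _ (Nat.gcd_pos_of_pos_left _ (by omega))
      (lt_of_le_of_lt (Nat.gcd_le_right _ i1) (by omega)) this

section SU32

variable (w : F)

def mH : Matrix (Fin 3) (Fin 3) F := !![1, 1, 1; 1, w, w ^ 2; 1, w ^ 2, w]
def mK : Matrix (Fin 3) (Fin 3) F := !![1, w, w; w ^ 2, w, w ^ 2; w ^ 2, w ^ 2, w]
def mY : Matrix (Fin 3) (Fin 3) F := !![1, 0, 0; 0, 0, 1; 0, 1, 0]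
def mP : Matrix (Fin 3) (Fin 3) F := !![0, 1, 0; 1, 0, 0; 0, 0, 1]
def mC : Matrix (Fin 3) (Fin 3) F := !![0, 1, 0; 0, 0, 1; 1, 0, 0]
def mD (a b c : F) : Matrix (Fin 3) (Fin 3) F := !![a, 0, 0; 0, b, 0; 0, 0, c]

omit [Finite F] in
theorem su_mem {w : F} (hw : w ^ 2 + w + 1 = 0) : ∀ M ∈ [mH w, mK w, mY, mP, mC, mD 1 w (w ^ 2),
    mD 1 (w ^ 2) w, mD w w w], det M = 1 ∧ Mᵀ * M.map (frobenius F 2) = 1 := by
  simp only [List.forall_mem_cons, List.not_mem_nil, false_imp_iff, implies_true, and_true, mH, mK,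
    mY, mP, mC, mD]
  refine ⟨⟨?_, ?_⟩, ⟨?_, ?_⟩, ⟨?_, ?_⟩, ⟨?_, ?_⟩, ⟨?_, ?_⟩, ⟨?_, ?_⟩, ⟨?_, ?_⟩, ?_, ?_⟩ <;>
    first
    | (rw [det_fin_three]; simp <;> grind)
    | (ext i j; fin_cases i <;> fin_cases j <;>
        simp [Matrix.mul_apply, Fin.sum_univ_three, frobenius_def] <;> grind)

omit [Finite F] in
theorem su_rel {w : F} (hw : w ^ 2 + w + 1 = 0) : mH w * mK w = mY * (mK w * mH w) ∧
    (mY : Matrix _ _ F) * mY = 1 ∧ (mP : Matrix _ _ F) * mY = mC * (mY * mP) ∧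
    mD 1 w (w ^ 2) * mY = mD 1 (w ^ 2) w * (mY * mD 1 w (w ^ 2)) ∧
    mD 1 (w ^ 2) w * mC = mD w w w * (mC * mD 1 (w ^ 2) w) ∧
    mD 1 (w ^ 2) w * mD 1 (w ^ 2) w * mD 1 (w ^ 2) w = 1 ∧ (mC : Matrix _ _ F) * mC * mC = 1 ∧
    mD w w w * mD w w w * mD w w w = 1 ∧ ∀ M, M * mD w w w = mD w w w * M := by
  simp only [mH, mK, mY, mP, mC, mD]
  refine ⟨?_, ?_, ?_, ?_, ?_, ?_, ?_, ?_, fun M => ?_⟩ <;> ext i j <;> fin_cases i <;>
    fin_cases j <;> simp [Matrix.mul_apply, Fin.sum_univ_three] <;> grind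

end SU32

/-- `SU₃(2)` -/
theorem ga_su32 (hB : FB 2 F) (hq : Nat.card F = 4) : GA 2 F (Cfsg.SU (2 + 1) F 2) := by
  obtain ⟨w, hw⟩ : ∃ w : F, w ^ 2 + w + 1 = 0 := by
    obtain ⟨u, hu⟩ := exists_prime_orderOf_dvd_card' (G := Fˣ) 3 (hp := ⟨Nat.prime_three⟩)
      (by rw [Nat.card_units, hq])
    have h1 : (u : F) ^ 3 = 1 := by rw [← Units.val_pow_eq_pow_val, ← hu, pow_orderOf_eq_one]; rfl
    have h2 : (u : F) - 1 ≠ 0 := fun h => by
      rw [Units.ext (sub_eq_zero.1 h : (u : F) = (1 : Fˣ)), orderOf_one] at hu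
      omega
    exact ⟨u, mul_left_cancel₀ h2 (by linear_combination h1)⟩
  have mk : ∀ M ∈ [mH w, mK w, mY, mP, mC, mD 1 w (w ^ 2), mD 1 (w ^ 2) w, mD w w w],
      ∃ g : Cfsg.SU (2 + 1) F 2, g.1.1 = M := fun M h =>
    ⟨⟨⟨M, (su_mem hw M h).1⟩, (H55.mem_SU_iff_transpose_mul (frobenius F 2) (fun _ => rfl) _).2
      (su_mem hw M h).2⟩, rfl⟩
  simp only [List.forall_mem_cons] at mk
  obtain ⟨⟨H, rH⟩, ⟨K, rK⟩, ⟨y, ry⟩, ⟨p, rp⟩, ⟨c, rc⟩, ⟨d, rd⟩, ⟨a, ra⟩, ⟨z, rz⟩, -⟩ := mk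
  have y1 : y ≠ 1 := fun h => by simpa [ry, mY] using congrArg (fun g => g.1.1 1 1) h
  have z1 : z ≠ 1 := fun h => by
    have : w = 1 := by simpa [rz, mD] using congrArg (fun g => g.1.1 1 1) h
    grind
  have r := su_rel hw
  rw [← rH, ← rK, ← ry, ← rp, ← rc, ← rd, ← ra, ← rz] at r
  obtain ⟨e1, e2, e3, e4, e5, e6, e7, e8, e9⟩ := r
  have ex : ∀ {a b : Cfsg.SU (2 + 1) F 2}, a.1.1 = b.1.1 → a = b :=
    fun h => Subtype.ext (Subtype.ext h)
  replace e1 : H * K = y * (K * H) := ex e1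
  replace e2 : y * y = 1 := ex e2
  replace e3 : p * y = c * (y * p) := ex e3
  replace e4 : d * y = a * (y * d) := ex e4
  replace e5 : a * c = z * (c * a) := ex e5
  replace e6 : a * a * a = 1 := ex e6
  replace e7 : c * c * c = 1 := ex e7
  replace e8 : z * z * z = 1 := ex e8
  replace e9 : z ∈ center _ := mem_center_iff.2 fun g => ex (e9 g.1.1)
  have cme : ∀ {u v t : Cfsg.SU (2 + 1) F 2}, u * v = t * (v * u) → t = ⁅u, v⁆ := fun {u v t} h => by
    rw [commutatorElement_def, h]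
    group
  have hy : y ∈ commutator _ := cme e1 ▸ commutator_mem_commutator (mem_top _) (mem_top _)
  refine ⟨⟨y, hy, e2, y1⟩, Or.inr ⟨_, Or.inr ⟨y, hy, e2, le_rfl⟩, 9, fun i k hk e => ?_,
    fun _ => cz_3_4 hB hq⟩⟩
  have := dvd27 (cme e4 ▸ commutator_mem_commutator (mem_top d) (mem_zpowers y))
    (cme e3 ▸ commutator_mem_commutator (mem_top p) (mem_zpowers y)) (by rwa [pow_three'])
    (by rwa [pow_three']) (by rwa [pow_three']) e9 z1 e5
  rw [e] at this
  rw [hq] at hk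
  rcases (Nat.dvd_prime Nat.prime_three).1 hk with rfl | rfl <;> omega

/-- graph-field automorphisms -/
theorem ga_su (hn : 2 ≤ n) (hB : FB n F) [Fintype F] {q : ℕ} (hq : Fintype.card F = q ^ 2) :
    GA n F (Cfsg.SU (n + 1) F q) := by
  have hq' : Nat.card F = q ^ 2 := Nat.card_eq_fintype_card.trans hq
  have q1 : 1 < q := by
    have := one_lt_card (F := F)
    rw [hq'] at this
    exact lt_of_pow_lt_pow_left₀ 2 (by omega) (by simpa using this)
  by_cases h32 : n = 2 ∧ q = 2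
  · obtain ⟨rfl, rfl⟩ := h32
    exact ga_su32 hB hq'
  have hp := perf (H59.commutator_SU hq (n := n + 1) (by omega) (by omega))
  have hc := H59.card_SU hq (n := n + 1) (by omega)
  rw [← card_top] at hc
  have hi := invc_of_perfect hp (by
    obtain ⟨f, f1, hf⟩ := exists_card_eq (F := F)
    have h2 : 2 ∣ q := Nat.prime_two.dvd_of_dvd_pow (n := 2) (by
      rw [← hq', hf]
      exact dvd_pow_self _ (by omega))
    refine ((Nat.Prime.dvd_mul (m := q + 1) Nat.prime_two).1 ?_).resolve_left (by omega)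
    rw [hc]
    exact Dvd.dvd.mul_right (h2.pow (ne_of_gt (lt_of_lt_of_le (by norm_num) (three_le_NN hn)))) _)
  by_cases h42 : n = 3 ∧ q = 2
  · obtain ⟨rfl, rfl⟩ := h42
    refine ⟨hi, Or.inr ⟨⊤, Or.inl hp, 3 ^ 4, fun i k hk e => ?_, fun _ => cz_4_4 rfl hq'⟩⟩
    rw [hq'] at hk
    rw [e, Nat.dvd_one.1 hk, show H59.ordGU 2 (3 + 1) = 77760 by decide] at hc
    omega
  obtain ⟨j, j1, j2, j3, j4⟩ := exists_odd hn
  obtain ⟨r, r1, r2, r3⟩ := H27.zsigmondy q (2 * j) q1 (by omega) (by omega) (by omega)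
  refine ga_prime hn hi ⊤ hp r1 (ppd_ne_two q1 (by omega) r2 r3)
    (card_top (G := Cfsg.SU (n + 1) F q) ▸ dvd_card_SU hq r1 j1 j4 j3 r2 r3) fun i i1 i2 => ?_
  rw [hq', ← pow_mul]
  exact r3 _ (by omega) (by omega)

/-- `S₆` -/
theorem ga_s6 (hq : Nat.card F = 2) : GA 4 F (Equiv.Perm (Fin 6)) := by
  have hp := (commutator_alternatingGroup_eq_self (α := Fin 6) (by simp)).ge
  have hc : Nat.card (alternatingGroup (Fin 6)) = 360 := by
    rw [nat_card_alternatingGroup, Nat.card_fin]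
    rfl
  refine ga_prime (by norm_num) (invc_of_perfect hp (by rw [hc]; norm_num)) _ hp Nat.prime_five
    (by norm_num) (by rw [hc]; norm_num) fun i i1 i2 => ?_
  have : i ≤ 3 := by omega
  rw [hq]
  interval_cases i <;> norm_num

theorem perf_sp {l : ℕ} (h : 3 ≤ l ∨ 4 ≤ Nat.card F) (l1 : 1 ≤ l) :
    commutator (symplecticGroup (Fin l) F) = ⊤ ∧ Invc (⊤ : Subgroup (symplecticGroup (Fin l) F)) := by
  have hp : commutator (symplecticGroup (Fin l) F) = ⊤ :=
    H54.sp_commutator_eq_top (by rw [Fintype.card_fin]; omega)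
  refine ⟨hp, invc_of_perfect (perf hp) ?_⟩
  obtain ⟨f, f1, hf⟩ := exists_card_eq (F := F)
  rw [card_top, H54.card_sp, H54.spOrder_def, Fintype.card_fin, hf]
  exact Dvd.dvd.mul_right ((dvd_pow_self _ (by omega)).pow (by positivity)) _

/-- graph automorphisms in odd dimension -/
theorem ga_sp {l : ℕ} (hl : n + 1 = 2 * l + 1) (l1 : 1 ≤ l) (h : 3 ≤ l ∨ 4 ≤ Nat.card F) :
    GA n F (symplecticGroup (Fin l) F) := by
  obtain ⟨hp, hi⟩ := perf_sp h l1
  have hc := H54.card_sp (F := F) (Fin l)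
  rw [← card_top, Fintype.card_fin] at hc
  by_cases h72 : Nat.card F = 2 ∧ l = 3
  · obtain ⟨hq, rfl⟩ := h72
    refine ⟨hi, Or.inr ⟨⊤, Or.inl (perf hp), 3 ^ 3, fun i k hk e => ?_,
      fun _ => cz_7_2 (by omega) hq⟩⟩
    rw [hq, Nat.gcd_one_right] at hk
    rw [e, Nat.dvd_one.1 hk, hq, show H54.spOrder 2 3 = 1451520 by decide] at hc
    omega
  have q1 : 1 < Nat.card F := one_lt_card
  obtain ⟨r, r1, r2, r3⟩ := H27.zsigmondy (Nat.card F) (2 * l) q1 (by omega) (by omega) (by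
    rintro ⟨-, m, hm⟩
    obtain ⟨k, hk⟩ := odd_card_sub_one (F := F)
    obtain ⟨m, rfl⟩ : ∃ k, m = k + 1 := ⟨m - 1, by
      rcases m with _ | m
      · simp at hm; omega
      · omega⟩
    rw [pow_succ] at hm
    omega)
  refine ga_prime (by omega) hi ⊤ (perf hp) r1 (ppd_ne_two q1 (by omega) r2 r3) ?_
    fun i i1 i2 => r3 i i1 (by omega)
  obtain ⟨k, rfl⟩ : ∃ k, l = k + 1 := ⟨l - 1, by omega⟩
  rw [hc, H54.spOrder_succ]
  exact r2.mul_right _

omit [Finite F] in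
/-- the centraliser of a transvection in `Sp` -/
theorem invc_tv {l : ℕ} (hl : 2 ≤ l) {r : Fin l ⊕ Fin l → F} (hr : r ≠ 0) :
    Invc (centralizer {H54.tv r 1}) := by
  let i : Fin l := ⟨0, by omega⟩
  let j : Fin l := ⟨1, by omega⟩
  obtain ⟨h, rfl⟩ := H54.sp_exists_smul_eq (v := Pi.single (Sum.inl i) (1 : F)) (by simp) hr
  rw [← H54.tv_conj]
  refine invc_cz_conj h ?_
  set r : Fin l ⊕ Fin l → F := Pi.single (Sum.inl i) 1
  set u : Fin l ⊕ Fin l → F := Pi.single (Sum.inl j) 1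
  have ho : H54.spB _ F r u = 0 := H54.spB_single_inl_inl _ _ _ _
  have ho' : H54.spB _ F u r = 0 := H54.spB_single_inl_inl _ _ _ _
  have hn : ∀ v : Fin l ⊕ Fin l → F, v (Sum.inl j) = 1 → v ∉ Submodule.span F {r} := fun v hv h => by
    obtain ⟨c, rfl⟩ := Submodule.mem_span_singleton.1 h
    simp [r, i, j] at hv
  obtain ⟨g, g1, g2⟩ := H54.sp_move_fixing (Submodule.span F {r}) (x := u) (y := u + r)
    (hn _ (by simp [u])) (hn _ (by simp [u, r, i, j])) fun v hv => by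
      obtain ⟨c, rfl⟩ := Submodule.mem_span_singleton.1 hv
      simp [H54.spB_self]
  have hg : g ∈ centralizer {H54.tv r 1} := mem_centralizer_singleton_iff.2 (by
    rw [← mul_inv_eq_iff_eq_mul, H54.tv_conj, g2 r (Submodule.mem_span_singleton_self r)])
  have t2 : ∀ v : Fin l ⊕ Fin l → F, H54.tv v 1 * H54.tv v 1 = 1 := fun v => by
    rw [H54.tv_mul, CharTwo.add_self_eq_zero, H54.tv_zero]
  refine ⟨_, commutator_mem_commutator hg
    (mem_centralizer_singleton_iff.2 (H54.tv_commute ho' 1 1).eq), ?_, fun h => ?_⟩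
  · rw [commutatorElement_def, H54.tv_conj, g1, inv_eq_of_mul_eq_one_right (t2 u),
      ((H54.tv_commute (by simp [H54.spB_self, ho']) 1 1).mul_mul_mul_comm _ _ :
        H54.tv (u + r) 1 * H54.tv u 1 * (H54.tv (u + r) 1 * H54.tv u 1) = _), t2, t2, mul_one]
  · rw [commutatorElement_def, H54.tv_conj, g1, mul_inv_eq_one] at h
    obtain ⟨c, hc⟩ := Submodule.mem_span_singleton.1 (H54.mem_span_of_tv_eq h one_ne_zero)
    simpa [u, r, i, j] using congrFun hc (Sum.inl i)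

theorem jobFH (hB : JobFB) : JobFH := by
  intro n F _ _ _ hp β h2
  have hn := hp.two_le
  have hB := hB n F hp
  by_cases ho : out n F β = 1
  · exact con_inner hn hB h2 ho
  have h1 : β ≠ 1 := fun h => ho (h ▸ map_one _)
  have key : ∀ {A : Type} [Group A], GA n F A → (fx β ≃* A) → Con β := fun h e =>
    con_of_GA h (e := (fx β).subtype.comp e.symm.toMonoidHom)
      (Subtype.val_injective.comp e.symm.injective) h1 fun a => (e.symm a).2
  rcases rep hn h2 ho with ⟨σ, s1, s2, e⟩ | ⟨J, rfl⟩ | ⟨σ, s1, s2, e⟩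
  · obtain ⟨e⟩ := fx_field e
    refine key (ga_field hn ?_) e
    rw [card_eq_card_fixedSub_pow σ, orderOf_eq_prime (p := 2) (by rw [sq, s2]) s1]
  · have h4 := hp.four
    rcases Nat.even_or_odd (n + 1) with ⟨l, hl⟩ | ⟨l, hl⟩
    · refine ⟨?_, Or.inl (big_gr_even h2 ⟨l, hl⟩)⟩
      rcases (fx_gr h2).2 l (by omega) with ⟨⟨e⟩⟩ | ⟨r, hr, ⟨e⟩⟩
      · exact Invc.map (e := (fx (gr J)).subtype.comp e.symm.toMonoidHom)
          (Subtype.val_injective.comp e.symm.injective) (by rintro _ ⟨a, -, rfl⟩; exact (e.symm a).2)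
          (perf_sp (l := l) (by omega) (by omega)).2
      · obtain ⟨y, y1, y2, y3⟩ := invc_tv (by omega) hr
        rw [← map_subtype_commutator] at y1
        obtain ⟨y, y1, rfl⟩ := y1
        exact Invc.map (e := (fx (gr J)).subtype.comp e.symm.toMonoidHom)
          (Subtype.val_injective.comp e.symm.injective) (by rintro _ ⟨a, -, rfl⟩; exact (e.symm a).2)
          ⟨y, y1, Subtype.ext y2, fun h => y3 (congrArg Subtype.val h)⟩
    · obtain ⟨e⟩ := (fx_gr h2).1 l hl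
      by_cases h : 3 ≤ l ∨ 4 ≤ Nat.card F
      · exact key (ga_sp hl (by omega) h) e
      obtain rfl : l = 2 := by omega
      obtain rfl : n = 4 := by omega
      have hq : Nat.card F = 2 := by
        have := one_lt_card (F := F)
        obtain ⟨k, hk⟩ := odd_card_sub_one (F := F)
        omega
      cases nonempty_fintype F
      obtain ⟨e'⟩ := Cfsg.Agent.S0247.result (F := F) (Nat.card_eq_fintype_card.symm.trans hq)
      exact key (ga_s6 hq) (e.trans e')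
  · cases nonempty_fintype F
    obtain ⟨q, hq, ⟨e⟩⟩ := fx_gf s1 s2 e
    exact key (ga_su hn hB hq) e

end H10.FH
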