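/- FE tower, slot T3: cliques are direct. -/
import Cfsg.Agent.H14.FESpec

set_option autoImplicit false

namespace H10.FeT3

open Cfsg Subgroup MulAction H14 H98 H1.Gold H31.S2 H14.GC H14.FE
open scoped commutatorElement

universe u

variable {G : Type u} [Group G]

/-- contains the square roots of one of a Sylow subgroup of a vertex -/
def bt (A U : Subgroup G) : Prop :=
  ¬ El U ∧ ∃ B, Vx A B ∧ ∃ R, IsSyl 2 R B ∧ U ≤ R ∧ ∀ x ∈ R, x * x = 1 → x ∈ U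

theorem cj_mem {g x : G} {H : Subgroup G} (h : x ∈ H) : g * x * g⁻¹ ∈ cj g H :=
  mem_cj.2 (by simpa [mul_assoc] using h)

theorem sq_cj {g x : G} (h : x * x = 1) : g * x * g⁻¹ * (g * x * g⁻¹) = 1 := by
  calc g * x * g⁻¹ * (g * x * g⁻¹) = g * (x * x) * g⁻¹ := by group
    _ = 1 := by rw [h]; group

theorem bt_bt [Finite G] {A : Subgroup G} (m : MN A) : Bt (bt A) where
  cj := by
    rintro U g ⟨h1, B, ⟨k, rfl⟩, R, hR, hU, h2⟩
    refine ⟨fun e => h1 fun a ha => ?_, cj g (cj k A), ⟨g * k, ?_⟩, cj g R, hR.cj g, map_mono hU,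
      fun x hx e => mem_cj.2 (h2 _ (mem_cj.1 hx) (by simpa using sq_cj (g := g⁻¹) e))⟩
    · simpa [mul_assoc] using sq_cj (g := g⁻¹) (e _ (cj_mem (g := g) ha))
    · ext x
      simp only [mem_cj, mul_inv_rev, mul_assoc]
  ne := fun _ h => h.1
  four := by
    rintro U ⟨-, B, hB, R, hR, -, h2⟩
    have : Fact (Nat.Prime 2) := ⟨Nat.prime_two⟩
    obtain ⟨E, hE, hc, hle⟩ := (m.four B hB).exists_e4
    obtain ⟨g, -, hg⟩ := hR.exists_cj_le (IsPGroup.of_card (n := 2) hc) hle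
    obtain ⟨s, hs, t, ht, i1, i2, r⟩ := (four_of_e4 hE).cj g
    exact ⟨s, h2 s (hg hs) i1.2, t, h2 t (hg ht) i2.2, i1, i2, r⟩

/-- the vertex of a big subgroup -/
theorem bt_at [Finite G] {A U B' : Subgroup G} (m : MN A) (h : bt A U) (hB' : Vx A B') (hU : U ≤ B') :
    ∃ R, IsSyl 2 R B' ∧ U ≤ R ∧ ∀ x ∈ R, x * x = 1 → x ∈ U := by
  obtain ⟨s, hs, -, -, i1, -⟩ := (bt_bt m).four U h
  obtain ⟨-, B, hB, R, hR, hUR, h2⟩ := h
  obtain rfl : B = B' := by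
    by_contra hne
    exact m.ti B B' hB hB' hne s ⟨hR.1 (hUR hs), hU hs⟩ i1
  exact ⟨R, hR, hUR, h2⟩

theorem roots [Finite G] {B R R' : Subgroup G} (hR : IsSyl 2 R B) (hR' : IsSyl 2 R' B)
    (h : ∀ x ∈ R, x * x = 1 → x ∈ R') : ∀ x ∈ R', x * x = 1 → x ∈ R := by
  have : Fact (Nat.Prime 2) := ⟨Nat.prime_two⟩
  obtain ⟨g, -, rfl⟩ := hR.exists_cj_eq hR'
  have e : {x | x ∈ R ∧ x * x = 1} = {x | x ∈ cj g R ∧ x * x = 1} := by
    refine Set.eq_of_subset_of_ncard_le (fun x hx => ⟨h x hx.1 hx.2, hx.2⟩) ?_ (Set.toFinite _)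
    refine Set.ncard_le_ncard_of_injOn (fun x => g⁻¹ * x * g) (fun x hx => ⟨mem_cj.1 hx.1, ?_⟩)
      (fun x _ y _ e => by simpa using e) (Set.toFinite _)
    simpa using sq_cj (g := g⁻¹) hx.2
  intro x hx h2
  exact (e.ge ⟨hx, h2⟩).1

theorem pres [Finite G] {A I : Subgroup G} (m : MN A) (cn : Cn A) {J : Type u} {vx : J → Subgroup G}
    (hv : ∀ j, Vx A (vx j)) :
    Pres (fun j => (vx j).subgroupOf I) (fun U => bt A (U.map I.subtype)) := by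
  rintro j U hU hp ⟨U0, h0, -, hb⟩ x hx
  have hU' : U.map I.subtype ≤ vx j := by
    rintro _ ⟨y, hy, rfl⟩
    exact hU hy
  obtain ⟨R, hR, hUR, h2⟩ := bt_at m hb (hv j) ((map_mono h0).trans hU')
  obtain ⟨R', hR', hUR'⟩ := exists_isSyl_le (hp.map I.subtype) hU'
  have h3 := roots hR hR' fun y hy e => hUR' (map_mono h0 (h2 y hy e))
  have hc := cn _ (hv j) R' hR'.1 hR'.2.1
  have hx' : (x : G) ∈ R' := hUR' ⟨x, hx, rfl⟩
  refine ⟨_, le_rfl, hp.to_le inf_le_right, fun e => ?_, vx j, hv j, R', hR',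
    (map_mono inf_le_right).trans hUR', fun y hy e => ?_⟩
  · have hxx : (x : G) * x = 1 := e _ ⟨x, ⟨mem_cen1.2 rfl, hx⟩, rfl⟩
    refine hb.1 ?_
    rintro _ ⟨y, hy, rfl⟩
    exact e _ ⟨y, ⟨mem_cen1.2 (Subtype.ext (hc _ hx' _ (hUR' ⟨y, h0 hy, rfl⟩) hxx).symm), h0 hy⟩, rfl⟩
  · obtain ⟨z, hz, rfl⟩ := h2 y (h3 y hy e) e
    exact ⟨z, ⟨mem_cen1.2 (Subtype.ext (hc _ hy _ hx' e)), h0 hz⟩, rfl⟩

theorem cj_sSup {g x : G} {S S' : Set (Subgroup G)} (h : ∀ B ∈ S, cj g B ∈ S') (hx : x ∈ sSup S) :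
    g * x * g⁻¹ ∈ sSup S' := by
  have : sSup S ≤ (sSup S').comap (MulAut.conj g).toMonoidHom :=
    sSup_le fun B hB y hy => (le_sSup (h B hB) : cj g B ≤ _) (cj_mem hy)
  exact this hx

theorem jobT3 : JobT3.{u} := by
  intro min p3 G _ _ A hs hA m cs fl hne cn C0 hC0 B hB0 d0 hd0 i0
  have : Fact (Nat.Prime 2) := ⟨Nat.prime_two⟩
  obtain ⟨S, hS, hsub⟩ := cs.2 C0 hC0
  have hC := (cs.1 S hS).1
  generalize FE.CP A S = C at hsub hC
  obtain ⟨R0, hR0, -⟩ := exists_isSyl_le (p := 2) (Q := ⊥) (H := A) IsPGroup.of_bot bot_le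
  obtain ⟨I, J, Ω, _, _, _, _, pt, vx, a, T, pg, hv, hin, hall, htr⟩ :=
    min G A hs hA m (bt A) (bt_bt m.toMN) ⟨R0, hR0.1, hR0.2.1, hne R0 hR0, A, ⟨1, by ext x; simp⟩, R0,
      hR0, le_rfl, fun _ h _ => h⟩ C hC
  have inj := p3 I J Ω pt _ _ pg (pres m.toMN cn hv)
  obtain ⟨j, hj⟩ := pg.surj a
  obtain ⟨g, g1, g2⟩ := fl C C hC hC B (hsub hB0) (vx j) (hin j hj)
  have hd : g * d0 * g⁻¹ ∈ vx j := g1 ▸ cj_mem hd0.1
  have hT : g * d0 * g⁻¹ ∈ sSup (C \ {vx j}) := cj_sSup (fun B' hB' => ⟨g2 ▸ ⟨B', hsub hB'.1, rfl⟩, fun e =>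
    hB'.2 (map_injective (MulAut.conj g).injective (e.trans g1.symm))⟩) hd0.2
  have i1 := i0.conj g
  generalize g * d0 * g⁻¹ = d at hd hT i1
  obtain ⟨U, hU, -, hb⟩ := pg.big j
  have hU' : U.map I.subtype ≤ vx j := by
    rintro _ ⟨y, hy, rfl⟩
    exact hU hy
  obtain ⟨R, hR, -, h2⟩ := bt_at m.toMN hb (hv j) hU'
  obtain ⟨c, hc, hcR⟩ := hR.exists_cj_le i1.isPGroup (zpowers_le.2 hd)
  have i2 := i1.conj c
  obtain ⟨x, hx, e⟩ := h2 _ (hcR (cj_mem (mem_zpowers d))) i2.2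
  have e' : (x : G) = c * d * c⁻¹ := e
  have hT' : c * d * c⁻¹ ∈ sSup (C \ {vx j}) := cj_sSup (fun B' hB' => by
    have : cj c B' = B' := by
      ext y
      have := mem_normalizer_iff''.1 (hC.1.2 _ (hin j hj) B' hB'.1 hc) y
      rw [mem_cj]
      exact this.symm
    rwa [this]) hT
  have hle : sSup (C \ {vx j}) ≤ T := sSup_le fun B' hB' => (hall B' hB'.1).resolve_left (by
    rintro ⟨j', h1, rfl⟩
    exact hB'.2 (congrArg vx (inj (h1.trans hj.symm))))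
  have tr := htr x (e' ▸ hle hT')
  have ix : Inv x := ⟨fun h => i2.1 (by rw [← e', h]; rfl), Subtype.ext (by
    show (x : G) * x = 1
    rw [e']; exact i2.2)⟩
  obtain ⟨b, b', hbb⟩ := pg.two
  exact hbb ((pg.fix j x (hU hx) ix b (tr b)).trans (pg.fix j x (hU hx) ix b' (tr b')).symm)

end H10.FeT3
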