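/- FE tower, slot T2: involutions are central in the Sylow subgroups of the vertices. -/
import Cfsg.Agent.H10.FeT3

set_option autoImplicit false

namespace H10.FeT2

open Cfsg Subgroup MulAction H14 H98 H1.Gold H31.S2 H14.GC H14.FE H10.FeT3
open scoped commutatorElement

universe u

variable {G : Type u} [Group G]

/-- a Sylow subgroup of a vertex -/
def bs (A U : Subgroup G) : Prop := ∃ B, Vx A B ∧ IsSyl 2 U B

theorem bs_bt [Finite G] {A : Subgroup G} (m : MN A) (hne : ∀ R, IsSyl 2 R A → ¬ El R) : Bt (bs A) where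
  cj := by
    rintro U g ⟨B, ⟨k, rfl⟩, hU⟩
    exact ⟨_, ⟨g * k, cj_cj g k A⟩, hU.cj g⟩
  ne := by
    rintro U ⟨B, ⟨k, rfl⟩, hU⟩ e
    have h := hU.cj k⁻¹
    rw [cj_inv_cj] at h
    refine hne _ h fun a ha => ?_
    simpa [mul_assoc] using sq_cj (g := k⁻¹) (e _ (mem_cj.1 ha))
  four := by
    rintro U ⟨B, hB, hR⟩
    have : Fact (Nat.Prime 2) := ⟨Nat.prime_two⟩
    obtain ⟨E, hE, hc, hle⟩ := (m.four B hB).exists_e4
    obtain ⟨g, -, hg⟩ := hR.exists_cj_le (IsPGroup.of_card (n := 2) hc) hle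
    exact ((four_of_e4 hE).cj g).mono hg

theorem bs_at [Finite G] {A U B' : Subgroup G} (m : MN A) (hne : ∀ R, IsSyl 2 R A → ¬ El R) (h : bs A U)
    (hB' : Vx A B') (hU : U ≤ B') : IsSyl 2 U B' := by
  obtain ⟨s, hs, -, -, i1, -⟩ := (bs_bt m hne).four U h
  obtain ⟨B, hB, hR⟩ := h
  obtain rfl : B = B' := by
    by_contra hn
    exact m.ti B B' hB hB' hn s ⟨hR.1 hs, hU hs⟩ i1
  exact hR

theorem map_le {I B : Subgroup G} {U : Subgroup I} (hU : U ≤ B.subgroupOf I) : U.map I.subtype ≤ B := by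
  rintro _ ⟨y, hy, rfl⟩
  exact hU hy

theorem jobT2 : JobT2.{u} := by
  intro min p2 G _ _ A hs hA m cs hne B hB U hU hp x hx y hy hxx
  have : Fact (Nat.Prime 2) := ⟨Nat.prime_two⟩
  obtain ⟨S, hS, -⟩ := exists_isSyl_le (p := 2) (Q := ⊥) (H := (⊤ : Subgroup G)) IsPGroup.of_bot bot_le
  obtain ⟨R0, hR0, -⟩ := exists_isSyl_le (p := 2) (Q := ⊥) (H := A) IsPGroup.of_bot bot_le
  obtain ⟨I, J, Ω, _, _, _, _, pt, vx, a, T, pg, hv, -⟩ :=
    min G A hs hA m (bs A) (bs_bt m.toMN hne) ⟨R0, hR0.1, hR0.2.1, A, ⟨1, by ext x; simp⟩, hR0⟩ _ (cs.1 S hS).1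
  have cn := p2 I J Ω pt _ _ pg fun j V hV hp hb => ⟨hV, hp, fun Q hQ h1 h2 =>
    map_injective I.subtype_injective
      ((bs_at m.toMN hne hb (hv j) (map_le hV)).2.2 _ (hQ.map _) (map_mono h1) (map_le h2))⟩
  obtain ⟨j, -⟩ := pg.surj a
  obtain ⟨V, hV, hpV, hb⟩ := pg.big j
  have hR := bs_at m.toMN hne hb (hv j) (map_le hV)
  obtain ⟨g, rfl⟩ := hB
  obtain ⟨k, hk⟩ := hv j
  have h1 : cj (k * g⁻¹) U ≤ vx j := by
    rw [hk, ← cj_inv_cj g A, cj_cj]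
    exact map_mono hU
  obtain ⟨c, -, hc⟩ := hR.exists_cj_le (hp.map _) h1
  rw [cj_cj] at hc
  generalize c * (k * g⁻¹) = w at hc
  obtain ⟨x', hx', e1⟩ := hc (cj_mem hx)
  obtain ⟨y', hy', e2⟩ := hc (cj_mem hy)
  have e1' : (x' : G) = w * x * w⁻¹ := e1
  have e2' : (y' : G) = w * y * w⁻¹ := e2
  have h2 : (x' : G) * y' = y' * x' := congrArg Subtype.val (cn j V hV hpV x' hx' y' hy' (Subtype.ext (by
    show (x' : G) * x' = 1
    rw [e1']; exact sq_cj hxx)))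
  rw [e1', e2'] at h2
  calc x * y = w⁻¹ * (w * x * w⁻¹ * (w * y * w⁻¹)) * w := by group
    _ = y * x := by rw [h2]; group

end H10.FeT2
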