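import Cfsg.Agent.H10.StSpec
import Cfsg.Agent.H61.SzKit
import Cfsg.Agent.H51.GoldHub
import Cfsg.Agent.H13.S3Cls
import Cfsg.Agent.H14.FStar
import Cfsg.Agent.H22.HHSub
import Cfsg.Agent.H22.ChiefRep
import Cfsg.Agent.H18.HHGroup
import Cfsg.Agent.H4.Product
import Cfsg.Agent.H1.InvSylow

/-! Groups of order prime to `3` with an automorphism of order `3` fixing no involution. -/

set_option autoImplicit false

namespace H10.F3

open Subgroup Cfsg H98
open scoped commutatorElement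

universe u

/-- `σ ^ 3 = 1`, `G` has order prime to `3` and `σ` fixes no involution. -/
structure Hyp {G : Type*} [Group G] (σ : MulAut G) : Prop where
  cube : σ ^ 3 = 1
  n3 : ¬ 3 ∣ Nat.card G
  odd : ∀ g, σ g = g → g ^ 2 = 1 → g = 1

variable {G : Type u} [Group G] [Finite G] {σ : MulAut G}

theorem exists_fix {p : ℕ} (hp : p.Prime) (h : σ ^ p = 1) {s : Set G} (hs : ∀ a ∈ s, σ a ∈ s)
    (hc : ¬ p ∣ Nat.card s) : ∃ a ∈ s, σ a = a := by
  classical
  have := Fact.mk hp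
  have := Fintype.ofFinite s
  obtain ⟨a, ha⟩ := Equiv.Perm.exists_fixed_point_of_prime (p := p) (n := 1)
    (σ := (MulAut.toPerm G σ).subtypePermOfFintype hs) (by rwa [← Nat.card_eq_fintype_card]) (by
      rw [pow_one, Equiv.Perm.subtypePerm_pow]
      ext x
      simp [← map_pow, h])
  exact ⟨a, a.2, congrArg Subtype.val ha⟩

theorem Hyp.lift (h : Hyp σ) {Z : Type*} [Group Z] (f : G →* Z) (hk : ∀ k ∈ f.ker, σ k ∈ f.ker)
    {g : G} (hg : f (σ g) = f g) : ∃ c, σ c = c ∧ f c = f g := by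
  obtain ⟨c, h1, h2⟩ := exists_fix Nat.prime_three h.cube (s := f ⁻¹' {f g}) (fun a ha => by
    have := hk (g⁻¹ * a) (by rw [MonoidHom.mem_ker, map_mul, map_inv, ha, inv_mul_cancel])
    rw [MonoidHom.mem_ker, map_mul, map_inv, map_mul, map_inv, hg, inv_mul_eq_one] at this
    exact this.symm) fun e => h.n3 ((Nat.card_congr (f.fiberEquivKer g) ▸ e).trans
      (card_subgroup_dvd_card _))
  exact ⟨c, h2, h1⟩

theorem Hyp.odd_order (h : Hyp σ) {c : G} (hc : σ c = c) : Odd (orderOf c) := by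
  by_contra e
  obtain ⟨k, hk⟩ := Nat.not_odd_iff_even.1 e
  have h1 := orderOf_dvd_of_pow_eq_one (h.odd (c ^ k) (by rw [map_pow, hc])
    (by rw [← pow_mul, mul_two, ← hk, pow_orderOf_eq_one]))
  have := orderOf_pos c
  have := Nat.le_of_dvd (by omega) h1
  omega

theorem Hyp.eq_one (h : Hyp σ) {Z : Type*} [Group Z] (f : G →* Z) {c : G} (hc : σ c = c)
    (h2 : f c ^ 2 = 1) : f c = 1 := by
  obtain ⟨k, hk⟩ := h.odd_order hc
  rw [← map_one f, ← pow_orderOf_eq_one c, hk, map_pow, pow_succ, pow_mul, h2, one_pow, one_mul]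

theorem Hyp.desc (h : Hyp σ) {Z : Type*} [Group Z] (f : G →* Z) (hf : Function.Surjective f)
    (hk : ∀ k ∈ f.ker, σ k ∈ f.ker) : ∃ τ : MulAut Z, Hyp τ ∧ ∀ g, τ (f g) = f (σ g) := by
  let t : Z →* Z := f.liftOfSurjective hf ⟨f.comp σ.toMonoidHom, hk⟩
  have ht : ∀ g, t (f g) = f (σ g) := fun g => f.liftOfRightInverse_comp_apply _ _ _ g
  have h3 : ∀ z, t (t (t z)) = z := fun z => by
    obtain ⟨g, rfl⟩ := hf z
    rw [ht, ht, ht, show σ (σ (σ g)) = (σ ^ 3) g from rfl, h.cube]; rfl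
  refine ⟨t.toMulEquiv (t.comp t) (MonoidHom.ext h3) (MonoidHom.ext h3), ⟨MulEquiv.ext h3,
    fun e => h.n3 (e.trans (card_dvd_of_surjective f hf)), fun z h1 h2 => ?_⟩, ht⟩
  obtain ⟨g, rfl⟩ := hf z
  obtain ⟨c, h4, h5⟩ := h.lift f hk ((ht g).symm.trans h1)
  rw [← h5] at h2 ⊢
  exact h.eq_one f h4 h2

theorem Hyp.quot (h : Hyp σ) (N : Subgroup G) [hN : N.Characteristic] :
    ∃ τ : MulAut (G ⧸ N), Hyp τ ∧ ∀ g : G, τ g = σ g :=
  h.desc (QuotientGroup.mk' N) (QuotientGroup.mk'_surjective N) (by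
    rw [QuotientGroup.ker_mk']; exact characteristic_iff_le_comap.1 hN σ)

theorem one_class {L : Type u} [Group L] [Finite L] (h : Lie.IsoSuzuki L) :
    ∃ z : L, z ≠ 1 ∧ z ^ 2 = 1 ∧ ∀ a : L, a ≠ 1 → a ^ 2 = 1 → IsConj z a := by
  obtain ⟨S, hS⟩ := exists_isSyl 2 (⊤ : Subgroup L)
  obtain ⟨Z, n, k⟩ := H61.SzK.jobSzKit L S h hS
  obtain ⟨z, hz, hz1⟩ := (nontrivial_iff_exists_ne_one Z).1 (Finite.one_lt_card_iff_nontrivial.1
    (k.card_Z ▸ Nat.one_lt_two_pow (by have := k.small_or; omega)))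
  refine ⟨z, hz1, (k.mem_Z z (k.Z_le hz)).1 hz, fun a h1 h2 => ?_⟩
  obtain ⟨g, -, hg⟩ := hS.exists_cj_le (Q := zpowers a) (IsPGroup.of_card (n := 1) (by
    rw [Nat.card_zpowers, orderOf_eq_prime h2 h1, pow_one])) le_top
  have h3 := hg (conj_mem_cj (mem_zpowers a))
  obtain ⟨d, -, hd⟩ := k.trans z hz hz1 _ ((k.mem_Z _ h3).2 (by rw [conj_pow, h2]; simp))
    (by simpa using h1)
  exact (isConj_iff.2 ⟨d, hd⟩).trans (isConj_iff.2 ⟨g, rfl⟩).symm

theorem Hyp.no_comp (h : Hyp σ) (hF : fittingSubgroup G = ⊥) {L : Subgroup G} :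
    ¬ IsComponent L := fun hL => by
  have hc := (H14.comp_center_le_fitting hL).trans hF.le
  have hZ : center L = ⊥ := eq_bot_iff.2 fun x hx => Subtype.ext
    (hc ⟨x.2, fun y hy => congrArg Subtype.val (mem_center_iff.1 hx ⟨y, hy⟩)⟩)
  have e := (QuotientGroup.quotientMulEquivOfEq hZ).trans QuotientGroup.quotientBot
  have := hL.2.2
  obtain ⟨z, z1, z2, z3⟩ := one_class (H24.isoSuzuki_of_equiv e.symm (H13.isoSuzuki_of_not_three
    H51.st1169 _ this (H14.quasi_quotient_not_comm hL.2) fun e => h.n3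
      ((e.trans (card_quotient_dvd_card _)).trans (card_subgroup_dvd_card L))))
  have z4 : (z : G) ^ 2 = 1 := congrArg Subtype.val z2
  rcases H14.comp_eq_or_commute (H14.comp_map_mulEquiv hL σ) hL with e | e
  · obtain ⟨_, ⟨a, ha, rfl⟩, h2⟩ := exists_fix Nat.prime_three h.cube
      (s := Subtype.val '' MulAction.orbit (ConjAct L) z) (by
        rintro _ ⟨a, ha, rfl⟩
        obtain ⟨c, rfl⟩ := isConj_iff.1 ((ConjAct.mem_orbit_conjAct.1 ha).symm)
        refine ⟨⟨_, e.le ⟨_, Subtype.coe_prop _, rfl⟩⟩, ConjAct.mem_orbit_conjAct.2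
          (z3 _ (fun e => z1 ?_) (Subtype.ext ?_)).symm, rfl⟩
        · simpa using congrArg Subtype.val e
        · simp [← map_pow, z4]) fun e => h.n3 (by
        rw [Nat.card_image_of_injective Subtype.val_injective, Nat.card_coe_set_eq,
          ← MulAction.index_stabilizer] at e
        exact (e.trans (index_dvd_card _)).trans (card_subgroup_dvd_card L))
    obtain ⟨c, rfl⟩ := isConj_iff.1 ((ConjAct.mem_orbit_conjAct.1 ha).symm)
    exact z1 (by simpa using h.odd _ h2 (by simp [z4]))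
  · have c1 : ∀ a ∈ L, ∀ b ∈ L, Commute (σ a) b := fun a ha b hb =>
      (commutator_eq_bot_iff_le_centralizer.1 e ⟨a, ha, rfl⟩ b hb).symm
    have h3 : ∀ g, σ (σ (σ g)) = g := fun g => by
      rw [show σ (σ (σ g)) = (σ ^ 3) g from rfl, h.cube]; rfl
    have c2 : ∀ b ∈ L, Commute (σ (σ z)) b := fun b hb => by
      simpa only [h3] using (((c1 b hb z z.2).map σ).map σ).symm
    have c3 := (c1 z z.2 z z.2).map σ
    have h4 := h.odd (z * (σ z * σ (σ z))) (by
        rw [map_mul, map_mul, h3, ← mul_assoc, ← ((c1 z z.2 z z.2).mul_left (c2 z z.2)).eq]) (by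
      rw [((c1 z z.2 z z.2).mul_left (c2 z z.2)).symm.mul_pow, c3.symm.mul_pow, ← map_pow,
        ← map_pow, ← map_pow, z4]
      simp)
    refine z1 (Subtype.ext (hc ⟨z.2, fun b hb => ?_⟩))
    rw [eq_inv_of_mul_eq_one_left h4]
    exact ((c1 z z.2 b hb).mul_left (c2 b hb)).inv_left.symm

theorem solvable (n : ℕ) : ∀ (G : Type u) [Group G] [Finite G] (σ : MulAut G), Nat.card G < n →
    Hyp σ → Group.IsSolvable G := by
  induction n with
  | zero => exact fun _ _ _ _ h => absurd h (Nat.not_lt_zero _)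
  | succ n ih =>
    intro G _ _ σ hn h
    by_cases hF : fittingSubgroup G = ⊥
    · have := H14.centralizer_fitting_le_of_layer_eq_bot (G := G)
        (H14.layer_eq_bot_iff.2 fun _ => h.no_comp hF)
      rw [hF, centralizer_bot'] at this
      exact Group.isSolvable_of_top_eq_bot G (le_bot_iff.1 this)
    obtain ⟨τ, h1, -⟩ := h.quot (fittingSubgroup G)
    have := ih _ τ ((H4.card_quotient_lt _ hF).trans_le (Nat.lt_succ_iff.1 hn)) h1
    exact H2.isSolvable_of_normal_of_quotient (fittingSubgroup G)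

theorem Hyp.core_ea (h : Hyp σ) (he : IsElementaryAbelian 2 (pCore 2 G))
    (hc : centralizer (pCore 2 G : Set G) ≤ pCore 2 G) (g : G) : g⁻¹ * σ g ∈ pCore 2 G := by
  by_cases h0 : σ = 1
  · simp [h0]
  obtain ⟨Γ, _, _, i, j, hi, hj, hn, hij, -⟩ := H22.exists_ambient (zpowers σ).subtype
  set x := j ⟨σ, mem_zpowers σ⟩ with hx
  replace hij : ∀ g, i (σ g) = x * i g * x⁻¹ := hij ⟨σ, mem_zpowers σ⟩
  have := Fact.mk Nat.prime_three
  have hX : Nat.card (zpowers x) = 3 := by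
    rw [Nat.card_zpowers, hx, orderOf_injective j hj, ← orderOf_coe, orderOf_eq_prime h.cube h0]
  have hR : Nat.card i.range = Nat.card G := (Nat.card_congr (MonoidHom.ofInjective hi).toEquiv).symm
  have syl : ∀ q [Fact q.Prime], ∃ P, IsSyl q P i.range ∧ zpowers x ≤ normalizer (P : Set Γ) :=
    fun q _ => by
      obtain ⟨P, -, h2⟩ := H1.exists_invariant_sylow_ge_subgroup (zpowers x) i.range
        le_normalizer_of_normal (by rw [hX, hR]; exact (Nat.prime_three.coprime_iff_not_dvd).2 h.n3)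
        (Or.inl inferInstance) q ⊥ bot_le IsPGroup.of_bot le_normalizer_of_normal
      exact ⟨_, isSyl_map_subtype P, h2⟩
  have hV := (H2.pCore_isPGroup 2 G).map i
  obtain ⟨S, hS, hxS⟩ := syl 2
  have hcop : (S.relIndex i.range).Coprime ((centralizer (zpowers x : Set Γ)).relIndex i.range) := by
    refine Nat.coprime_of_dvd fun q hq h1 h2 => ?_
    have := Fact.mk hq
    obtain ⟨P, hP, hxP⟩ := syl q
    have q2 : 2 ≠ q := fun e => hS.not_dvd_relIndex (e ▸ h1)
    have h3 : ⁅zpowers x, P⁆ ≤ centralizer ((pCore 2 G).map i : Set Γ) := by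
      by_contra k
      refine q2 (H22.hh_prime_fix_sub Nat.prime_two hq Nat.prime_three q2
        (fun e => h.n3 (e ▸ hR ▸ h1.trans (relIndex_dvd_card _ _))) _ _ _ hX hP.isPGroup hxP
        (H12.ea_map he i) (zpowers_le.2 (mem_normalizer_fintype ?_))
        (hP.le.trans ?_) (eq_bot_iff.2 ?_) k).1.symm
      · rintro _ ⟨v, hv, rfl⟩
        exact ⟨_, characteristic_iff_le_comap.1 inferInstance σ hv, hij v⟩
      · rw [MonoidHom.range_eq_map, ← normalizer_eq_top (pCore 2 G)]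
        exact le_normalizer_map i
      · rintro _ ⟨⟨v, hv, rfl⟩, e⟩
        rw [h.odd v (hi (by rw [hij, e x (mem_zpowers x), mul_inv_cancel_right])) (he.2 v hv)]
        simp
    have h4 := commutator_le_right' hxP
    refine hP.not_dvd_relIndex (h2.trans (relIndex_dvd_of_le_left _ (le_centralizer_iff.1
      (commutator_eq_bot_iff_le_centralizer.1 (eq_bot_iff.2 fun y hy => ?_)))))
    obtain ⟨w, rfl⟩ := hP.le (h4 hy)
    exact (IsPGroup.disjoint_of_ne 2 q q2 _ _ hV hP.isPGroup).le_bot ⟨⟨w, hc fun v hv =>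
      hi (by rw [map_mul, map_mul]; exact h3 hy _ ⟨v, hv, rfl⟩), rfl⟩, h4 hy⟩
  have hU : ⁅i.range, zpowers x⁆ ≤ S := commutator_le.2 fun r hr y hy => by
    obtain ⟨s, hs, c, hc, rfl⟩ := H4.exists_mul_of_coprime_relIndex hcop hr
    have h1 := S.mul_mem hs.1 (H98.conj_mem_of_mem_normalizer (hxS hy) (S.inv_mem hs.1))
    convert h1 using 1
    calc _ = s * (c * y) * c⁻¹ * s⁻¹ * y⁻¹ := by rw [commutatorElement_def]; group
      _ = _ := by rw [← hc.1 y hy]; group
  have : (⁅i.range, zpowers x⁆.comap i).Normal := ⟨fun a ha b => by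
    rw [mem_comap, map_mul, map_mul, map_inv]
    exact H98.conj_mem_of_mem_normalizer (H1.le_normalizer_commutator_left _ _ ⟨b, rfl⟩) ha⟩
  refine H2.le_pCore ((hS.isPGroup.to_le hU).comap_of_injective i hi) ?_
  rw [mem_comap, map_mul, map_inv, hij]
  simpa [commutatorElement_def, mul_assoc] using
    commutator_mem_commutator (inv_mem (i.mem_range.2 ⟨g, rfl⟩)) (mem_zpowers x)

theorem Hyp.core (h : Hyp σ) (hO : pPrimeCore 2 G = ⊥) (g : G) : g⁻¹ * σ g ∈ pCore 2 G := by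
  obtain ⟨Z, _, _, f, hf, hk, hcm, he, hce⟩ := H18.exists_frattini_reduction
    (H14.centralizer_pCore_le_of_fstar_eq (H14.fstar_eq_pCore_of (H14.fstar_eq_fitting_iff.1
      (H14.fstar_eq_fitting_of_solvable (solvable _ G σ (Nat.lt_succ_self _) h))) hO))
  obtain ⟨τ, h1, h2⟩ := h.desc f hf (hk ▸ characteristic_iff_le_comap.1 inferInstance σ)
  rw [← hcm, mem_comap, map_mul, map_inv, ← h2]
  exact h1.core_ea he hce _

theorem Hyp.exists_rep (h : Hyp σ) (g : G) : ∃ c, σ c = c ∧ c⁻¹ * g ∈ pPrimePCore 2 G := by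
  obtain ⟨τ, h1, h2⟩ := h.quot (pPrimeCore 2 G)
  have h3 : ∀ g, g⁻¹ * σ g ∈ pPrimePCore 2 G := fun g => by
    have := h1.core (H2.pPrimeCore_quotient_pPrimeCore 2 G) g
    rwa [h2] at this
  have : (pPrimePCore 2 G).Normal := Normal.comap inferInstance _
  obtain ⟨c, h4, h5⟩ := h.lift (QuotientGroup.mk' (pPrimePCore 2 G)) (g := g) (by
    rw [QuotientGroup.ker_mk']
    exact fun k hk => by simpa using mul_mem hk (h3 k)) (QuotientGroup.eq.2 (h3 g)).symm
  exact ⟨c, h4, QuotientGroup.eq.1 h5⟩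

theorem Hyp.index (h : Hyp σ) : ¬ 2 ∣ (pPrimePCore 2 G).index := fun e => by
  have : (pPrimePCore 2 G).Normal := Normal.comap inferInstance _
  obtain ⟨z, hz⟩ := exists_prime_orderOf_dvd_card' (G := G ⧸ pPrimePCore 2 G) 2 e
  obtain ⟨g, rfl⟩ := QuotientGroup.mk_surjective z
  obtain ⟨c, h1, h2⟩ := h.exists_rep g
  rw [← QuotientGroup.eq.2 h2] at hz
  have := h.eq_one (QuotientGroup.mk' (pPrimePCore 2 G)) h1
    (orderOf_dvd_iff_pow_eq_one.1 hz.dvd)
  rw [show (c : G ⧸ pPrimePCore 2 G) = 1 from this, orderOf_one] at hz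
  omega

end H10.F3
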