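/- Row S4841, characteristic two: the TI-sets `A t`. -/
import Cfsg.Agent.H10.GagA
import Cfsg.Agent.S1911

set_option autoImplicit false

namespace H10.G2

open Cfsg Subgroup

universe u v

variable {K : Type u} [Group K] {V : Type v} [AddCommGroup V] [Module (ZMod 2) V]
variable {ρ : K →* En V}

/-- the stabilizer of a vector -/
def stab (ρ : K →* En V) (v : V) : Subgroup K where
  carrier := {g | ρ g v = v}
  one_mem' := by simp
  mul_mem' := fun {a b} ha hb => by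
    simp only [Set.mem_ofPred_eq] at *
    rw [map_mul, Module.End.mul_apply, hb, ha]
  inv_mem' := fun {a} ha => by
    simp only [Set.mem_ofPred_eq] at *
    conv_lhs => rw [← ha]
    rw [← Module.End.mul_apply, ← map_mul, inv_mul_cancel, map_one]; rfl

theorem mem_stab {v : V} {g : K} : g ∈ stab ρ v ↔ ρ g v = v := Iff.rfl

theorem Fp.stab2 (h : Fp ρ) {v : V} (hv : v ≠ 0) : IsPGroup 2 (stab ρ v) :=
  H98.isPGroup_iff_forall.2 fun g hg => h.two g v hv hg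

/-- the elements fixing all vectors fixed by `t` -/
def A (ρ : K →* En V) (t : K) : Subgroup K := ⨅ v ∈ {v | ρ t v = v}, stab ρ v

theorem mem_A {t g : K} : g ∈ A ρ t ↔ ∀ v, ρ t v = v → ρ g v = v := by
  simp [A, mem_iInf, mem_stab]

theorem self_mem_A (t : K) : t ∈ A ρ t := mem_A.2 fun _ h => h

theorem ρ_inv_apply (g : K) (v : V) : ρ g⁻¹ (ρ g v) = v := by
  rw [← Module.End.mul_apply, ← map_mul, inv_mul_cancel, map_one]; rfl

theorem ρ_apply_inv (g : K) (v : V) : ρ g (ρ g⁻¹ v) = v := by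
  rw [← Module.End.mul_apply, ← map_mul, mul_inv_cancel, map_one]; rfl

theorem conj_fix {k g : K} {v : V} : ρ (k * g * k⁻¹) v = v ↔ ρ g (ρ k⁻¹ v) = ρ k⁻¹ v := by
  rw [map_mul, map_mul, Module.End.mul_apply, Module.End.mul_apply]
  exact ⟨fun h => by rw [← ρ_inv_apply (ρ := ρ) k (ρ g _), h], fun h => by rw [h, ρ_apply_inv]⟩

theorem conj_mem_A {t g : K} (k : K) (h : g ∈ A ρ t) : k * g * k⁻¹ ∈ A ρ (k * t * k⁻¹) :=
  mem_A.2 fun _ hv => conj_fix.2 (mem_A.1 h _ (conj_fix.1 hv))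

theorem conj_mem_A' {t g : K} (k : K) (h : g ∈ A ρ (k * t * k⁻¹)) : k⁻¹ * g * k ∈ A ρ t := by
  have := conj_mem_A k⁻¹ h
  rwa [inv_inv, show k⁻¹ * (k * t * k⁻¹) * k = t by group] at this

theorem A_map (t k : K) : (A ρ t).map (MulAut.conj k).toMonoidHom = A ρ (k * t * k⁻¹) := by
  ext g
  refine ⟨?_, fun h => ⟨_, conj_mem_A' k h, by simp [mul_assoc]⟩⟩
  rintro ⟨a, ha, rfl⟩
  exact conj_mem_A k ha

theorem d_mul (a b : K) :
    ρ (a * b) + 1 = (ρ a + 1) + (ρ b + 1) + (ρ a + 1) * (ρ b + 1) := by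
  rw [map_mul]
  linear_combination (norm := noncomm_ring) - xx (ρ a) - xx (ρ b) - xx (1 : En V)

theorem d_sq {t : K} (ht : t * t = 1) : (ρ t + 1) * (ρ t + 1) = 0 := by
  have : ρ t * ρ t = 1 := by rw [← map_mul, ht, map_one]
  linear_combination (norm := noncomm_ring) this + xx (ρ t) + xx (1 : En V)

theorem d_apply {g : K} {v : V} : (ρ g + 1) v = 0 ↔ ρ g v = v := by
  rw [LinearMap.add_apply, Module.End.one_apply, add_eq_zero_iff']

theorem d_pow (g : K) (k : ℕ) : (ρ g + 1) ^ 2 ^ k = ρ (g ^ 2 ^ k) + 1 := by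
  rw [frob (Commute.one_right _), one_pow, map_pow]

theorem ord2 {t : K} (ht : t * t = 1) (t1 : t ≠ 1) : orderOf t = 2 :=
  orderOf_eq_prime (by rw [pow_two, ht]) t1

theorem sq2 {t : K} (ht : orderOf t = 2) : t * t = 1 := by
  rw [← pow_two, ← ht, pow_orderOf_eq_one]

theorem ne2 {t : K} (ht : orderOf t = 2) : t ≠ 1 := fun e => by simp [e] at ht

theorem Hy.eq_bot (h : Hy ρ) {N : Subgroup K} (hN : N.Normal) (h2 : IsPGroup 2 N) : N = ⊥ :=
  le_bot_iff.1 (h.core ▸ le_sSup ⟨hN, h2⟩)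

theorem Hy.inj (h : Hy ρ) : Function.Injective ρ := by
  rw [← MonoidHom.ker_eq_bot_iff]
  have := h.nt
  obtain ⟨v, hv⟩ := exists_ne (0 : V)
  refine h.eq_bot inferInstance (H98.isPGroup_iff_forall.2 fun g hg => h.two g v hv ?_)
  rw [MonoidHom.mem_ker.1 hg]; rfl

theorem Hy.d_eq_zero (h : Hy ρ) {g : K} (e : ρ g + 1 = 0) : g = 1 :=
  h.inj (by rw [add_eq_zero_iffE.1 e, map_one])

theorem Fp.exists_fix (h : Fp ρ) {t : K} (ht : t * t = 1) : ∃ v, v ≠ 0 ∧ ρ t v = v := by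
  have := h.nt
  obtain ⟨v, hv⟩ := exists_ne (0 : V)
  by_cases e : (ρ t + 1) v = 0
  · exact ⟨v, hv, d_apply.1 e⟩
  · exact ⟨_, e, d_apply.1 (by rw [← Module.End.mul_apply, d_sq ht]; rfl)⟩

theorem Fp.A2 (h : Fp ρ) {t : K} (ht : t * t = 1) : IsPGroup 2 (A ρ t) := by
  obtain ⟨v, hv, e⟩ := h.exists_fix ht
  exact (h.stab2 hv).to_le fun g hg => mem_A.1 hg v e

variable [Finite K] [Finite V]

/-- involutions are free -/
theorem Hy.free (h : Hy ρ) {t : K} (ht : t * t = 1) (t1 : t ≠ 1) {v : V} (e : ρ t v = v) :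
    ∃ w, (ρ t + 1) w = v := by
  obtain ⟨g, g1, go, hg⟩ := Cfsg.Agent.S0200.result t (ord2 ht t1) fun N hN h2 hm =>
    t1 (by rwa [h.eq_bot hN h2] at hm)
  have inj : Function.Injective ⇑(ρ g + 1) := (injective_iff_map_eq_zero _).2 fun w hw =>
    h.fpf go (pow_orderOf_eq_one g) g1 (d_apply.1 hw)
  obtain ⟨w, rfl⟩ := Finite.surjective_of_injective inj v
  refine ⟨w, inj ?_⟩
  have h1 : ρ g * ρ t * ρ g = ρ t := by
    rw [← map_mul, ← map_mul, mul_assoc, mul_inv_eq_iff_eq_mul.1 hg]; simp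
  have h2 : ρ g (ρ t ((ρ g + 1) w)) = ρ g ((ρ g + 1) w) := by rw [e]
  have h3 : (ρ g + 1) * (ρ t + 1) + (ρ g + 1) * (ρ g + 1) =
      ρ g * (ρ t * (ρ g + 1)) + ρ g * (ρ g + 1) := by
    linear_combination (norm := noncomm_ring) - h1 + xx (ρ g) + xx (1 : En V)
  have h4 := LinearMap.congr_fun h3 w
  simp only [LinearMap.add_apply (_ * _), Module.End.mul_apply] at h4
  rwa [h2, vv, add_eq_zero_iff'] at h4

theorem Hy.ker_eq (h : Hy ρ) {t : K} (ht : t * t = 1) (t1 : t ≠ 1) :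
    LinearMap.ker (ρ t + 1) = LinearMap.range (ρ t + 1) := by
  ext v
  refine ⟨fun hv => h.free ht t1 (d_apply.1 hv), ?_⟩
  rintro ⟨w, rfl⟩
  rw [LinearMap.mem_ker, ← Module.End.mul_apply, d_sq ht]; rfl

theorem Hy.mem_A_iff (h : Hy ρ) {t g : K} (ht : t * t = 1) (t1 : t ≠ 1) :
    g ∈ A ρ t ↔ (ρ g + 1) * (ρ t + 1) = 0 := by
  rw [mem_A]
  refine ⟨fun hg => LinearMap.ext fun w => d_apply.2 (hg _ (d_apply.1 ?_)), fun hg v hv => ?_⟩
  · rw [← Module.End.mul_apply, d_sq ht]; rfl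
  · obtain ⟨w, rfl⟩ := h.free ht t1 hv
    exact d_apply.1 (by rw [← Module.End.mul_apply, hg]; rfl)

theorem Hy.mem_A_symm (h : Hy ρ) {t s : K} (ht : t * t = 1) (t1 : t ≠ 1) (hs : s * s = 1)
    (s1 : s ≠ 1) (hm : s ∈ A ρ t) : t ∈ A ρ s := by
  have : Module.Finite (ZMod 2) V := Module.Finite.of_finite
  have e1 := LinearMap.finrank_range_add_finrank_ker (ρ t + 1)
  have e2 := LinearMap.finrank_range_add_finrank_ker (ρ s + 1)
  rw [← h.ker_eq ht t1] at e1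
  rw [← h.ker_eq hs s1] at e2
  have : LinearMap.ker (ρ t + 1) = LinearMap.ker (ρ s + 1) :=
    Submodule.eq_of_le_of_finrank_eq (fun v hv => d_apply.2 (mem_A.1 hm v (d_apply.1 hv)))
      (by omega)
  exact mem_A.2 fun v hv => d_apply.1 (show v ∈ LinearMap.ker (ρ t + 1) from this ▸ d_apply.2 hv)

theorem Hy.A_sq (h : Hy ρ) {t g : K} (ht : t * t = 1) (t1 : t ≠ 1) (hg : g ∈ A ρ t) :
    g * g = 1 := by
  obtain ⟨k, hk⟩ := H98.isPGroup_iff_forall.1 (h.A2 ht) g hg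
  induction k with
  | zero => simp_all
  | succ k ih =>
    by_cases e : g ^ 2 ^ k = 1
    · exact ih e
    rcases k with _ | k
    · simpa [pow_two] using hk
    have zz : g ^ 2 ^ (k + 1) * g ^ 2 ^ (k + 1) = 1 := by rw [← pow_two, ← pow_mul, ← pow_succ, hk]
    have h1 := h.mem_A_symm ht t1 zz e (pow_mem hg _)
    obtain ⟨M, hM⟩ : ∃ M, 2 ^ (k + 1) = M + 1 + 1 :=
      ⟨2 ^ (k + 1) - 2, by have := Nat.one_le_two_pow (n := k); omega⟩
    have h2 := nil_step (ν := ρ g + 1) (M := M + 1) (fun v hv => by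
      rw [← hM, d_pow, d_apply] at hv
      rw [pow_succ, Module.End.mul_apply, d_apply.2 (mem_A.1 hg v (mem_A.1 h1 v hv)), map_zero])
      (M + 3) (by
        rw [show M + 1 + (M + 3) = 2 ^ (k + 1 + 1) by omega, d_pow, hk, map_one, xx])
    refine (e (h.d_eq_zero ?_)).elim
    rw [← d_pow, hM, pow_succ, h2, zero_mul]

theorem Hy.A_eq (h : Hy ρ) {t a : K} (ht : t * t = 1) (t1 : t ≠ 1) (ha : a ∈ A ρ t)
    (a1 : a ≠ 1) : A ρ a = A ρ t := by
  have h1 := h.mem_A_symm ht t1 (h.A_sq ht t1 ha) a1 ha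
  ext g
  rw [mem_A, mem_A]
  exact ⟨fun hg v hv => hg v (mem_A.1 ha v hv), fun hg v hv => hg v (mem_A.1 h1 v hv)⟩

theorem Hy.A_quad (h : Hy ρ) {t a b : K} (ht : t * t = 1) (t1 : t ≠ 1) (ha : a ∈ A ρ t)
    (hb : b ∈ A ρ t) : (ρ a + 1) * (ρ b + 1) = 0 := by
  by_cases b1 : b = 1
  · rw [b1, map_one, xx, mul_zero]
  · exact (h.mem_A_iff (h.A_sq ht t1 hb) b1).1 (h.A_eq ht t1 hb b1 ▸ ha)

theorem Hy.A_comm (h : Hy ρ) {t a b : K} (ht : t * t = 1) (t1 : t ≠ 1) (ha : a ∈ A ρ t)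
    (hb : b ∈ A ρ t) : Commute a b :=
  h.inj (add_right_cancel (b := 1) (by
    rw [d_mul, d_mul, h.A_quad ht t1 ha hb, h.A_quad ht t1 hb ha, add_comm (ρ a + 1)]))

omit [Finite K] [Finite V] in
theorem conj_sq {t : K} (ht : t * t = 1) (k : K) : k * t * k⁻¹ * (k * t * k⁻¹) = 1 := by
  rw [conj_mul, ht]; simp

omit [Finite K] [Finite V] in
theorem conj_ne {t : K} (t1 : t ≠ 1) (k : K) : k * t * k⁻¹ ≠ 1 := by simpa

theorem Hy.mem_nor (h : Hy ρ) {t k : K} (ht : t * t = 1) (t1 : t ≠ 1) :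
    k ∈ normalizer (A ρ t : Set K) ↔ k * t * k⁻¹ ∈ A ρ t := by
  refine ⟨fun hk => (hk t).1 (self_mem_A t), fun hk a => ?_⟩
  have e := h.A_eq ht t1 hk (conj_ne t1 k)
  refine ⟨fun ha => e ▸ conj_mem_A k ha, fun ha => ?_⟩
  have := conj_mem_A' k (e.symm ▸ ha : k * a * k⁻¹ ∈ A ρ (k * t * k⁻¹))
  rwa [show k⁻¹ * (k * a * k⁻¹) * k = a by group] at this

theorem Hy.ti (h : Hy ρ) {t s a : K} (ht : t * t = 1) (t1 : t ≠ 1) (hs : s * s = 1) (s1 : s ≠ 1)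
    (hn : s ∉ A ρ t) (ha : a ∈ A ρ t) (ha' : a ∈ A ρ s) : a = 1 := by
  by_contra a1
  exact hn (h.A_eq ht t1 ha a1 ▸ h.A_eq hs s1 ha' a1 ▸ self_mem_A s)

/-- two distinct conjugates of `A t` commute -/
def CP (ρ : K →* En V) (t : K) : Prop :=
  ∃ g, g * t * g⁻¹ ∉ A ρ t ∧ ∀ a ∈ A ρ t, ∀ b ∈ A ρ (g * t * g⁻¹), Commute a b

theorem Hy.comm_of_nor (h : Hy ρ) {t s : K} (ht : t * t = 1) (t1 : t ≠ 1) (hs : s * s = 1)
    (s1 : s ≠ 1) (hn : s ∉ A ρ t) (h1 : A ρ t ≤ normalizer (A ρ s : Set K))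
    (h2 : A ρ s ≤ normalizer (A ρ t : Set K)) : ∀ a ∈ A ρ t, ∀ b ∈ A ρ s, Commute a b := by
  intro a ha b hb
  have e : a * b * a⁻¹ * b⁻¹ = 1 := h.ti ht t1 hs s1 hn
    (by rw [mul_assoc, mul_assoc, ← mul_assoc b]
        exact mul_mem ha ((h2 hb _).1 (inv_mem ha)))
    (mul_mem ((h1 ha _).1 hb) (inv_mem hb))
  exact commutatorElement_eq_one_iff_commute.1 e

theorem Hy.cp_of_not_le (h : Hy ρ) {t : K} (ht : t * t = 1) (t1 : t ≠ 1) {P : Subgroup K}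
    (hP : IsPGroup 2 P) (hA : A ρ t ≤ P) (hn : ¬ P ≤ normalizer (A ρ t : Set K)) : CP ρ t := by
  have h1 : P ⊓ normalizer (A ρ t : Set K) < P := inf_lt_left.2 hn
  obtain ⟨r, hr, hr'⟩ := SetLike.exists_of_lt (H98.lt_inf_normalizer hP h1)
  have hAN : A ρ t ≤ P ⊓ normalizer (A ρ t : Set K) := le_inf hA le_normalizer
  have hrt : r * t * r⁻¹ ∉ A ρ t := fun e => hr' ⟨hr.1, (h.mem_nor ht t1).2 e⟩
  refine ⟨r, hrt, h.comm_of_nor ht t1 (conj_sq ht r) (conj_ne t1 r) hrt (fun a ha => ?_)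
    fun b hb => ?_⟩
  · have h2 : r⁻¹ * a * r⁻¹⁻¹ ∈ P ⊓ normalizer (A ρ t : Set K) :=
      ((normalizer _).inv_mem hr.2 a).1 (hAN ha)
    have h3 := conj_mem_A r ((h.mem_nor ht t1).1 h2.2)
    refine (h.mem_nor (conj_sq ht r) (conj_ne t1 r)).2 ?_
    convert h3 using 1; group
  · have h2 := (hr.2 _).1 (hAN (conj_mem_A' r hb))
    rw [show r * (r⁻¹ * b * r) * r⁻¹ = b by group] at h2
    exact h2.2

omit [Finite K] [Finite V] in
theorem CP.of_conj {t g : K} (h : CP ρ (g * t * g⁻¹)) : CP ρ t := by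
  obtain ⟨k, h1, h2⟩ := h
  refine ⟨g⁻¹ * k * g, fun e => h1 ?_, fun a ha b hb => ?_⟩
  · convert conj_mem_A g e using 1; group
  · have := h2 _ (conj_mem_A g ha) (g * b * g⁻¹) (by convert conj_mem_A g hb using 2; group)
    have e := this.eq
    rw [conj_mul, conj_mul] at e
    exact mul_left_cancel (mul_right_cancel e)

theorem Hy.cp_of_fix (h : Hy ρ) {t g : K} (ht : t * t = 1) (t1 : t ≠ 1)
    (hn : g * t * g⁻¹ ∉ A ρ t) {v : V} (hv : v ≠ 0) (e1 : ρ t v = v)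
    (e2 : ρ (g * t * g⁻¹) v = v) : CP ρ t := by
  have hP := h.stab2 hv
  have a1 : A ρ t ≤ stab ρ v := fun a ha => mem_A.1 ha v e1
  have a2 : A ρ (g * t * g⁻¹) ≤ stab ρ v := fun a ha => mem_A.1 ha v e2
  by_cases c1 : stab ρ v ≤ normalizer (A ρ t : Set K)
  · by_cases c2 : stab ρ v ≤ normalizer (A ρ (g * t * g⁻¹) : Set K)
    · exact ⟨g, hn, h.comm_of_nor ht t1 (conj_sq ht g) (conj_ne t1 g) hn (a1.trans c2)
        (a2.trans c1)⟩
    · exact (h.cp_of_not_le (conj_sq ht g) (conj_ne t1 g) hP a2 c2).of_conj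
  · exact h.cp_of_not_le ht t1 hP a1 c1

omit [Finite V] in
theorem odd_of_forall {H : Subgroup K} (h : ∀ a ∈ H, a * a = 1 → a = 1) : Odd (Nat.card H) := by
  by_contra hn
  obtain ⟨a, ha⟩ := exists_prime_orderOf_dvd_card' (G := H) 2
    (even_iff_two_dvd.1 (Nat.not_odd_iff_even.1 hn))
  exact ne2 ha (Subtype.ext (h a a.2 (congrArg Subtype.val (sq2 ha))))

omit [Finite K] [Finite V] in
theorem even_of_mem {H : Subgroup K} {t : K} (ht : t * t = 1) (t1 : t ≠ 1) (h : t ∈ H) :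
    Even (Nat.card H) :=
  even_iff_two_dvd.2 (ord2 ht t1 ▸ orderOf_dvd_natCard H h)

/-- without commuting pairs the normal closure of `A t` has a strongly embedded subgroup -/
theorem Hy.se_of_not_cp (h : Hy ρ) {t : K} (ht : t * t = 1) (t1 : t ≠ 1) (hn : ¬ CP ρ t) :
    ∃ M : Subgroup (normalClosure (A ρ t : Set K)), IsStronglyEmbedded M := by
  refine ⟨_, (Cfsg.Agent.S1911.result (A ρ t) ⟨even_of_mem ht t1 (self_mem_A t), fun g hg => ?_⟩
    fun g hg => ?_).resolve_left fun hN => ?_⟩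
  · rw [A_map]
    exact odd_of_forall fun a ha _ => h.ti ht t1 (conj_sq ht g) (conj_ne t1 g)
      (fun e => hg ((h.mem_nor ht t1).2 e)) ha.1 ha.2
  · rw [A_map]
    refine odd_of_forall fun b hb bb => ?_
    by_contra b1
    obtain ⟨w, w0, hw⟩ := h.exists_fix ht
    have hb2 := (h.mem_nor ht t1).1 (inv_mem hb.2)
    have hb3 := h.mem_A_symm ht t1 (conj_sq ht _) (conj_ne t1 _) hb2
    have key : ∀ v, ρ t v = v → ρ t (ρ b v) = ρ b v := fun v hv => by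
      have := conj_fix.1 (mem_A.1 hb2 v hv)
      rwa [inv_inv] at this
    obtain ⟨v, v0, e1, e2⟩ : ∃ v, v ≠ 0 ∧ ρ t v = v ∧ ρ b v = v := by
      by_cases e : (ρ b + 1) w = 0
      · exact ⟨w, w0, hw, d_apply.1 e⟩
      · refine ⟨_, e, ?_, d_apply.1 (by rw [← Module.End.mul_apply, d_sq bb]; rfl)⟩
        rw [LinearMap.add_apply, map_add, key w hw, Module.End.one_apply, hw]
    exact hn (h.cp_of_fix ht t1 (fun e => hg ((h.mem_nor ht t1).2 e)) v0 e1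
      (mem_A.1 (h.mem_A_symm (conj_sq ht g) (conj_ne t1 g) bb b1 hb.1) v e2))
  · exact t1 (by have := self_mem_A (ρ := ρ) t; rwa [h.eq_bot hN (h.A2 ht)] at this)

end H10.G2
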