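/- Row S4841, characteristic two: elements of order three acting on `2`-subgroups. -/
import Cfsg.Agent.H10.GagB

set_option autoImplicit false

namespace H10.G2

open Cfsg Subgroup

universe u v

variable {K : Type u} [Group K] {V : Type v} [AddCommGroup V] [Module (ZMod 2) V]
variable {ρ : K →* En V}

theorem pow_lin {U c X : En V} (hU : U * U = c * U + 1) (cU : Commute c U) (cX : Commute c X)
    (k : ℕ) : ∃ m g, m + 1 = 2 ^ k ∧ Commute g X ∧ Commute g U ∧ Commute g c ∧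
      U ^ 2 ^ k = c ^ m * U + g := by
  induction k with
  | zero => exact ⟨0, 0, rfl, by simp, by simp, by simp, by simp⟩
  | succ k ih =>
    obtain ⟨m, g, hm, g1, g2, g3, e⟩ := ih
    refine ⟨2 * m + 1, c ^ (2 * m) + g * g, by omega, (cX.pow_left _).add_left (g1.mul_left g1),
      (cU.pow_left _).add_left (g2.mul_left g2),
      ((Commute.refl c).pow_left _).add_left (g3.mul_left g3), ?_⟩
    have h1 := ((g3.pow_right m).mul_right g2).eq
    have h2 := (cU.pow_left m).eq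
    rw [pow_succ, pow_mul, e, sq, pow_succ, two_mul, pow_add]
    generalize c ^ m = C at *
    linear_combination (norm := noncomm_ring) h1 + xx (C * U * g) - C * h2 * U + C * C * hU

/-- the elements acting trivially on the image of `δ` -/
def fixD (ρ : K →* En V) (δ : En V) : Subgroup K where
  carrier := {g | ρ g * δ = δ}
  one_mem' := by simp
  mul_mem' := fun {a b} ha hb => by
    simp only [Set.mem_ofPred_eq] at *
    rw [map_mul, mul_assoc, hb, ha]
  inv_mem' := fun {a} ha => by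
    simp only [Set.mem_ofPred_eq] at *
    conv_lhs => rw [← ha]
    rw [← mul_assoc, ← map_mul, inv_mul_cancel, map_one, one_mul]

theorem mem_fixD {δ : En V} {g : K} : g ∈ fixD ρ δ ↔ ρ g * δ = δ := Iff.rfl

theorem Fp.fixD2 (h : Fp ρ) {δ : En V} (h0 : δ ≠ 0) : IsPGroup 2 (fixD ρ δ) := by
  obtain ⟨v, hv⟩ : ∃ v, δ v ≠ 0 := by
    by_contra hn
    push Not at hn
    exact h0 (LinearMap.ext hn)
  exact (h.stab2 hv).to_le fun g hg => LinearMap.congr_fun (mem_fixD.1 hg) v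

/-- the elements commuting with `c` -/
def cen (ρ : K →* En V) (c : En V) : Subgroup K where
  carrier := {g | Commute (ρ g) c}
  one_mem' := by simp
  mul_mem' := fun {a b} ha hb => by
    simp only [Set.mem_ofPred_eq] at *
    rw [map_mul]; exact ha.mul_left hb
  inv_mem' := fun {a} ha => by
    simp only [Set.mem_ofPred_eq] at *
    have h1 : ρ a * ρ a⁻¹ = 1 := by rw [← map_mul]; simp
    have h2 : ρ a⁻¹ * ρ a = 1 := by rw [← map_mul]; simp
    change _ = _
    linear_combination (norm := noncomm_ring) - ρ a⁻¹ * ha.eq * ρ a⁻¹ + h2 * c * ρ a⁻¹ -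
      ρ a⁻¹ * c * h1

theorem mem_cen {c : En V} {g : K} : g ∈ cen ρ c ↔ Commute (ρ g) c := Iff.rfl

theorem Fp.tr_comm (h : Fp ρ) {x y : K} (hx : orderOf x = 3) (hy : orderOf y = 3) :
    Commute (ρ x) (ρ (y * x⁻¹) + ρ (y * x⁻¹)⁻¹) := by
  have q := h.quad hx
  rw [mul_inv_rev, inv_inv, map_mul, map_mul, h.inv3 hx, h.inv3 hy]
  change _ = _
  generalize ρ x = X at *
  generalize ρ y = Y at *
  linear_combination (norm := noncomm_ring) q * Y - Y * q

variable [Finite K] [Finite V]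

theorem Hy.lemA_sq (h : Hy ρ) {x u : K} (hx : orderOf x = 3) {R : Subgroup K}
    (hR : IsPGroup 2 R) (hn : x ∈ normalizer (R : Set K)) (hu : u ∈ R)
    (hy : orderOf (u * x) = 3) : u * u = 1 := by
  obtain ⟨k, hk⟩ := H98.isPGroup_iff_forall.1 hR u hu
  induction k with
  | zero => simp_all
  | succ k ih =>
  by_cases z1 : u ^ 2 ^ k = 1
  · exact ih z1
  rcases k with _ | k
  · simpa [pow_two] using hk
  exfalso
  clear ih
  have zz : u ^ 2 ^ (k + 1) * u ^ 2 ^ (k + 1) = 1 := by rw [← pow_two, ← pow_mul, ← pow_succ, hk]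
  have cX := (h.tr_comm hx hy).symm
  rw [mul_inv_cancel_right] at cX
  obtain ⟨c, hc⟩ : ∃ c, c = ρ u + ρ u⁻¹ := ⟨_, rfl⟩
  rw [← hc] at cX
  have i1 : ρ u * ρ u⁻¹ = 1 := by rw [← map_mul]; simp
  have i2 : ρ u⁻¹ * ρ u = 1 := by rw [← map_mul]; simp
  have cU : Commute c (ρ u) := by
    rw [hc]; change _ = _; linear_combination (norm := noncomm_ring) i2 - i1
  have hU : ρ u * ρ u = c * ρ u + 1 := by
    rw [hc]; linear_combination (norm := noncomm_ring) - i2 - xx (1 : En V)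
  have ν2 : ∀ n, (ρ u + 1) ^ (2 * n) = ρ u ^ n * c ^ n := fun n => by
    rw [pow_mul, ← cU.symm.mul_pow, sq]; congr 1
    linear_combination (norm := noncomm_ring) hU + cU.eq + xx (ρ u) + xx (1 : En V)
  obtain ⟨m, g, hm, g1, -, -, hg⟩ := pow_lin hU cU cX k
  obtain ⟨e, he⟩ : ∃ e, e = 2 ^ k := ⟨_, rfl⟩
  have ζ : ρ (u ^ 2 ^ (k + 1)) + 1 = ρ u ^ e * c ^ e := by rw [← d_pow, pow_succ', ← he, ν2]
  have ν4 : (ρ u + 1) ^ (2 * (2 * e)) = 0 := by
    rw [he, ← pow_succ', ← pow_succ', d_pow, hk, map_one, xx]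
  have c2 : c ^ e * c ^ e = 0 := by
    rw [← pow_add, ← two_mul, ← one_mul (c ^ _), ← map_one ρ, ← inv_mul_cancel (u ^ (2 * e)),
      map_mul, mul_assoc, map_pow, ← ν2, ν4, mul_zero]
  have XP : ρ x * ρ x⁻¹ = 1 := by rw [← map_mul]; simp
  have PX : ρ x⁻¹ * ρ x = 1 := by rw [← map_mul]; simp
  have cP : Commute (ρ x⁻¹) c := inv_mem (show x ∈ cen ρ c from cX.symm)
  have ζ' : ρ (x * u ^ 2 ^ (k + 1) * x⁻¹) + 1 = ρ (x * u ^ e * x⁻¹) * c ^ e := by
    rw [map_mul, map_mul, map_mul, map_mul, map_pow _ _ e]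
    linear_combination (norm := noncomm_ring) ρ x * ζ * ρ x⁻¹ - XP -
      ρ x * ρ u ^ e * (cP.pow_right e).eq
  have q1 : (ρ (x * u ^ 2 ^ (k + 1) * x⁻¹) + 1) * (ρ (u ^ 2 ^ (k + 1)) + 1) = 0 := by
    rw [ζ, ζ']
    linear_combination (norm := noncomm_ring) ρ (x * u ^ e * x⁻¹) * (cU.pow_pow e e).eq * c ^ e +
      ρ (x * u ^ e * x⁻¹) * ρ u ^ e * c2
  have hz' := (h.mem_A_iff zz z1).2 q1
  by_cases hzz : x * u ^ 2 ^ (k + 1) * x⁻¹ * u ^ 2 ^ (k + 1) = 1
  · have h1 : x * u ^ 2 ^ (k + 1) * x⁻¹ = u ^ 2 ^ (k + 1) :=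
      mul_right_cancel (hzz.trans zz.symm)
    rw [h1, ζ, map_mul, map_mul, map_pow, he, hg, ← he] at ζ'
    have cXe := (cX.pow_left e).eq
    have cXm := (cX.pow_left m).eq
    have cUe := (cU.pow_left e).eq
    have cUm := (cU.pow_left m).eq
    have c3 : c * (c ^ m * c ^ e) = 0 := by rw [← mul_assoc, ← pow_succ', hm, ← he, c2]
    have cPe := (cP.pow_right e).eq
    have q := h.quad hx
    have qy := h.quad hy
    rw [map_mul] at qy
    have ν3 : (ρ u + 1) ^ (2 * (m + e)) = ρ u ^ (m + e) * (c ^ m * c ^ e) := by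
      rw [ν2, pow_add c]
    generalize c ^ m = Cm at *
    generalize c ^ e = Ce at *
    have h2 : ρ u * ρ x * (Cm * Ce) = ρ x * ρ u * (Cm * Ce) := by
      linear_combination (norm := noncomm_ring) ζ' * ρ x + ρ x * (Cm * ρ u + g) * cPe * ρ x +
        ρ x * (Cm * ρ u + g) * Ce * PX - (Cm * ρ u + g) * cXe - g1.eq * Ce -
        ρ u * cXm * Ce - cUm * ρ x * Ce + ρ x * cUm * Ce
    have CX : Cm * Ce * ρ x = ρ x * (Cm * Ce) := by
      linear_combination (norm := noncomm_ring) Cm * cXe + cXm * Ce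
    have CU : Cm * Ce * ρ u = ρ u * (Cm * Ce) := by
      linear_combination (norm := noncomm_ring) Cm * cUe + cUm * Ce
    generalize Cm * Ce = C at *
    have h3 : ρ u * ρ u * C = C := by
      linear_combination (norm := noncomm_ring) hU * C + cU.eq * C + ρ u * c3
    have h4 : (ρ u + 1) * C * ρ x = 0 := by
      linear_combination (norm := noncomm_ring) qy * C + ρ u * ρ x * ρ u * CX + ρ u * h2 * ρ x +
        ρ u * ρ u * CX * ρ x - h3 * ρ x * ρ x + ρ u * CX - C * q + xx (C * ρ x)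
    have h5 : (ρ u + 1) * C = 0 := by
      linear_combination (norm := noncomm_ring) h4 * ρ x⁻¹ - (ρ u + 1) * C * XP
    have h6 : (ρ u + 1) ^ (2 * (m + e) + 1) = 0 := by
      rw [pow_succ', ν3, ← mul_assoc,
        (((Commute.refl (ρ u)).add_left (Commute.one_left _)).pow_right _).eq, mul_assoc, h5,
        mul_zero]
    have dz : ρ (u ^ 2 ^ (k + 1)) + 1 = (ρ u + 1) ^ (m + e + 1) := by
      rw [← d_pow]; congr 1; omega
    have h7 := nil_step (ν := ρ u + 1) (M := m + e) (fun v hv => by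
      rw [← dz] at hv
      obtain ⟨w, rfl⟩ := h.free zz z1 (d_apply.1 hv)
      rw [dz, ← Module.End.mul_apply, ← pow_add, show m + e + (m + e + 1) = 2 * (m + e) + 1 by ring,
        h6]; rfl) (m + e + 1) (by rw [← h6]; congr 1; ring)
    exact z1 (h.d_eq_zero (by rw [dz, pow_succ, h7, zero_mul]))
  · have h1 := h.mem_A_symm zz z1 (h.A_sq zz z1 (mul_mem hz' (self_mem_A _))) hzz
      (mul_mem hz' (self_mem_A _))
    have uc : u ∈ cen ρ c := cU.symm
    have xc : x ∈ cen ρ c := cX.symm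
    obtain ⟨_, ⟨v, rfl⟩, v0, hv⟩ := fixed (ρ := ρ) (P := R ⊓ cen ρ c) (hR.to_le inf_le_left)
      (U := LinearMap.range (c ^ e)) (fun e0 => z1 (h.d_eq_zero (by
        rw [ζ, LinearMap.range_eq_bot.1 e0, mul_zero]))) (by
        rintro r hr _ ⟨w, rfl⟩
        exact ⟨ρ r w, (LinearMap.congr_fun ((mem_cen.1 hr.2).pow_right e).eq w).symm⟩)
    have f1 := hv (u ^ e) ⟨pow_mem hu e, pow_mem uc e⟩
    have f2 := hv (x * u ^ e * x⁻¹) ⟨(hn _).1 (pow_mem hu e),
      mul_mem (mul_mem xc (pow_mem uc e)) ((cen ρ c).inv_mem xc)⟩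
    have f3 : (ρ (u ^ 2 ^ (k + 1)) + 1) v = (c ^ e) v := by
      rw [ζ, Module.End.mul_apply, ← map_pow, f1]
    refine v0 (f3 ▸ d_apply.2 (mem_A.1 h1 v (d_apply.1 ?_)))
    rw [d_mul, q1, add_zero, LinearMap.add_apply, f3, ζ', Module.End.mul_apply, f2, vv]

omit [Finite K] [Finite V] in
theorem Fp.semi (h : Fp ρ) {x u : K} (hx : orderOf x = 3) (uu : u * u = 1)
    (hy : orderOf (u * x) = 3) : (ρ u + 1) * ρ x = (ρ x + 1) * (ρ u + 1) := by
  have q := h.inv3 hy
  rw [mul_inv_rev, map_mul, map_mul, h.inv3 hx, inv_eq_of_mul_eq_one_right uu] at q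
  linear_combination (norm := noncomm_ring) - q - xx (1 : En V)

omit [Finite K] [Finite V] in
theorem Hy.ord3_of_semi (h : Hy ρ) {x u : K} (hx : orderOf x = 3) (uu : u * u = 1)
    (hs : (ρ u + 1) * ρ x = (ρ x + 1) * (ρ u + 1)) : orderOf (u * x) = 3 := by
  have := Fact.mk Nat.prime_three
  have q := h.quad hx
  have U2 : ρ u * ρ u = 1 := by rw [← map_mul, uu, map_one]
  have h1 : ρ u * ρ x * (ρ u * ρ x) + ρ u * ρ x + 1 = 0 := by
    linear_combination (norm := noncomm_ring) - ρ u * hs * ρ x + U2 * ρ x * ρ x - U2 * ρ x +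
      q - xx (ρ x)
  refine orderOf_eq_prime (h.inj ?_) fun e => ?_
  · rw [map_pow, map_mul, map_one]
    linear_combination (norm := noncomm_ring) (ρ u * ρ x - 1) * h1
  · rw [eq_inv_of_mul_eq_one_left e] at uu
    have := orderOf_dvd_of_pow_eq_one (show x⁻¹ ^ 2 = 1 by rw [pow_two, uu])
    rw [orderOf_inv, hx] at this
    omega

omit [Finite K] [Finite V] in
theorem Fp.d_conj (h : Fp ρ) {x u : K} (hx : orderOf x = 3)
    (hs : (ρ u + 1) * ρ x = (ρ x + 1) * (ρ u + 1)) :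
    ρ (x * u * x⁻¹) + 1 = (ρ x + 1) * (ρ u + 1) := by
  have q := h.quad hx
  rw [map_mul, map_mul, h.inv3 hx]
  linear_combination (norm := noncomm_ring) ρ x * hs + q * (ρ u + 1) - q +
    xx (1 : En V) - xx (ρ u + 1)

theorem Hy.quadR (h : Hy ρ) {x u w : K} (hx : orderOf x = 3) {R : Subgroup K}
    (hR : IsPGroup 2 R) (hn : x ∈ normalizer (R : Set K)) (hu : u ∈ R) (hw : w ∈ R)
    (hy : orderOf (u * x) = 3) (hz : orderOf (w * x) = 3) : (ρ u + 1) * (ρ w + 1) = 0 := by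
  have uu := h.lemA_sq hx hR hn hu hy
  have com : ∀ w ∈ R, orderOf (w * x) = 3 → (ρ u + 1) * (ρ w + 1) = (ρ w + 1) * (ρ u + 1) :=
    fun w hw hz => by
      have ww := h.lemA_sq hx hR hn hw hz
      have h1 := h.lemA_sq hy hR (mul_mem (le_normalizer hu) hn) (mul_mem hw (inv_mem hu))
        (by simpa using hz)
      rw [inv_eq_of_mul_eq_one_right uu] at h1
      have h2 : u * w = w * u := by
        calc u * w = (w * w) * u * w * (u * u) := by rw [uu, ww]; group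
          _ = w * (w * u * (w * u)) * u := by group
          _ = w * u := by rw [h1]; group
      have h3 := congrArg ρ h2
      rw [map_mul, map_mul] at h3
      linear_combination (norm := noncomm_ring) h3
  have s1 := h.semi hx uu hy
  have s2 := h.semi hx (h.lemA_sq hx hR hn hw hz) hz
  have c1 := com w hw hz
  have c2 := com (x * w * x⁻¹) ((hn w).1 hw) (by
    rw [show x * w * x⁻¹ * x = x * (w * x) * x⁻¹ by group, ← MulAut.conj_apply,
      MulEquiv.orderOf_eq, hz])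
  rw [h.d_conj hx s2] at c2
  generalize ρ u + 1 = a at *
  generalize ρ w + 1 = b at *
  linear_combination (norm := noncomm_ring) - c2 + s1 * b + (ρ x + 1) * c1 + xx (a * b)

/-- case `α` -/
theorem Hy.not_cp_alpha (h : Hy ρ) {x a : K} (hx : orderOf x = 3) (aa : a * a = 1) (a1 : a ≠ 1)
    (ha : orderOf (a * x) = 3) : ¬ CP ρ a := by
  rintro ⟨g, hg, hc⟩
  obtain ⟨b, hb⟩ : ∃ b, b = g * a * g⁻¹ := ⟨_, rfl⟩
  obtain ⟨y, hy0⟩ : ∃ y, y = g * x * g⁻¹ := ⟨_, rfl⟩
  have hy : orderOf y = 3 := by rw [hy0, ← MulAut.conj_apply, MulEquiv.orderOf_eq, hx]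
  have hby : orderOf (b * y) = 3 := by
    rw [hy0, hb, conj_mul, ← MulAut.conj_apply, MulEquiv.orderOf_eq, ha]
  have bb : b * b = 1 := hb ▸ conj_sq aa g
  have b1 : b ≠ 1 := hb ▸ conj_ne a1 g
  rw [← hb] at hg hc
  clear hb hy0
  have sa := h.semi hx aa ha
  have sb := h.semi hy bb hby
  have da := h.d_conj hx sa
  have db := h.d_conj hy sb
  have a2 := d_sq (ρ := ρ) aa
  have b2 := d_sq (ρ := ρ) bb
  have ma : x * a * x⁻¹ ∈ A ρ a := (h.mem_A_iff aa a1).2 (by rw [da, mul_assoc, a2, mul_zero])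
  have mb : y * b * y⁻¹ ∈ A ρ b := (h.mem_A_iff bb b1).2 (by rw [db, mul_assoc, b2, mul_zero])
  have com : ∀ s ∈ A ρ a, ∀ t ∈ A ρ b, (ρ s + 1) * (ρ t + 1) = (ρ t + 1) * (ρ s + 1) :=
    fun s hs t ht => by
      have h3 := congrArg ρ (hc s hs t ht).eq
      rw [map_mul, map_mul] at h3
      linear_combination (norm := noncomm_ring) h3
  have c0 := com _ (self_mem_A a) _ (self_mem_A b)
  have c1 := com _ ma _ (self_mem_A b)
  have c2 := com _ (self_mem_A a) _ mb
  have c3 := com _ ma _ mb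
  rw [da] at c1 c3
  rw [db] at c2 c3
  have γ0 : (ρ b + 1) * (ρ a + 1) ≠ 0 := fun e => hg ((h.mem_A_iff aa a1).2 e)
  have qx := h.quad hx
  have qy := h.quad hy
  obtain ⟨α, hα⟩ : ∃ α, α = ρ a + 1 := ⟨_, rfl⟩
  obtain ⟨β, hβ⟩ : ∃ β, β = ρ b + 1 := ⟨_, rfl⟩
  rw [← hα] at sa a2 c0 c1 c2 c3 γ0
  rw [← hβ] at sb b2 c0 c1 c2 c3 γ0
  have Xγ : ρ x * (β * α) = β * α * (ρ x + 1) := by
    linear_combination (norm := noncomm_ring) c1 - (ρ x + 1) * c0 - β * sa - xx (β * α)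
  have Yγ : ρ y * (β * α) = β * α * (ρ y + 1) := by
    linear_combination (norm := noncomm_ring) - c2 - α * sb + c0 * ρ y - xx (β * α)
  have XY : ρ x * ρ y * (β * α) = ρ y * ρ x * (β * α) := by
    linear_combination (norm := noncomm_ring) c3 - (ρ x + 1) * c2 - (ρ y + 1) * c1 +
      (ρ y + 1) * (ρ x + 1) * c0
  obtain ⟨z, δ, δ0, hz, hbz, e1, e2, e3, e4⟩ : ∃ z δ, δ ≠ 0 ∧ orderOf z = 3 ∧
      orderOf (b * z) = 3 ∧ ρ z * δ = ρ x * δ ∧ ρ x * δ = δ * (ρ x + 1) ∧ α * δ = 0 ∧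
      β * δ = 0 := by
    by_cases e : (ρ x + ρ y + 1) * (β * α) = 0
    · have hy' : orderOf y⁻¹ = 3 := by rw [orderOf_inv, hy]
      refine ⟨y⁻¹, β * α, γ0, hy', h.ord3_of_semi hy' bb ?_, ?_, Xγ, ?_, ?_⟩
      · rw [h.inv3 hy, ← hβ]; linear_combination (norm := noncomm_ring) sb
      · rw [h.inv3 hy]; linear_combination (norm := noncomm_ring) e - xx (ρ x * (β * α))
      · linear_combination (norm := noncomm_ring) c0 * α + β * a2
      · linear_combination (norm := noncomm_ring) b2 * α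
    · refine ⟨y, _, e, hy, hby, ?_, ?_, ?_, ?_⟩
      · linear_combination (norm := noncomm_ring) - XY + qy * (β * α) - qx * (β * α)
      · linear_combination (norm := noncomm_ring) XY + (ρ x + ρ y + 1) * Xγ
      · linear_combination (norm := noncomm_ring) α * Xγ + α * Yγ +
          (c0 * α + β * a2) * (ρ x + ρ y + 3)
      · linear_combination (norm := noncomm_ring) β * Xγ + β * Yγ + b2 * α * (ρ x + ρ y + 3)
  have hR := h.fixD2 δ0
  have Pδ : ρ x⁻¹ * δ = δ * ρ x := by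
    rw [h.inv3 hx]; linear_combination (norm := noncomm_ring) e2 + xx δ
  have Xδ : ρ x * δ * ρ x = δ := by
    linear_combination (norm := noncomm_ring) e2 * ρ x + δ * qx - xx δ
  have hn : x ∈ normalizer (fixD ρ δ : Set K) := mem_normalizer_fintype fun r hr => by
    change ρ _ * δ = δ
    rw [map_mul, map_mul, mul_assoc, Pδ, mul_assoc, ← mul_assoc (ρ r), mem_fixD.1 hr,
      ← mul_assoc, Xδ]
  have hu : z * x⁻¹ ∈ fixD ρ δ := by
    rw [mem_fixD, map_mul, mul_assoc, Pδ, ← mul_assoc, e1, Xδ]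
  have haR : a ∈ fixD ρ δ := by
    rw [mem_fixD]; rw [hα] at e3; linear_combination (norm := noncomm_ring) e3 - xx δ
  have hbR : b ∈ fixD ρ δ := by
    rw [mem_fixD]; rw [hβ] at e4; linear_combination (norm := noncomm_ring) e4 - xx δ
  have hux : orderOf (z * x⁻¹ * x) = 3 := by simpa using hz
  have uu := h.lemA_sq hx hR hn hu hux
  by_cases u1 : z * x⁻¹ = 1
  · rw [mul_inv_eq_one.1 u1] at hbz
    exact γ0 (hα ▸ hβ ▸ h.quadR hx hR hn hbR haR hbz ha)
  · have h1 := (h.mem_A_iff uu u1).2 (h.quadR hx hR hn haR hu ha hux)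
    have hzn : z ∈ normalizer (fixD ρ δ : Set K) := by
      simpa using mul_mem (le_normalizer hu) hn
    have h2 := h.quadR hz hR hzn hbR (inv_mem hu) hbz (by simpa using hx)
    rw [inv_eq_of_mul_eq_one_right uu] at h2
    exact hg (h.A_eq uu u1 h1 a1 ▸ (h.mem_A_iff uu u1).2 h2)

/-- every element of order three centralizes every `2`-subgroup it normalizes -/
def Beta (K : Type u) [Group K] : Prop :=
  ∀ (R : Subgroup K) (x : K), IsPGroup 2 R → orderOf x = 3 → x ∈ normalizer (R : Set K) →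
    ∀ r ∈ R, Commute r x

theorem Hy.alpha (h : Hy ρ) (hn : ¬ Beta K) : ∃ a : K, a * a = 1 ∧ a ≠ 1 ∧ ¬ CP ρ a := by
  simp only [Beta, not_forall] at hn
  obtain ⟨R, x, hR, hx, hxn, r, hr, hc⟩ := hn
  have h1 : r * x * r⁻¹ * x⁻¹ ∈ R := by
    rw [mul_assoc, mul_assoc, ← mul_assoc x]; exact mul_mem hr ((hxn _).1 (inv_mem hr))
  have h2 : orderOf (r * x * r⁻¹ * x⁻¹ * x) = 3 := by
    rw [inv_mul_cancel_right, ← MulAut.conj_apply, MulEquiv.orderOf_eq, hx]
  have h3 := h.lemA_sq hx hR hxn h1 h2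
  have h4 : r * x * r⁻¹ * x⁻¹ ≠ 1 := fun e => hc (commutatorElement_eq_one_iff_commute.1 e)
  exact ⟨_, h3, h4, h.not_cp_alpha hx h3 h4 h2⟩

end H10.G2
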