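/- Row S4841, characteristic two: subgroups `SL(2, 2^a)`. -/
import Cfsg.Agent.H10.GagC
import Cfsg.Agent.H47.Higman

set_option autoImplicit false

namespace H10.G2

open Cfsg Subgroup Matrix MatrixGroups H61 H65 H47

universe u v

variable {K : Type u} [Group K] {V : Type v} [AddCommGroup V] [Module (ZMod 2) V]
variable {ρ : K →* En V} {F : Type} [Field F]

/-- coordinates: the representation of `SL(2, F)` extends to the matrix ring -/
structure Co (ρ : K →* En V) (φ : SL(2, F) →* K) where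
  β : F →+* En V
  e : En V
  f : En V
  Φ : Matrix (Fin 2) (Fin 2) F →+* En V
  ee : e * e = 0
  ff : f * f = 0
  ef : e * f + f * e = 1
  βe : ∀ c, β c * e = e * β c
  βf : ∀ c, β c * f = f * β c
  hΦ : ∀ m, Φ m = β (m 0 0) * (e * f) + β (m 0 1) * e + β (m 1 0) * f + β (m 1 1) * (f * e)
  hρ : ∀ g, ρ (φ g) = Φ g

variable {φ : SL(2, F) →* K}

theorem ord3_of_tr [CharP F 2] (hφ : Function.Injective φ) {g : SL(2, F)} (hg : tr g = 1) :
    orderOf (φ g) = 3 := by
  have := Fact.mk Nat.prime_three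
  rw [orderOf_injective φ hφ]
  exact orderOf_eq_prime (cube_of_tr_eq_one hg) (ne_one_of_tr_eq_one hg)

theorem Fp.coords [CharP F 2] [Finite F] (h : Fp ρ) (hφ : Function.Injective φ)
    (h4 : 4 ≤ Nat.card F) : Nonempty (Co ρ φ) := by
  obtain ⟨β, e, f, ee, ff, ef, βe, βf, hU, hL⟩ := Fpf3.exists_beta (ρ := ρ.comp φ) h4
    (fun g hg => by
      have := h.inv3 (ord3_of_tr hφ hg)
      simp only [MonoidHom.comp_apply, map_inv φ]
      linear_combination (norm := noncomm_ring) this + xx (ρ (φ g)) + xx (1 : En V)) two0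
  have efe : e * (f * e) = e := by linear_combination (norm := noncomm_ring) e * ef - ee * f
  have fef : f * (e * f) = f := by linear_combination (norm := noncomm_ring) f * ef - ff * e
  have ee' : ∀ x, e * (e * x) = 0 := fun x => by rw [← mul_assoc, ee, zero_mul]
  have ff' : ∀ x, f * (f * x) = 0 := fun x => by rw [← mul_assoc, ff, zero_mul]
  have βe' : ∀ c x, e * (β c * x) = β c * (e * x) := fun c x => by
    rw [← mul_assoc, ← βe, mul_assoc]
  have βf' : ∀ c x, f * (β c * x) = β c * (f * x) := fun c x => by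
    rw [← mul_assoc, ← βf, mul_assoc]
  let Φ : Matrix (Fin 2) (Fin 2) F →+* En V :=
    { toFun := fun m =>
        β (m 0 0) * (e * f) + β (m 0 1) * e + β (m 1 0) * f + β (m 1 1) * (f * e)
      map_one' := by simp [ef]
      map_zero' := by simp
      map_add' := fun m n => by simp only [Matrix.add_apply, map_add]; noncomm_ring
      map_mul' := fun m n => by
        simp only [Matrix.mul_apply, Fin.sum_univ_two, map_add, map_mul, add_mul, mul_add,
          mul_assoc, βe', βf', ee, ff, ee', ff', efe, fef, mul_zero, add_zero,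
          zero_add]
        abel }
  refine ⟨⟨β, e, f, Φ, ee, ff, ef, βe, βf, fun _ => rfl, fun g => ?_⟩⟩
  induction g using sl_induction_UL with
  | hU t =>
    refine (hU t).trans ?_
    simp only [Φ, RingHom.coe_mk, MonoidHom.coe_mk, OneHom.coe_mk, sl2U_val]
    simp only [of_apply, cons_val', cons_val_zero, cons_val_one, cons_val_fin_one, map_one, map_zero]
    linear_combination (norm := noncomm_ring) - ef
  | hL t =>
    refine (hL t).trans ?_
    simp only [Φ, RingHom.coe_mk, MonoidHom.coe_mk, OneHom.coe_mk, sl2L_val]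
    simp only [of_apply, cons_val', cons_val_zero, cons_val_one, cons_val_fin_one, map_one, map_zero]
    linear_combination (norm := noncomm_ring) - ef
  | hmul x y hx hy => rw [map_mul, map_mul, hx, hy, ← map_mul]; rfl

namespace Co

variable (c : Co ρ φ)

theorem efe : c.e * c.f * c.e = c.e := by
  linear_combination (norm := noncomm_ring) c.e * c.ef - c.ee * c.f

theorem fef : c.f * c.e * c.f = c.f := by
  linear_combination (norm := noncomm_ring) c.f * c.ef - c.ff * c.e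

theorem ρ_eq (g : SL(2, F)) : ρ (φ g) = c.β (g 0 0) * (c.e * c.f) + c.β (g 0 1) * c.e +
    c.β (g 1 0) * c.f + c.β (g 1 1) * (c.f * c.e) := by rw [c.hρ, c.hΦ]

theorem ρU (t : F) : ρ (φ (sl2U t)) + 1 = c.β t * c.e := by
  rw [c.ρ_eq]; simp only [sl2U_val, of_apply, cons_val', cons_val_zero, cons_val_one,
    cons_val_fin_one, map_one, map_zero]
  linear_combination (norm := noncomm_ring) c.ef + xx (1 : En V)

theorem ρL (t : F) : ρ (φ (sl2L t)) + 1 = c.β t * c.f := by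
  rw [c.ρ_eq]; simp only [sl2L_val, of_apply, cons_val', cons_val_zero, cons_val_one,
    cons_val_fin_one, map_one, map_zero]
  linear_combination (norm := noncomm_ring) c.ef + xx (1 : En V)

theorem ρU1 : ρ (φ (sl2U 1)) + 1 = c.e := by simpa using c.ρU 1

theorem ρL1 : ρ (φ (sl2L 1)) + 1 = c.f := by simpa using c.ρL 1

theorem ρD (a : F) (ha : a ≠ 0) :
    ρ (φ (slD a ha)) = c.β a * (c.e * c.f) + c.β a⁻¹ * (c.f * c.e) := by
  rw [c.ρ_eq]; simp [slD]

theorem tr_eq [CharP F 2] (g : SL(2, F)) : ρ (φ g) + ρ (φ g)⁻¹ = c.β (tr g) := by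
  rw [← map_inv, c.ρ_eq, c.ρ_eq, sl_inv_00, sl_inv_01, sl_inv_10, sl_inv_11, tr, map_neg, map_neg,
    map_add]
  linear_combination (norm := noncomm_ring) (c.β (g 0 0) + c.β (g 1 1)) * c.ef

/-- an endomorphism commuting with `e`, `f` and killed by `e` vanishes -/
theorem eq_zero {z : En V} (h1 : z * c.f = c.f * z) (h2 : z * c.e = 0) : z = 0 := by
  linear_combination (norm := noncomm_ring) - z * c.ef + h2 * c.f + h1 * c.e + c.f * h2

theorem comm_all {G : En V} (h1 : G * c.e = c.e * G) (h2 : G * c.f = c.f * G)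
    (h3 : ∀ t, G * c.β t = c.β t * G) (s : SL(2, F)) : G * ρ (φ s) = ρ (φ s) * G := by
  have h4 : ∀ t z, G * z = z * G → G * (c.β t * z) = c.β t * z * G := fun t z hz => by
    linear_combination (norm := noncomm_ring) h3 t * z + c.β t * hz
  rw [c.ρ_eq, mul_add, mul_add, mul_add, h4 _ _ h1, h4 _ _ h2,
    h4 _ _ (by linear_combination (norm := noncomm_ring) h1 * c.f + c.e * h2),
    h4 _ _ (by linear_combination (norm := noncomm_ring) h2 * c.e + c.f * h1)]
  noncomm_ring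

end Co

variable [CharP F 2]

theorem slU_sq (t : F) : sl2U t * sl2U t = 1 := by
  rw [slU_mul, CharTwo.add_self_eq_zero, slU_zero]

omit [CharP F 2] in
theorem slU_eq_one {t : F} (h : sl2U t = 1) : t = 0 := by
  simpa using congrArg (fun g : SL(2, F) => g 0 1) h

theorem φU_sq (t : F) : φ (sl2U t) * φ (sl2U t) = 1 := by rw [← map_mul, slU_sq, map_one]

omit [CharP F 2] in
theorem φU_ne (hφ : Function.Injective φ) {t : F} (ht : t ≠ 0) : φ (sl2U t) ≠ 1 := fun e =>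
  ht (slU_eq_one (hφ (e.trans (map_one φ).symm)))

theorem invol_entries {s : SL(2, F)} (ss : s * s = 1) :
    s 1 1 = s 0 0 ∧ (s 0 0 + 1) ^ 2 = s 0 1 * s 1 0 := by
  have h2 : (2 : F) = 0 := CharTwo.two_eq_zero
  have h1 := sl_inv_00 s
  rw [inv_eq_of_mul_eq_one_right ss] at h1
  have hd := sl_det s
  exact ⟨h1.symm, by linear_combination hd + s 0 0 * h1 + (s 0 0 + 1) * h2⟩

theorem invol_conj [Finite F] {s : SL(2, F)} (ss : s * s = 1) (s1 : s ≠ 1) :
    ∃ k : SL(2, F), k * sl2U 1 * k⁻¹ = s := by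
  have h2 : (2 : F) = 0 := CharTwo.two_eq_zero
  obtain ⟨h1, h3⟩ := invol_entries ss
  obtain ⟨r, hr⟩ := exists_mul_self (s 0 1)
  obtain ⟨p, hp⟩ := exists_mul_self (s 1 0)
  have h4 : s 0 0 = r * p + 1 := by
    have : (s 0 0 + 1 + r * p) ^ 2 = 0 := by
      linear_combination h3 - s 0 1 * hp - p * p * hr + ((s 0 0 + 1) * r * p + r ^ 2 * p ^ 2) * h2
    have h5 := (pow_eq_zero_iff two_ne_zero).1 this
    linear_combination h5 - (r * p + 1) * h2
  have key : ∀ x y (hd : r * y - x * p = 1), sl2 r x p y hd * sl2U 1 * (sl2 r x p y hd)⁻¹ = s :=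
    fun x y hd => by
      rw [mul_inv_eq_iff_eq_mul]
      apply sl_ext <;> simp [sl_mul_apply, h1, h4, ← hr, ← hp]
      · linear_combination - r * r * p * h2
      · linear_combination - r * hd - r * p * x * h2
      · linear_combination - r * p * p * h2
      · linear_combination p * hd - (r * p * y - p) * h2
  by_cases r0 : r = 0
  · have p0 : p ≠ 0 := fun p0 => s1 (sl_ext (by simp [h4, r0]) (by simp [← hr, r0])
      (by simp [← hp, p0]) (by simp [h1, h4, r0]))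
    exact ⟨_, key (-p⁻¹) 0 (by simp [p0])⟩
  · exact ⟨_, key 0 r⁻¹ (by simp [r0])⟩

theorem slD_conj [Finite F] {t : F} (ht : t ≠ 0) :
    ∃ k : SL(2, F), k * sl2U 1 * k⁻¹ = sl2U t := invol_conj (slU_sq t) fun e => ht (slU_eq_one e)

theorem Co.quad_of_comm (c : Co ρ φ) {s t : SL(2, F)} (ss : s * s = 1) (tt : t * t = 1)
    (hc : s * t = t * s) : (ρ (φ s) + 1) * (ρ (φ t) + 1) = 0 := by
  have h2 : (2 : F) = 0 := CharTwo.two_eq_zero
  obtain ⟨h1, h3⟩ := invol_entries ss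
  obtain ⟨h4, h5⟩ := invol_entries tt
  have h6 := congrArg (fun g : SL(2, F) => g 0 0) hc
  simp only [sl_mul_apply] at h6
  have h7 : s 0 1 * t 1 0 = t 0 1 * s 1 0 := by linear_combination h6
  have : ((s : Matrix (Fin 2) (Fin 2) F) + 1) * ((t : Matrix (Fin 2) (Fin 2) F) + 1) = 0 := by
    have sq : ∀ x y : F, x ^ 2 = y ^ 2 → x + y = 0 := fun x y hxy =>
      pow_eq_zero_iff two_ne_zero |>.1 (by linear_combination hxy + (x * y + y ^ 2) * h2)
    ext i j
    fin_cases i <;> fin_cases j <;>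
      simp [Matrix.mul_apply, Fin.sum_univ_two, h1, h4] <;> apply sq
    · linear_combination (t 0 0 + 1) ^ 2 * h3 + s 0 1 * s 1 0 * h5 - s 0 1 * t 1 0 * h7
    · linear_combination t 0 1 ^ 2 * h3 - s 0 1 ^ 2 * h5 - s 0 1 * t 0 1 * h7
    · linear_combination s 1 0 ^ 2 * h5 - t 1 0 ^ 2 * h3 - s 1 0 * t 1 0 * h7
    · linear_combination - (t 0 0 + 1) ^ 2 * h3 - s 0 1 * s 1 0 * h5 - s 1 0 * t 0 1 * h7
  rw [c.hρ, c.hρ, ← map_one c.Φ, ← map_add, ← map_add, ← map_mul, this, map_zero]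

/-- an element centralizing `x` and inverting `y` -/
theorem Fp.tr_conj (h : Fp ρ) {x y i : K} (hx : orderOf x = 3) (hy : orderOf y = 3)
    (h1 : Commute i x) (h2 : i * y * i⁻¹ = y⁻¹) :
    ρ i * (ρ (y * x⁻¹) + ρ (y * x⁻¹)⁻¹) = (ρ (y * x⁻¹) + ρ (y * x⁻¹)⁻¹ + 1) * ρ i := by
  have e1 := congrArg ρ h1.eq
  have e2 := congrArg ρ (mul_inv_eq_iff_eq_mul.1 h2)
  rw [map_mul, map_mul] at e1 e2
  rw [_root_.mul_inv_rev, inv_inv, map_mul, map_mul, h.inv3 hx]
  rw [h.inv3 hy] at e2 ⊢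
  linear_combination (norm := noncomm_ring) e2 * (ρ x + 1) + (ρ y + 1) * e1 + e1 * (ρ y + 1) +
    ρ x * e2 + xx (ρ x * ρ i)

theorem Co.no_shift [Finite F] (c : Co ρ φ) (h : Fp ρ) {a : ℕ} (ha : Odd a)
    (hF : Nat.card F = 2 ^ a) {i : K} {τ : F} : ρ i * c.β τ ≠ (c.β τ + 1) * ρ i := by
  intro e
  have := Fintype.ofFinite F
  have h1 : ρ i * c.β (∑ j ∈ Finset.range a, τ ^ 2 ^ j) =
      (c.β (∑ j ∈ Finset.range a, τ ^ 2 ^ j) + 1) * ρ i := by
    have : ∀ j ∈ Finset.range a, ρ i * c.β (τ ^ 2 ^ j) = (c.β (τ ^ 2 ^ j) + 1) * ρ i :=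
      fun j _ => by
        have := (SemiconjBy.pow_right e (2 ^ j)).eq
        rwa [frob (Commute.one_right _), one_pow, ← map_pow] at this
    rw [map_sum, Finset.mul_sum, Finset.sum_congr rfl this, ← Finset.sum_mul,
      Finset.sum_add_distrib]
    simp [odd_cast ha]
  have h2 : (∑ j ∈ Finset.range a, τ ^ 2 ^ j) ^ 2 = ∑ j ∈ Finset.range a, τ ^ 2 ^ j := by
    have h3 := Finset.sum_range_succ (fun j => τ ^ 2 ^ j) a
    rw [Finset.sum_range_succ', ← hF, Nat.card_eq_fintype_card, FiniteField.pow_card] at h3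
    rw [CharTwo.sum_sq]
    simp only [pow_zero, pow_one, add_left_inj] at h3
    rw [← h3]
    exact Finset.sum_congr rfl fun j _ => by rw [← pow_mul, ← pow_succ]
  have h4 : ρ i = 0 := by
    rcases eq_zero_or_one_of_sq_eq_self h2 with h5 | h5 <;> rw [h5] at h1
    · simpa using h1.symm
    · rw [map_one, xx] at h1; simpa using h1
  exact h.one_ne (by rw [← map_one ρ, ← mul_inv_cancel i, map_mul, h4, zero_mul])

variable [Finite K] [Finite V]

theorem Co.U_mem (c : Co ρ φ) (h : Hy ρ) (hφ : Function.Injective φ) (t : F) :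
    φ (sl2U t) ∈ A ρ (φ (sl2U 1)) :=
  (h.mem_A_iff (φU_sq 1) (φU_ne hφ one_ne_zero)).2 (by rw [c.ρU, c.ρU1, mul_assoc, c.ee, mul_zero])

theorem Co.A_le (c : Co ρ φ) (h : Hy ρ) (hφ : Function.Injective φ) {a : K}
    (ha : a ∈ A ρ (φ (sl2U 1))) (hn : a * φ (sl2L 1) * a⁻¹ ∈ φ.range) : ∃ t, a = φ (sl2U t) := by
  have u1 := φU_ne hφ (one_ne_zero (α := F))
  obtain ⟨g, hg⟩ := hn
  have h1 := h.A_quad (φU_sq 1) u1 ha (self_mem_A _)
  have h2 := h.A_quad (φU_sq 1) u1 (self_mem_A _) ha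
  have h3 := d_sq (ρ := ρ) (h.A_sq (φU_sq 1) u1 ha)
  rw [inv_eq_of_mul_eq_one_right (h.A_sq (φU_sq 1) u1 ha)] at hg
  have h4 := congrArg ρ hg
  rw [map_mul, map_mul, c.ρ_eq] at h4
  have h5 := c.ρL1
  rw [c.ρU1] at h1 h2
  refine ⟨g 0 0 + 1, h.inj (add_right_cancel (b := 1) ?_)⟩
  rw [c.ρU, map_add, map_one]
  obtain ⟨α, hα⟩ : ∃ α, ρ a = α + 1 :=
    ⟨ρ a + 1, by rw [add_assoc, xx, add_zero]⟩
  obtain ⟨f', hf⟩ : ∃ f', ρ (φ (sl2L 1)) = f' + 1 :=
    ⟨ρ (φ (sl2L 1)) + 1, by rw [add_assoc, xx, add_zero]⟩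
  rw [hα] at h1 h2 h3 h4 ⊢
  rw [hf] at h4 h5
  rw [add_assoc, xx, add_zero] at h1 h2 h3 h5 ⊢
  subst h5
  have b0 := c.βe (g 0 0)
  have b1 := c.βe (g 0 1)
  have b2 := c.βe (g 1 0)
  have b3 := c.βe (g 1 1)
  have b4 := c.βf (g 1 0)
  have b5 := c.βf (g 1 1)
  have h6 : c.e * c.f * α = α := by
    linear_combination (norm := noncomm_ring) c.ef * α - c.f * h2
  have h7 : α * c.f * c.e = α := by
    linear_combination (norm := noncomm_ring) α * c.ef - h1 * c.f
  have h8 : c.e * c.f * (c.β (g 0 0) * (c.e * c.f) + c.β (g 0 1) * c.e + c.β (g 1 0) * c.f +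
      c.β (g 1 1) * (c.f * c.e)) * c.e = c.β (g 0 0) * c.e := by
    linear_combination (norm := noncomm_ring) c.e * c.f * c.β (g 0 0) * c.efe -
      c.e * c.βf (g 0 0) * c.e - b0 * c.f * c.e + c.β (g 0 0) * c.efe +
      c.e * c.f * c.β (g 0 1) * c.ee - c.e * b4 * c.f * c.e + c.e * c.β (g 1 0) * c.ff * c.e +
      c.e * c.f * c.β (g 1 1) * c.f * c.ee
  rw [h4] at h8
  linear_combination (norm := noncomm_ring) h8 - c.e * c.f * (α + 1) * (c.f + 1) * h1 -
    h6 * c.f * c.e - h7 - c.e * c.f * h1 - c.e * c.ff * c.e - c.efe - xx c.e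

theorem Co.split [Finite F] (c : Co ρ φ) (h : Hy ρ) (hφ : Function.Injective φ) {ν : F}
    (ν0 : ν ≠ 0) (ν1 : ν + 1 ≠ 0) (ν3 : ν * ν + ν + 1 ≠ 0) {g : K}
    (hg : ∀ t, Commute g (φ (sl2U t))) :
    ∃ a ∈ A ρ (φ (sl2U 1)), ∀ s, Commute (a * g) (φ s) := by
  classical
  have := Fintype.ofFinite F
  have u1 := φU_ne hφ (one_ne_zero (α := F))
  have uu := φU_sq (φ := φ) 1
  have hG : ∀ g : K, (∀ t, Commute g (φ (sl2U t))) → ∀ t,
      ρ g * (c.β t * c.e) = c.β t * c.e * ρ g := fun g hg t => by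
    have := congrArg ρ (hg t).eq
    rw [map_mul, map_mul] at this
    rw [← c.ρU]; linear_combination (norm := noncomm_ring) this
  let D : Fˣ →* K :=
    { toFun := fun μ => φ (slD μ μ.ne_zero)
      map_one' := by rw [← map_one φ]; congr 1; apply sl_ext <;> simp [slD]
      map_mul' := fun μ μ' => by
        rw [← map_mul]; congr 1; apply sl_ext <;> simp [slD, sl_mul_apply, mul_comm] }
  have De : ∀ μ : Fˣ, ρ (D μ) * c.e = c.β μ * c.e := fun μ => by
    change ρ (φ _) * _ = _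
    rw [c.ρD]
    linear_combination (norm := noncomm_ring) c.β μ * c.efe + c.β (μ : F)⁻¹ * c.f * c.ee
  have eD : ∀ μ : Fˣ, c.e * ρ (D μ) = c.β (μ : F)⁻¹ * c.e := fun μ => by
    change _ * ρ (φ _) = _
    rw [c.ρD]
    linear_combination (norm := noncomm_ring) - c.βe μ * c.e * c.f + c.β μ * c.ee * c.f -
      c.βe (μ : F)⁻¹ * c.f * c.e + c.β (μ : F)⁻¹ * c.efe
  have mA : ∀ μ, D μ * g * (D μ)⁻¹ * g⁻¹ ∈ A ρ (φ (sl2U 1)) := fun μ => by
    refine (h.mem_A_iff uu u1).2 ?_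
    have h1 := hG g⁻¹ (fun t => (hg t).inv_left) 1
    have h2 := hG g hg (μ⁻¹ : Fˣ)
    have h3 := De μ⁻¹
    have h4 : ρ (D μ) * ρ (D μ⁻¹) = 1 := by rw [← map_mul, ← map_mul]; simp
    have h5 : ρ g * ρ g⁻¹ = 1 := by rw [← map_mul]; simp
    rw [map_one, one_mul] at h1
    rw [c.ρU1, ← map_inv, map_mul, map_mul, map_mul]
    linear_combination (norm := noncomm_ring) ρ (D μ) * ρ g * ρ (D μ⁻¹) * h1 +
      ρ (D μ) * ρ g * h3 * ρ g⁻¹ + ρ (D μ) * h2 * ρ g⁻¹ +
      ρ (D μ) * c.β (μ⁻¹ : Fˣ) * c.e * h5 - ρ (D μ) * h3 + h4 * c.e + xx c.e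
  have sumA : ∀ S : Finset Fˣ, ∃ a ∈ A ρ (φ (sl2U 1)),
      ρ a + 1 = ∑ μ ∈ S, (ρ (D μ * g * (D μ)⁻¹ * g⁻¹) + 1) := fun S => by
    induction S using Finset.induction_on with
    | empty => exact ⟨1, one_mem _, by simp [xx]⟩
    | insert μ S hμ ih =>
      obtain ⟨a, ha, e⟩ := ih
      exact ⟨_, mul_mem (mA μ) ha, by
        rw [Finset.sum_insert hμ, d_mul, h.A_quad uu u1 (mA μ) ha, add_zero, e]⟩
  obtain ⟨a, ha, e⟩ := sumA Finset.univ
  have Dn : ∀ μ, D μ ∈ normalizer (A ρ (φ (sl2U 1)) : Set K) := fun μ => by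
    refine (h.mem_nor uu u1).2 ?_
    change φ _ * _ * (φ _)⁻¹ ∈ _
    rw [← map_mul, slD_mul_U, map_mul, mul_inv_cancel_right]
    exact c.U_mem h hφ _
  have cD : ∀ μ, Commute (a * g) (D μ) := fun μ => by
    have h1 : ρ (D μ * a * (D μ)⁻¹) + 1 = (ρ a + 1) + (ρ (D μ * g * (D μ)⁻¹ * g⁻¹) + 1) := by
      have h4 : ρ (D μ) * ρ (D μ)⁻¹ = 1 := by rw [← map_mul]; simp
      have cj : ∀ b, ρ (D μ * b * (D μ)⁻¹) + 1 = ρ (D μ) * (ρ b + 1) * ρ (D μ)⁻¹ := fun b => by
        rw [map_mul, map_mul]; linear_combination (norm := noncomm_ring) - h4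
      have h5 : ∀ μ' ∈ (Finset.univ : Finset Fˣ),
          ρ (D μ) * (ρ (D μ' * g * (D μ')⁻¹ * g⁻¹) + 1) * ρ (D μ)⁻¹ =
          (ρ (D (μ * μ') * g * (D (μ * μ'))⁻¹ * g⁻¹) + 1) + (ρ (D μ * g * (D μ)⁻¹ * g⁻¹) + 1) :=
        fun μ' _ => by
          have h6 := d_mul (ρ := ρ) (D μ * (D μ' * g * (D μ')⁻¹ * g⁻¹) * (D μ)⁻¹)
            (D μ * g * (D μ)⁻¹ * g⁻¹)
          rw [h.A_quad uu u1 ((Dn μ _).1 (mA μ')) (mA μ), add_zero, cj] at h6
          rw [show D (μ * μ') * g * (D (μ * μ'))⁻¹ * g⁻¹ = D μ * (D μ' * g * (D μ')⁻¹ * g⁻¹) *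
            (D μ)⁻¹ * (D μ * g * (D μ)⁻¹ * g⁻¹) by rw [map_mul]; group, h6, add_assoc _ _ (_ + 1), xx,
            add_zero]
      have h7 : Odd (Fintype.card Fˣ) := by
        obtain ⟨n, -, hn⟩ := FiniteField.card F 2
        rw [Fintype.card_units, hn]
        exact Nat.Even.sub_odd (Nat.one_le_two_pow) (Nat.even_pow.2 ⟨even_two, n.ne_zero⟩) odd_one
      rw [cj, e, Finset.mul_sum, Finset.sum_mul, Finset.sum_congr rfl h5, Finset.sum_add_distrib,
        Finset.sum_const, Finset.card_univ, nsmul_eq_mul, odd_cast h7, one_mul]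
      congr 1
      exact Equiv.sum_comp (Equiv.mulLeft μ) fun μ => ρ (D μ * g * (D μ)⁻¹ * g⁻¹) + 1
    have h2 : D μ * a * (D μ)⁻¹ = a * (D μ * g * (D μ)⁻¹ * g⁻¹) :=
      h.inj (add_right_cancel (b := 1) (by rw [h1, d_mul a, h.A_quad uu u1 ha (mA μ), add_zero]))
    have h3 := h.A_sq uu u1 (mA μ)
    change _ = _
    calc a * g * D μ = a * (D μ * g * (D μ)⁻¹ * g⁻¹ * (D μ * g * (D μ)⁻¹ * g⁻¹)) * g * D μ := by
          rw [h3, mul_one]
      _ = D μ * (a * g) := by rw [← mul_assoc a, ← h2]; group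
  refine ⟨a, ha, fun s => h.inj ?_⟩
  have G1 := hG (a * g) fun t => (h.A_comm uu u1 ha (c.U_mem h hφ t)).mul_left (hg t)
  have G2 : ∀ μ : Fˣ, ρ (a * g) * ρ (D μ) = ρ (D μ) * ρ (a * g) := fun μ => by
    rw [← map_mul, ← map_mul, (cD μ).eq]
  rw [map_mul ρ (a * g), map_mul ρ _ (a * g)]
  generalize ρ (a * g) = G at G1 G2
  have Ge : G * c.e = c.e * G := by simpa using G1 1
  have r0 : c.e * c.f * G * (c.f * c.e) = 0 := by
    have key : ∀ μ : F, μ ≠ 0 → c.β μ * (c.e * c.f * G * (c.f * c.e)) =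
        c.e * c.f * G * (c.f * c.e) * c.β μ⁻¹ := fun μ μ0 => by
      have h1 := G2 (Units.mk0 μ μ0)
      have h2 := eD (Units.mk0 μ μ0)
      have h3 : c.f * ρ (D (Units.mk0 μ μ0)) = c.β μ * c.f := by
        change _ * ρ (φ _) = _
        rw [c.ρD]
        simp only [Units.val_mk0]
        linear_combination (norm := noncomm_ring) - c.βf μ * c.e * c.f + c.β μ * c.fef -
          c.βf μ⁻¹ * c.f * c.e + c.β μ⁻¹ * c.ff * c.e
      have h4 : ρ (D (Units.mk0 μ μ0)) * c.f = c.β μ⁻¹ * c.f := by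
        change ρ (φ _) * _ = _
        rw [c.ρD]
        simp only [Units.val_mk0]
        linear_combination (norm := noncomm_ring) c.β μ * c.e * c.ff + c.β μ⁻¹ * c.fef
      linear_combination (norm := noncomm_ring) c.βe μ * c.f * G * c.f * c.e -
        c.e * h3 * G * c.f * c.e - c.e * c.f * h1 * c.f * c.e + c.e * c.f * G * h4 * c.e +
        c.e * c.f * G * c.βf μ⁻¹ * c.e + c.e * c.f * G * c.f * c.βe μ⁻¹
    generalize c.e * c.f * G * (c.f * c.e) = r at key
    have h1 := key ν ν0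
    have h2 := key _ ν1
    have h3 : r * c.β (ν⁻¹ + 1 + (ν + 1)⁻¹) = 0 := by
      rw [map_add] at h2
      rw [map_add, map_add, map_one]
      rw [map_one] at h2
      linear_combination (norm := noncomm_ring) - h1 - h2 + xx (c.β ν * r) + xx r
    have h4 : ν⁻¹ + 1 + (ν + 1)⁻¹ ≠ 0 := fun e => ν3 (by
      have h2 : (2 : F) = 0 := CharTwo.two_eq_zero
      field_simp at e
      linear_combination e - ν * h2)
    rw [← mul_one r, ← map_one c.β, ← mul_inv_cancel₀ h4, map_mul, ← mul_assoc, h3, zero_mul]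
  have GE : G * (c.e * c.f) = c.e * c.f * G := by
    linear_combination (norm := noncomm_ring) - c.ef * G * c.e * c.f + c.e * c.f * G * c.ef +
      c.f * c.e * Ge * c.f + c.f * c.ee * G * c.f - r0
  have Gf : G * c.f = c.f * G := by
    linear_combination (norm := noncomm_ring) - c.ef * (G * c.f - c.f * G) - GE * c.f +
      G * c.e * c.ff - c.e * c.ff * G - c.f * Ge * c.f + c.f * GE
  refine c.comm_all Ge Gf (fun t => sub_eq_zero.1 (c.eq_zero ?_ ?_)) s
  · linear_combination (norm := noncomm_ring) G * c.βf t + Gf * c.β t - c.β t * Gf - c.βf t * G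
  · linear_combination (norm := noncomm_ring) G1 t - c.β t * Ge

end H10.G2
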