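import Cfsg.Agent.H10.HkOdd
import Cfsg.Agent.H57.St2

/-! HKS tower: the group induced by `L_X` on the fixed points of `X`. -/

set_option autoImplicit false
set_option linter.unusedSectionVars false

namespace H10.HkL

open MulAction Cfsg Subgroup H89.K H65 H7.HKS

universe u

variable {G Ω : Type u} [Group G] [Finite G] [MulAction G Ω] {U : Ω → Subgroup G} {X : Set G}
  {Y : Type u} [Group Y] [Finite Y] [MulAction Y (Fx Ω X)] {π : LX U X →* Y}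
  {g g' u u' w : G} {y y' v v' w' : Y} {c d : Fx Ω X}

/-- The graph of `π`. -/
def R (π : LX U X →* Y) (g : G) (y : Y) : Prop := ∃ h : g ∈ LX U X, π ⟨g, h⟩ = y

namespace R

theorem one : R π 1 1 := ⟨one_mem _, map_one π⟩

theorem mem (h : R π g y) : g ∈ LX U X := h.1

theorem mul (h : R π g y) (h' : R π g' y') : R π (g * g') (y * y') := by
  obtain ⟨h, rfl⟩ := h
  obtain ⟨h', rfl⟩ := h'
  exact ⟨mul_mem h h', map_mul π ⟨g, h⟩ ⟨g', h'⟩⟩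

theorem inv (h : R π g y) : R π g⁻¹ y⁻¹ := by
  obtain ⟨h, rfl⟩ := h
  exact ⟨inv_mem h, map_inv π ⟨g, h⟩⟩

theorem pow (h : R π g y) (n : ℕ) : R π (g ^ n) (y ^ n) := by
  obtain ⟨h, rfl⟩ := h
  exact ⟨pow_mem h n, map_pow π ⟨g, h⟩ n⟩

theorem zpow (h : R π g y) (n : ℤ) : R π (g ^ n) (y ^ n) := by
  obtain ⟨h, rfl⟩ := h
  exact ⟨zpow_mem h n, map_zpow π ⟨g, h⟩ n⟩

theorem uniq (h : R π g y) (h' : R π g y') : y = y' := h.2.symm.trans h'.2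

theorem of_mem (h : g ∈ LX U X) : ∃ y, R π g y := ⟨_, h, rfl⟩

theorem eq (h : R π g y) (e : y = y') : R π g y' := e ▸ h

end R

theorem card_eq {A : Subgroup G} {A' : Subgroup Y} (h1 : ∀ u ∈ A, ∃ v ∈ A', R π u v)
    (h2 : ∀ v ∈ A', ∃ u ∈ A, R π u v) (h3 : ∀ u ∈ A, ∀ u' ∈ A, ∀ v, R π u v → R π u' v → u = u') :
    Nat.card A = Nat.card A' := by
  choose f hf hf' using h1
  refine Nat.card_eq_of_bijective (fun u => ⟨f u u.2, hf u u.2⟩) ⟨fun s t e => ?_, fun v => ?_⟩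
  · exact Subtype.ext (h3 s s.2 t t.2 _ (hf' s s.2) ((hf' t t.2).eq (congrArg Subtype.val e).symm))
  · obtain ⟨s, hs, e⟩ := h2 v v.2
    exact ⟨⟨s, hs⟩, Subtype.ext ((hf' s hs).uniq e)⟩

theorem cu_le (c : Fx Ω X) : CU U X c ≤ LX U X :=
  le_iSup₂ (f := fun (c : Ω) (_ : c ∈ Fx Ω X) => CU U X c) c c.2

/-- The induced family. -/
abbrev V (π : LX U X →* Y) : Fx Ω X → Subgroup Y := Quo (CU U X) (Fx Ω X) π

theorem mem_V : v ∈ V π c ↔ ∃ u ∈ CU U X c, R π u v :=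
  ⟨fun ⟨s, hs, e⟩ => ⟨s, hs, s.2, e⟩, fun ⟨s, hs, h, e⟩ => ⟨⟨s, h⟩, hs, e⟩⟩

theorem cu_empty (W : Fx Ω X → Subgroup Y) (c : Fx Ω X) : CU W ∅ c = W c :=
  inf_eq_left.2 fun _ _ _ h => h.elim

theorem mem_cu : v ∈ CU (V π) ∅ c ↔ ∃ u ∈ CU U X c, R π u v := by rw [cu_empty, mem_V]

theorem ex_V (hu : u ∈ CU U X c) : ∃ v ∈ CU (V π) ∅ c, R π u v := by
  obtain ⟨v, hv⟩ := R.of_mem (π := π) (cu_le c hu)
  exact ⟨v, mem_cu.2 ⟨u, hu, hv⟩, hv⟩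

theorem gen_odd (h : Rg U) (H : Subgroup (LX U X)) (hH : ∀ g, Odd (orderOf g) → g ∈ H) : H = ⊤ := by
  have : LX U X ≤ H.map (LX U X).subtype := iSup₂_le fun c hc s hs =>
    ⟨⟨s, cu_le ⟨c, hc⟩ hs⟩, hH _ (by
      rw [← orderOf_injective _ (LX U X).subtype_injective]
      exact (h.odd c).of_dvd_nat (orderOf_dvd_natCard _ hs.1)), rfl⟩
  refine eq_top_iff.2 fun s _ => ?_
  obtain ⟨t, ht, e⟩ := this s.2
  exact (Subtype.ext e : t = s) ▸ ht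

theorem lx_top (hs : Function.Surjective π) : LX (V π) ∅ = ⊤ := by
  have : LX U X ≤ ((LX (V π) ∅).comap π).map (LX U X).subtype := iSup₂_le fun c hc s hs => by
    obtain ⟨v, hv, h, e⟩ := ex_V (π := π) (c := ⟨c, hc⟩) hs
    refine ⟨⟨s, h⟩, ?_, rfl⟩
    rw [SetLike.mem_coe, mem_comap, e]
    exact cu_le (U := V π) (X := ∅) ⟨⟨c, hc⟩, fun _ h => h.elim⟩ hv
  refine eq_top_iff.2 fun y _ => ?_
  obtain ⟨s, rfl⟩ := hs y
  obtain ⟨t, ht, e⟩ := this s.2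
  exact (Subtype.ext e : t = s) ▸ ht

structure Cv (π : LX U X →* Y) : Prop where
  rg : Rg U
  res : IsRes (LX U X) (Fx Ω X) Y π
  cen : LX U X ≤ centralizer X
  ker : ∀ k : G, (∀ c ∈ Fx Ω X, k • c = c) → ∀ l ∈ LX U X, k * l = l * k
  two : ∀ c : Ω, ∃ d ∈ Fx Ω X, d ≠ c

namespace Cv

variable (C : Cv π)
include C

theorem ex (y : Y) : ∃ g, R π g y := by
  obtain ⟨g, rfl⟩ := C.res.surj y
  exact ⟨g, g.2, rfl⟩

theorem smul (h : R π g y) : y • c = d ↔ g • (c : Ω) = d := by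
  obtain ⟨h, rfl⟩ := h
  exact C.res.smul_eq_iff

theorem fixes (h : R π g 1) : ∀ c ∈ Fx Ω X, g • c = c := fun c hc =>
  (C.smul (c := ⟨c, hc⟩) (d := ⟨c, hc⟩) h).1 (one_smul _ _)

theorem central (h : R π g 1) : ∀ l ∈ LX U X, g * l = l * g := C.ker g (C.fixes h)

theorem inj {e : Ω} (hu : u ∈ U e) (hu' : u' ∈ U e) (h : R π u v) (h' : R π u' v) : u = u' := by
  obtain ⟨d, hd, k⟩ := C.two e
  exact inv_mul_eq_one.1 (C.rg.reg k _ (mul_mem (inv_mem hu) hu')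
    (C.fixes ((h.inv.mul h').eq (inv_mul_cancel v)) d hd))

theorem conj (hg : g ∈ LX U X) {e : Ω} (hu : u ∈ CU U X e) : g * u * g⁻¹ ∈ CU U X (g • e) :=
  ⟨C.rg.conj g e u hu.1, (centralizer X).mul_mem ((centralizer X).mul_mem (C.cen hg) hu.2)
    ((centralizer X).inv_mem (C.cen hg))⟩

theorem comm_iff {e : Ω} (hw : R π w w') (he : w • e = e) (hu : u ∈ CU U X e) (h : R π u v) :
    u * w = w * u ↔ v * w' = w' * v := by
  refine ⟨fun k => (h.mul hw).uniq (k ▸ hw.mul h), fun k => ?_⟩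
  have := C.conj hw.mem hu
  rw [he] at this
  rw [← mul_inv_eq_iff_eq_mul.1 (C.inj this.1 hu.1 (((hw.mul h).mul hw.inv).eq
    (mul_inv_eq_iff_eq_mul.2 k.symm)) h)]

theorem card_cu {A : Subgroup G} {A' : Subgroup Y}
    (h : ∀ u ∈ CU U X c, ∀ v, R π u v → (u ∈ A ↔ v ∈ A')) :
    Nat.card ↥(CU U X c ⊓ A) = Nat.card ↥(CU (V π) ∅ c ⊓ A') := by
  refine card_eq (π := π) (fun u hu => ?_) (fun v hv => ?_)
    fun u hu u' hu' v k k' => C.inj hu.1.1 hu'.1.1 k k'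
  · obtain ⟨v, hv, k⟩ := ex_V (π := π) hu.1
    exact ⟨v, ⟨hv, (h u hu.1 v k).1 hu.2⟩, k⟩
  · obtain ⟨u, hu, k⟩ := mem_cu.1 hv.1
    exact ⟨u, ⟨hu, (h u hu v k).2 hv.2⟩, k⟩

theorem card_cu' (c : Fx Ω X) : Nat.card (CU U X c) = Nat.card (CU (V π) ∅ c) := by
  simpa only [inf_top_eq] using C.card_cu (c := c) (A := ⊤) (A' := ⊤) fun _ _ _ _ => by simp

theorem cen1_iff {e : Ω} (hw : R π w w') (he : w • e = e) (hu : u ∈ CU U X e) (h : R π u v) :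
    u ∈ centralizer {w} ↔ v ∈ centralizer {w'} := by
  rw [mem_centralizer_singleton_iff, mem_centralizer_singleton_iff, C.comm_iff hw he hu h]

theorem z_iff (hu : u ∈ CU U X c) (h : R π u v) :
    u ∈ centralizer (CU U X c : Set G) ↔ v ∈ centralizer (CU (V π) ∅ c : Set Y) := by
  refine ⟨fun k s hs => ?_, fun k s hs => ?_⟩
  · obtain ⟨t, ht, e⟩ := mem_cu.1 hs
    exact ((C.comm_iff e (C.rg.fix _ _ ht.1) hu h).1 (k t ht).symm).symm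
  · obtain ⟨t, ht, e⟩ := ex_V (π := π) hs
    exact ((C.comm_iff e (C.rg.fix _ _ hs.1) hu h).2 (k t ht).symm).symm

theorem zu_iff (hu : u ∈ CU U X c) (h : R π u v) : u ∈ ZU U X c ↔ v ∈ ZU (V π) ∅ c :=
  ⟨fun k => ⟨mem_cu.2 ⟨u, hu, h⟩, (C.z_iff hu h).1 k.2⟩, fun k => ⟨hu, (C.z_iff hu h).2 k.2⟩⟩

theorem rgV (t2 : T2 Y (Fx Ω X))
    (tr : ∀ c d e : Fx Ω X, d ≠ c → e ≠ c → ∃ u ∈ CU U X c, u • (d : Ω) = e) : Rg (V π) := by
  refine ⟨⟨t2, fun c v hv => ?_, fun y c v hv => ?_, fun c => ?_, fun {c d e} h k => ?_⟩,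
    fun c d h v hv k => ?_, fun c => ?_⟩
  · obtain ⟨u, hu, e⟩ := mem_V.1 hv
    exact (C.smul e).2 (C.rg.fix _ _ hu.1)
  · obtain ⟨u, hu, e⟩ := mem_V.1 hv
    obtain ⟨g, hg⟩ := C.ex y
    refine mem_V.2 ⟨_, ?_, (hg.mul e).mul hg.inv⟩
    rw [← (C.smul hg).1 rfl]
    exact C.conj hg.mem hu
  · have := C.rg.nil c
    have : Group.IsNilpotent (CU U X c) :=
      Group.nilpotent_of_mulEquiv (subgroupOfEquivOfLe (inf_le_left : CU U X c ≤ U c))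
    have : Group.IsNilpotent ((CU U X c).subgroupOf (LX U X)) :=
      Group.nilpotent_of_mulEquiv (subgroupOfEquivOfLe (cu_le c)).symm
    exact Group.nilpotent_of_surjective _ (π.subgroupMap_surjective _)
  · obtain ⟨u, hu, e⟩ := tr c d e h k
    obtain ⟨v, hv⟩ := R.of_mem (π := π) (cu_le c hu)
    exact ⟨v, mem_V.2 ⟨u, hu, hv⟩, (C.smul hv).2 e⟩
  · obtain ⟨u, hu, e⟩ := mem_V.1 hv
    rw [C.rg.reg (fun e => h (Subtype.ext e)) u hu.1 ((C.smul e).1 k)] at e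
    exact e.uniq R.one
  · rw [← cu_empty (V π), ← C.card_cu']
    exact (C.rg.odd c).of_dvd_nat (card_dvd_of_le inf_le_left)

/-- Lifting the data of type L. -/
theorem ld {F : Type} [Field F] [Fintype F] {x y : F → Y} {A B : Subgroup G} {A' B' : Subgroup Y}
    (D : LD x y A' B' c d) (hA : A ≤ CU U X c) (hB : B ≤ CU U X d) (hA' : A' ≤ CU (V π) ∅ c)
    (hB' : B' ≤ CU (V π) ∅ d) (eA : ∀ u ∈ CU U X c, ∀ v, R π u v → (u ∈ A ↔ v ∈ A'))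
    (eB : ∀ u ∈ CU U X d, ∀ v, R π u v → (u ∈ B ↔ v ∈ B')) :
    ∃ x' y' : F → G, LD x' y' A B (c : Ω) d ∧ R π (sl2h x' y' (-1)) (sl2h x y (-1)) := by
  choose x' hx rx using fun t => mem_cu.1 (hA' ((D.rx _).2 ⟨t, rfl⟩))
  choose y' hy ry using fun t => mem_cu.1 (hB' ((D.ry _).2 ⟨t, rfl⟩))
  have rn : ∀ t, R π (sl2n x' y' t) (sl2n x y t) := fun t => ((rx _).mul (ry _)).mul (rx _)
  have sw : ∀ t, t ≠ 0 → Sw (sl2n x' y' t) (c : Ω) d := fun t ht =>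
    ⟨(C.smul (rn t)).1 (D.sw t ht).1, (C.smul (rn t)).1 (D.sw t ht).2⟩
  have S : H57.St2 x' y' := ⟨fun s t => C.inj (mul_mem (hx s).1 (hx t).1) (hx _).1
      (((rx s).mul (rx t)).eq (D.rel.x_add s t)) (rx _),
    fun s t => C.inj (mul_mem (hy s).1 (hy t).1) (hy _).1
      (((ry s).mul (ry t)).eq (D.rel.y_add s t)) (ry _), fun t s ht => by
    have := C.conj (rn t).mem (hx s)
    rw [(sw t ht).1] at this
    exact mul_inv_eq_iff_eq_mul.1 (C.inj this.1 (hy _).1 ((((rn t).mul (rx s)).mul (rn t).inv).eq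
      (mul_inv_eq_iff_eq_mul.2 (D.rel.n_mul_x ht s))) (ry _))⟩
  refine ⟨x', y', ⟨S.sl2Rel, fun s t e => D.inj ((rx s).uniq (e ▸ rx t)), fun g => ⟨fun h => ?_, ?_⟩,
    fun g => ⟨fun h => ?_, ?_⟩, sw⟩, (rn _).mul (rn _)⟩
  · obtain ⟨v, -, e⟩ := ex_V (π := π) (hA h)
    obtain ⟨t, rfl⟩ := (D.rx v).1 ((eA g (hA h) v e).1 h)
    exact ⟨t, C.inj (hx t).1 (hA h).1 (rx t) e⟩
  · rintro ⟨t, rfl⟩
    exact (eA _ (hx t) _ (rx t)).2 ((D.rx _).2 ⟨t, rfl⟩)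
  · obtain ⟨v, -, e⟩ := ex_V (π := π) (hB h)
    obtain ⟨t, rfl⟩ := (D.ry v).1 ((eB g (hB h) v e).1 h)
    exact ⟨t, C.inj (hy t).1 (hB h).1 (ry t) e⟩
  · rintro ⟨t, rfl⟩
    exact (eB _ (hy t) _ (ry t)).2 ((D.ry _).2 ⟨t, rfl⟩)

theorem tl (h : TL (V π) ∅ c d) : TL U X (c : Ω) d := by
  obtain ⟨F, _, _, x, y, D⟩ := h
  obtain ⟨x', y', D', -⟩ := C.ld D le_rfl le_rfl le_rfl le_rfl
    (fun u hu v e => iff_of_true hu (mem_cu.2 ⟨u, hu, e⟩))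
    fun u hu v e => iff_of_true hu (mem_cu.2 ⟨u, hu, e⟩)
  exact ⟨F, _, ‹_›, x', y', D'⟩

theorem tu (h : TU (V π) ∅ c d) : TU U X (c : Ω) d := by
  obtain ⟨F, _, _, x, y, D, h1, h2, h3⟩ := h
  obtain ⟨x', y', D', r⟩ := C.ld D inf_le_left inf_le_left inf_le_left inf_le_left
    (fun u hu v e => C.zu_iff hu e) fun u hu v e => C.zu_iff hu e
  have f : sl2h x' y' (-1) • (c : Ω) = c := by
    have := D'.sw (-1) (by simp)
    rw [sl2h, mul_smul, this.1, this.2]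
  refine ⟨F, _, _, x', y', D', (C.card_cu' c).trans h1, ?_, fun u hu k => ?_⟩
  · ext u
    refine ⟨fun hu => ?_, fun hu => ⟨hu.1, ?_⟩⟩
    · obtain ⟨v, hv, e⟩ := ex_V (π := π) hu.1
      exact (C.zu_iff hu.1 e).2 (h2 ▸ ⟨hv, (C.cen1_iff r f hu.1 e).1 hu.2⟩)
    · obtain ⟨v, hv, e⟩ := ex_V (π := π) hu.1
      have : v ∈ CU (V π) ∅ c ⊓ centralizer {sl2h x y (-1)} := h2 ▸ (C.zu_iff hu.1 e).1 hu
      exact (C.cen1_iff r f hu.1 e).2 this.2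
  · obtain ⟨v, hv, e⟩ := ex_V (π := π) hu
    rw [← h3 v hv fun k' => k ((C.zu_iff hu e).2 k')]
    exact C.card_cu fun s hs t e' => C.cen1_iff e (C.rg.fix _ _ hu.1) hs e'

end Cv

end H10.HkL
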