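import Cfsg.Agent.H10.HkCv

/-! HKS tower: the job `JobLoc`. -/

set_option autoImplicit false
set_option linter.unusedSectionVars false

namespace H10.HkL

open MulAction Cfsg Subgroup H89.K H65 H7.HKS

universe u

variable {G Ω : Type u} [Group G] [Finite G] [MulAction G Ω] {U : Ω → Subgroup G} {X : Set G}
  {Y : Type u} [Group Y] [Finite Y] [MulAction Y (Fx Ω X)] {π : LX U X →* Y}
  {g g' u u' w t t' : G} {y y' v v' w' : Y} {c d : Fx Ω X}

theorem ord_two {A : Type*} [Group A] {a : A} : orderOf a = 2 ↔ a * a = 1 ∧ a ≠ 1 :=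
  ⟨fun h => ⟨by rw [← pow_two, ← h, pow_orderOf_eq_one], fun e => by simp [e] at h⟩,
    fun h => orderOf_eq_prime (by rw [pow_two, h.1]) h.2⟩

namespace Cv

variable (C : Cv π)
include C

theorem odd_ker' (E : Subgroup Y) (h4 : 4 < Nat.card E) (sq : ∀ e ∈ E, e * e = 1)
    (hi : Odd E.index) (one : ∀ e ∈ E, ∀ f ∈ E, e ≠ 1 → f ≠ 1 → IsConj e f) :
    Odd (Nat.card π.ker) :=
  odd_ker π C.res.surj (fun k hk l => Subtype.ext (C.central ⟨k.2, hk⟩ l l.2)) (gen_odd C.rg) E h4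
    sq hi one

variable (ho : Odd (Nat.card π.ker))
include ho

omit C in
theorem ker_pow (h : R π g 1) : g ^ Nat.card π.ker = 1 :=
  congrArg (fun s : π.ker => ((s : LX U X) : G)) (pow_card_eq_one' (x := (⟨⟨g, h.1⟩, h.2⟩ : π.ker)))

omit C in
theorem lift (hy : y * y = 1) (h : R π g y) : ∃ t, t * t = 1 ∧ R π t y :=
  ⟨g ^ Nat.card π.ker, by rw [← pow_two, ← pow_mul, mul_comm, pow_mul', ← pow_mul, mul_comm,
    pow_mul, pow_two, ker_pow ho ((h.mul h).eq hy)], (h.pow _).eq (pow_odd_of_sq hy ho)⟩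

theorem luniq (ht : t * t = 1) (ht' : t' * t' = 1) (h : R π t y) (h' : R π t' y) : t = t' := by
  have k := (h.inv.mul h').eq (inv_mul_cancel y)
  have k2 : t⁻¹ * t' * (t⁻¹ * t') = 1 := by
    calc t⁻¹ * t' * (t⁻¹ * t') = t⁻¹ * (t⁻¹ * t' * t') := by rw [C.central k t' h'.mem]; group
      _ = (t * t)⁻¹ * (t' * t') := by group
      _ = 1 := by rw [ht, ht', inv_one, one_mul]
  have := ker_pow ho k
  rw [pow_odd_of_sq k2 ho] at this
  exact inv_mul_eq_one.1 this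

/-- The involutions over an elementary abelian subgroup. -/
def lf (E : Subgroup Y) (sq : ∀ e ∈ E, e * e = 1) : Subgroup G where
  carrier := {t | t * t = 1 ∧ ∃ e ∈ E, R π t e}
  one_mem' := ⟨mul_one _, 1, one_mem _, R.one⟩
  mul_mem' := by
    rintro s t ⟨hs, e, he, r⟩ ⟨ht, f, hf, r'⟩
    refine ⟨?_, e * f, mul_mem he hf, r.mul r'⟩
    have := C.luniq ho (t := s * t * s⁻¹) (by rw [conj_mul, ht]; group) ht
      (((r.mul r').mul r.inv).eq (mul_inv_eq_iff_eq_mul.2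
        (comm_of_sq (sq e he) (sq f hf) (sq _ (mul_mem he hf))))) r'
    calc s * t * (s * t) = s * t * s⁻¹ * (s * s) * t := by group
      _ = 1 := by rw [this, hs, mul_one, ht]
  inv_mem' := by
    rintro t ⟨ht, e, he, r⟩
    exact ⟨by rw [← mul_inv_rev, ht, inv_one], e⁻¹, inv_mem he, r.inv⟩

theorem ex_lf {E : Subgroup Y} (sq : ∀ e ∈ E, e * e = 1) (h : y ∈ E) :
    ∃ t ∈ C.lf ho E sq, R π t y := by
  obtain ⟨g, hg⟩ := C.ex y
  obtain ⟨t, ht, r⟩ := lift ho (sq y h) hg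
  exact ⟨t, ⟨ht, y, h, r⟩, r⟩

theorem card_lf {E : Subgroup Y} (sq : ∀ e ∈ E, e * e = 1) :
    Nat.card (C.lf ho E sq) = Nat.card E :=
  card_eq (π := π) (fun _ h => h.2) (fun _ h => C.ex_lf ho sq h)
    fun _ h _ h' _ r r' => C.luniq ho h.1 h'.1 r r'

theorem ord_img (h : orderOf t = 2) (r : R π t y) : orderOf y = 2 := by
  rw [ord_two] at h ⊢
  exact ⟨(r.mul r).uniq (h.1 ▸ R.one), fun e => h.2 (C.luniq ho h.1 (mul_one _) (r.eq e) R.one)⟩

omit ho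

theorem ta (hn : normalizer X ≤ normalizer (LX U X : Set G)) (h : TA (V π) ∅ c) : TA U X (c : Ω) := by
  obtain ⟨h7, E, D⟩ := h
  have un : ∀ p : Fx Ω X, p ∈ Fx (Fx Ω X) (∅ : Set Y) := fun _ _ h => h.elim
  have nE : E.Normal := normalizer_eq_top_iff.1 (eq_top_iff.2 fun s _ => D.norm fun _ => Iff.rfl)
  have fx : ∀ v ∈ CU (V π) ∅ c, v • c = c := fun v hv => by
    obtain ⟨u, hu, e⟩ := mem_cu.1 hv
    exact (C.smul e).2 (C.rg.fix _ _ hu.1)
  have uq : ∀ e ∈ E, ∀ f ∈ E, e • c = f • c → e = f := fun e he f hf k =>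
    (D.reg c (un _) (f • c) (un _)).unique ⟨he, k⟩ ⟨hf, rfl⟩
  have top : E ⊔ CU (V π) ∅ c = ⊤ := D.sup.trans (lx_top C.res.surj)
  have oV : Odd (Nat.card (CU (V π) ∅ c)) := by
    rw [← C.card_cu']
    exact (C.rg.odd c).of_dvd_nat (card_dvd_of_le inf_le_left)
  have hi : Odd E.index := by
    rw [← relIndex_top_right, ← top, relIndex_sup_left]
    exact oV.of_dvd_nat (index_dvd_card _)
  have one : ∀ e ∈ E, ∀ f ∈ E, e ≠ 1 → f ≠ 1 → IsConj e f := fun e he f hf k k' => by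
    have ne : ∀ e ∈ E, e ≠ 1 → ((e • c : Fx Ω X) : Ω) ≠ c := fun e he k q =>
      k (uq e he 1 (one_mem _) (by rw [one_smul]; exact Subtype.ext q))
    obtain ⟨s, hs, q⟩ := C.rg.tr (ne e he k) (ne f hf k')
    have hs' : s ∈ CU U X c := ⟨hs, fun x hx => by
      have p : ∀ p : Fx Ω X, x • (p : Ω) = p := fun p => p.2 x hx
      have h1 := C.rg.conj x c s hs
      rw [p] at h1
      have h2 := C.rg.reg (ne e he k) _ (mul_mem (inv_mem hs) h1) (by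
        rw [mul_smul, mul_smul, mul_smul, inv_smul_eq_iff.2 (p _).symm, q, p, ← q, inv_smul_smul])
      exact mul_inv_eq_iff_eq_mul.1 (inv_mul_eq_one.1 h2).symm⟩
    obtain ⟨v, hv, r⟩ := ex_V (π := π) hs'
    refine isConj_iff.2 ⟨v, uq _ (nE.conj_mem e he v) f hf ?_⟩
    rw [mul_smul, mul_smul, inv_smul_eq_iff.2 (fx v hv).symm, (C.smul r).2 q]
  have h4 : 4 < Nat.card E := by
    obtain ⟨p, hp, k⟩ := C.two c
    obtain ⟨e, ⟨he, q⟩, -⟩ := D.reg c (un _) ⟨p, hp⟩ (un _)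
    have := Nat.card_le_card_of_injective (fun v : CU (V π) ∅ c => (⟨_, nE.conj_mem e he v⟩ : E))
      fun s t h => by
        obtain ⟨s', hs, r⟩ := mem_cu.1 s.2
        obtain ⟨t', ht, r'⟩ := mem_cu.1 t.2
        have h1 : ((s : Y) * e * (s : Y)⁻¹) • c = ((t : Y) * e * (t : Y)⁻¹) • c :=
          congrArg (fun z : E => (z : Y) • c) h
        rw [mul_smul, mul_smul, mul_smul, mul_smul, inv_smul_eq_iff.2 (fx _ s.2).symm,
          inv_smul_eq_iff.2 (fx _ t.2).symm, q] at h1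
        have h2 := C.rg.reg k _ (mul_mem (inv_mem ht.1) hs.1) ((C.smul (c := ⟨p, hp⟩)
          (d := ⟨p, hp⟩) (r'.inv.mul r)).1 (by rw [mul_smul, h1, inv_smul_smul]))
        exact Subtype.ext (r.uniq (inv_mul_eq_one.1 h2 ▸ r'))
    omega
  have ho := C.odd_ker' E h4 D.sq hi one
  have le : C.lf ho E D.sq ≤ LX U X := fun _ ⟨_, _, _, r⟩ => r.mem
  have ex : ∀ p q : Fx Ω X, ∃ t ∈ C.lf ho E D.sq, t • (p : Ω) = q := fun p q => by
    obtain ⟨e, ⟨he, k⟩, -⟩ := D.reg p (un _) q (un _)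
    obtain ⟨t, ht, r⟩ := C.ex_lf ho D.sq he
    exact ⟨t, ht, (C.smul r).1 k⟩
  refine ⟨(C.card_cu' c).symm ▸ h7, C.lf ho E D.sq, fun e he => he.1,
    le_antisymm (sup_le le (cu_le c)) (iSup₂_le fun p hp s hs => ?_), fun p hp q hq => ?_,
    fun g hg => mem_normalizer_fintype fun t ht => ?_, ?_⟩
  · obtain ⟨t, ht, k⟩ := ex ⟨p, hp⟩ c
    have := C.conj (le ht) hs
    rw [k] at this
    have := mul_mem (mul_mem (inv_mem (mem_sup_left ht)) (mem_sup_right this)) (mem_sup_left ht)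
    rwa [show t⁻¹ * (t * s * t⁻¹) * t = s by group] at this
  · obtain ⟨t, ht, k⟩ := ex ⟨p, hp⟩ ⟨q, hq⟩
    refine ⟨t, ⟨ht, k⟩, fun s hs => ?_⟩
    obtain ⟨h1, e, he, r⟩ := hs.1
    obtain ⟨h2, f, hf, r'⟩ := ht
    exact C.luniq ho h1 h2 (r.eq ((D.reg ⟨p, hp⟩ (un _) ⟨q, hq⟩ (un _)).unique
      ⟨he, (C.smul r).2 hs.2⟩ ⟨hf, (C.smul r').2 k⟩)) r'
  · obtain ⟨y, r⟩ := R.of_mem (π := π) ((mem_normalizer_iff.1 (hn hg) t).1 (le ht))
    have h1 : g * t * g⁻¹ * (g * t * g⁻¹) = 1 := by rw [conj_mul, ht.1]; group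
    refine ⟨h1, y, ?_, r⟩
    rw [← pow_odd_of_sq ((r.mul r).uniq (h1 ▸ R.one)) hi]
    exact E.pow_index_mem y
  · obtain ⟨v, hv⟩ := D.cyc.exists_generator
    obtain ⟨s, hs, r⟩ := mem_cu.1 v.2
    refine ⟨⟨⟨s, hs⟩, fun t => ?_⟩⟩
    obtain ⟨z, hz, r'⟩ := ex_V (π := π) t.2
    obtain ⟨n, e⟩ := mem_zpowers_iff.1 (hv ⟨z, hz⟩)
    exact ⟨n, Subtype.ext (C.inj ((U c).zpow_mem hs.1 n) t.2.1 ((r.zpow n).eq (congrArg Subtype.val e)) r')⟩

theorem tr (h : TR (V π) ∅ c d) : TR U X (c : Ω) d := by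
  obtain ⟨q, w', D⟩ := h
  have top := lx_top (π := π) C.res.surj
  have m : ∀ y, y ∈ LX (V π) ∅ := fun y => top ▸ mem_top y
  obtain ⟨E, -, h8, sq, hi⟩ := D.syl
  rw [top, relIndex_top_right] at hi
  have ho := C.odd_ker' E (by omega) sq hi fun e he f hf k k' =>
    (isConj_iff.2 ((D.one e (m _) (ord_two.2 ⟨sq e he, k⟩)).imp fun _ h => h.2)).symm.trans
      (isConj_iff.2 ((D.one f (m _) (ord_two.2 ⟨sq f hf, k'⟩)).imp fun _ h => h.2))
  obtain ⟨g, hg⟩ := C.ex w'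
  obtain ⟨w, ww, r⟩ := lift ho (ord_two.1 D.ord).1 hg
  have f : w • (c : Ω) = c := (C.smul r).1 D.st.1
  have im : ∀ u ∈ CU U X c ⊓ centralizer {w}, ∃ v ∈ CU (V π) ∅ c ⊓ centralizer {w'}, R π u v :=
    fun u hu => by
      obtain ⟨v, hv, e⟩ := ex_V (π := π) hu.1
      exact ⟨v, ⟨hv, (C.cen1_iff r f hu.1 e).1 hu.2⟩, e⟩
  refine ⟨q, w, r.mem, ⟨f, (C.smul r).1 D.st.2⟩, ord_two.2 ⟨ww, fun e =>
    (ord_two.1 D.ord).2 (r.uniq (e ▸ R.one))⟩, D.pow, fun v hv hs h2 => ?_,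
    (C.card_cu' c).trans D.card, (C.card_cu fun s hs t e => C.cen1_iff r f hs e).trans D.cardw,
    fun s hs t ht => ?_, fun s hs => ?_, eq_bot_iff.2 fun s hs => ?_, D.der.trans ?_,
    ⟨C.lf ho E sq, fun _ ⟨_, _, _, r⟩ => r.mem, (C.card_lf ho sq).trans h8, fun e he => he.1, ?_⟩,
    fun v hv h2 => ?_⟩
  · obtain ⟨y, e⟩ := R.of_mem (π := π) hv
    exact C.luniq ho (ord_two.1 h2).1 ww (e.eq (D.uniq y (m _)
      ⟨(C.smul e).2 hs.1, (C.smul e).2 hs.2⟩ (C.ord_img ho h2 e))) r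
  · obtain ⟨s', hs', e⟩ := im s hs
    obtain ⟨t', ht', e'⟩ := im t ht
    exact (C.comm_iff e' (C.rg.fix _ _ ht.1.1) hs.1 e).2 (D.comm s' hs' t' ht')
  · obtain ⟨s', hs', e⟩ := im s hs
    exact C.inj (pow_mem hs.1.1 3) (one_mem _) ((e.pow 3).eq (D.exp s' hs')) R.one
  · obtain ⟨s', hs', e⟩ := im s ⟨hs.1.1, hs.2⟩
    have : s' ∈ ZU (V π) ∅ c ⊓ centralizer {w'} := ⟨(C.zu_iff hs.1.1 e).1 hs.1, hs'.2⟩
    rw [D.disj, mem_bot] at this
    exact C.inj hs.1.1.1 (one_mem _) (e.eq this) R.one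
  · have e := card_map_of_injective (K := ⁅(CU U X c).subgroupOf (LX U X),
      (CU U X c).subgroupOf (LX U X)⁆) (LX U X).subtype_injective
    rw [map_commutator, map_subgroupOf_eq_of_le (cu_le c)] at e
    rw [cu_empty, V, Quo, ← map_commutator, e]
    exact Nat.le_of_dvd Nat.card_pos (card_map_dvd _ _)
  · have le : C.lf ho E sq ≤ LX U X := fun _ ⟨_, _, _, r⟩ => r.mem
    have h1 := (C.lf ho E sq).subgroupOf (LX U X) |>.index_mul_card
    rw [Nat.card_congr (subgroupOfEquivOfLe le).toEquiv, C.card_lf ho sq, ← C.res.card_mul,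
      ← E.index_mul_card, h8, mul_right_comm] at h1
    rw [relIndex, Nat.eq_of_mul_eq_mul_right (by norm_num) h1]
    exact hi.mul ho
  · obtain ⟨y, e⟩ := R.of_mem (π := π) hv
    obtain ⟨z, -, k⟩ := D.one y (m _) (C.ord_img ho h2 e)
    obtain ⟨l, hl⟩ := C.ex z
    exact ⟨l, hl.mem, C.luniq ho (by rw [conj_mul, ww]; group) (ord_two.1 h2).1
      (((hl.mul r).mul hl.inv).eq k) e⟩

end Cv

theorem jobLoc (k1 : Kit1.{u}) : JobLoc.{u} := by
  intro G Ω _ _ _ U h IH X a b hab hX ⟨g, hg, g1⟩ hC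
  obtain ⟨-, f2, -, f4, f5, f6, -, f8⟩ := k1.fx h hab hX
  have ha : a ∈ Fx Ω X := fun x hx => (hX hx).1
  have hb : b ∈ Fx Ω X := fun x hx => (hX hx).2
  obtain ⟨Y, _, _, _, π, res⟩ := exists_res (LX U X) (Fx Ω X) fun l hl p hp x hx => by
    rw [← mul_smul, f4 hl x hx, mul_smul, hp x hx]
  have C : Cv π := ⟨h, res, f4, f6, fun p => by
    by_cases k : a = p
    exacts [⟨b, hb, k ▸ hab.symm⟩, ⟨a, ha, k⟩]⟩
  have h3 : 2 < Nat.card (Fx Ω X) := by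
    have := (one_lt_card_iff_ne_bot _).2 hC
    rw [Nat.card_coe_set_eq, f2]
    omega
  have rg := C.rgV (res.t2 (f8 hC) h3) fun c d e k k' =>
    (((k1.fx h (fun q => k (Subtype.ext q.symm)) fun x hx => ⟨c.2 x hx, d.2 x hx⟩).1 e).1
      e.2).resolve_left fun q => k' (Subtype.ext q)
  have lt : Nat.card Y < Nat.card G := by
    refine (Nat.card_le_card_of_surjective π res.surj).trans_lt ?_
    refine (card_le_card_group _).lt_of_ne fun e => g1 (h.t2.faith g fun p => ?_)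
    obtain ⟨l, rfl⟩ := h.t2.trans a p
    rw [← mul_smul, f4 (eq_top_of_card_eq _ e ▸ mem_top l) g hg, mul_smul, ha g hg]
  rcases IH Y (Fx Ω X) (V π) lt rg ⟨a, ha⟩ ⟨b, hb⟩ fun e => hab (congrArg Subtype.val e) with
    k | k | k | k
  · exact Or.inl (C.ta (c := ⟨a, ha⟩) f5 k)
  · exact Or.inr (Or.inl (C.tl (c := ⟨a, ha⟩) (d := ⟨b, hb⟩) k))
  · exact Or.inr (Or.inr (Or.inl (C.tu (c := ⟨a, ha⟩) (d := ⟨b, hb⟩) k)))
  · exact Or.inr (Or.inr (Or.inr (C.tr (c := ⟨a, ha⟩) (d := ⟨b, hb⟩) k)))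

end H10.HkL
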