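import Cfsg.Agent.H7.HKSSpec

/-! HKS tower: central extensions of groups with a large elementary abelian Sylow `2`-subgroup. -/

set_option autoImplicit false

namespace H10.HkL

open Subgroup

variable {L Y : Type*} [Group L] [Finite L] [Group Y]

theorem exists_three {E : Subgroup Y} (h : 4 < Nat.card E) :
    ∃ e ∈ E, ∃ f ∈ E, ∃ g ∈ E, e ≠ 1 ∧ f ≠ 1 ∧ f ≠ e ∧ g ≠ 1 ∧ g ≠ e ∧ g ≠ f ∧ g ≠ e * f := by
  classical
  have k : ∀ s : Finset Y, s.card ≤ 4 → ∃ e ∈ E, e ∉ s := fun s hs => by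
    by_contra hn
    push Not at hn
    have := Set.ncard_le_ncard (s := (E : Set Y)) (t := (s : Set Y)) hn s.finite_toSet
    rw [Set.ncard_coe_finset, ← Nat.card_coe_set_eq] at this
    have e : Nat.card (E : Set Y) = Nat.card E := rfl
    omega
  obtain ⟨e, he, h1⟩ := k {1} (by simp)
  obtain ⟨f, hf, h2⟩ := k {1, e} (Finset.card_le_two.trans (by norm_num))
  obtain ⟨g, hg, h3⟩ := k {1, e, f, e * f} Finset.card_le_four
  simp only [Finset.mem_insert, Finset.mem_singleton, not_or] at h1 h2 h3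
  exact ⟨e, he, f, hf, g, hg, h1, h2.1, h2.2, h3.1, h3.2.1, h3.2.2.1, h3.2.2.2⟩

theorem pow_odd_of_sq {A : Type*} [Group A] {a : A} (h : a * a = 1) {n : ℕ} (hn : Odd n) :
    a ^ n = a := by
  obtain ⟨m, rfl⟩ := hn
  rw [pow_succ, pow_mul, pow_two, h, one_pow, one_mul]

theorem comm_of_sq {A : Type*} [Group A] {a b : A} (ha : a * a = 1) (hb : b * b = 1)
    (h : a * b * (a * b) = 1) : a * b = b * a := by
  rw [← inv_eq_of_mul_eq_one_right h, mul_inv_rev, inv_eq_of_mul_eq_one_right ha,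
    inv_eq_of_mul_eq_one_right hb]

/-- The kernel of the extension has odd order. -/
theorem odd_ker (π : L →* Y) (hs : Function.Surjective π)
    (hK : ∀ k, π k = 1 → ∀ l, k * l = l * k)
    (gen : ∀ H : Subgroup L, (∀ g, Odd (orderOf g) → g ∈ H) → H = ⊤) (E : Subgroup Y)
    (h4 : 4 < Nat.card E) (sq : ∀ e ∈ E, e * e = 1) (hi : Odd E.index)
    (one : ∀ e ∈ E, ∀ f ∈ E, e ≠ 1 → f ≠ 1 → IsConj e f) : Odd (Nat.card π.ker) := by
  let K2 : Subgroup L :=
    { carrier := {g | ∃ k, π k = 1 ∧ g = k * k}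
      one_mem' := ⟨1, map_one _, (mul_one _).symm⟩
      mul_mem' := by
        rintro _ _ ⟨k, hk, rfl⟩ ⟨k', hk', rfl⟩
        refine ⟨k * k', by rw [map_mul, hk, hk', mul_one], ?_⟩
        calc k * k * (k' * k') = k * (k * k') * k' := by group
          _ = k * (k' * k) * k' := by rw [hK k hk k']
          _ = _ := by group
      inv_mem' := by
        rintro _ ⟨k, hk, rfl⟩
        exact ⟨k⁻¹, by rw [map_inv, hk, inv_one], by group⟩ }
  have hn : K2.Normal := ⟨by
    rintro _ ⟨k, hk, rfl⟩ g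
    refine ⟨k, hk, ?_⟩
    rw [← hK (k * k) (by rw [map_mul, hk, mul_one]) g, mul_inv_cancel_right]⟩
  let ρ := QuotientGroup.mk' K2
  have r1 : ∀ k, π k = 1 → ρ k * ρ k = 1 := fun k hk => by
    rw [← map_mul]; exact (QuotientGroup.eq_one_iff _).2 ⟨k, hk, rfl⟩
  have r2 : ∀ s s', π s = π s' → ρ s * ρ s = ρ s' * ρ s' := fun s s' h => by
    have hk : π (s⁻¹ * s') = 1 := by rw [map_mul, map_inv, h, inv_mul_cancel]
    have : s' * s' = s * s * (s⁻¹ * s' * (s⁻¹ * s')) := by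
      calc s' * s' = s * ((s⁻¹ * s') * s) * (s⁻¹ * s') := by group
        _ = _ := by rw [hK _ hk s]; group
    rw [← map_mul, ← map_mul, this, map_mul ρ (s * s), map_mul ρ (s⁻¹ * s'), r1 _ hk, mul_one]
  have r3 : ∀ s s', π s ∈ E → π s' ∈ E → π s ≠ 1 → π s' ≠ 1 → ρ s * ρ s = ρ s' * ρ s' :=
    fun s s' h h' k k' => by
      obtain ⟨y, hy⟩ := isConj_iff.1 (one _ h _ h' k k')
      obtain ⟨l, rfl⟩ := hs y
      rw [← r2 (l * s * l⁻¹) s' (by rw [← hy, map_mul, map_mul, map_inv]), ← map_mul, ← map_mul,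
        conj_mul, ← hK (s * s) (by rw [map_mul, sq _ h]) l, mul_inv_cancel_right]
  obtain ⟨e, he, f, hf, g, hg, e1, f1, fe, g1, ge, gf, gef⟩ := exists_three h4
  obtain ⟨s, rfl⟩ := hs e
  obtain ⟨t, rfl⟩ := hs f
  obtain ⟨v, rfl⟩ := hs g
  obtain ⟨z, hz⟩ : ∃ z, z = ρ s * ρ s := ⟨_, rfl⟩
  have zc : ∀ l, z * ρ l = ρ l * z := fun l => by
    rw [hz, ← map_mul, ← map_mul, ← map_mul, hK (s * s) (by rw [map_mul, sq _ he]) l]
  have zz : z * z = 1 := by rw [hz, ← map_mul]; exact r1 _ (by rw [map_mul, sq _ he])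
  have ne : ∀ {p q : Y}, p ∈ E → q ≠ p → p * q ≠ 1 := fun hp h k =>
    h (by rw [← inv_eq_of_mul_eq_one_right k, inv_eq_of_mul_eq_one_right (sq _ hp)])
  have cm : ∀ t, π t ∈ E → π t ≠ 1 → π t ≠ π s → ρ t * ρ s = ρ s * ρ t * z := fun t h k k' => by
    have h1 := r3 t s h he k e1
    have h2 := r3 (s * t) s (by rw [map_mul]; exact mul_mem he h) he (by rw [map_mul]; exact ne he k') e1
    rw [map_mul, ← hz] at h2
    rw [← hz] at h1
    calc ρ t * ρ s = (ρ s)⁻¹ * (ρ s * ρ t * (ρ s * ρ t)) * (ρ t)⁻¹ := by group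
      _ = (ρ s)⁻¹ * (ρ s * ρ s) * (ρ t)⁻¹ * (z * z) := by rw [h2, zz, mul_one, ← hz]
      _ = ρ s * (ρ t)⁻¹ * (ρ t * ρ t) * z := by rw [h1]; group
      _ = _ := by group
  have z1 : z = 1 := by
    have h1 := cm (t * v) (by rw [map_mul]; exact mul_mem hf hg) (by rw [map_mul]; exact ne hf gf)
      (fun k => gef (by
        rw [← k, map_mul, mul_assoc, ← comm_of_sq (sq _ hf) (sq _ hg) (sq _ (mul_mem hf hg)),
          ← mul_assoc, sq _ hf, one_mul]))
    have h2 : ρ (t * v) * ρ s = ρ s * ρ (t * v) := by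
      calc ρ (t * v) * ρ s = ρ t * (ρ v * ρ s) := by rw [map_mul, mul_assoc]
        _ = ρ t * ρ s * ρ v * z := by rw [cm v hg g1 ge]; group
        _ = ρ s * ρ t * (z * ρ v) * z := by rw [cm t hf f1 fe]; group
        _ = ρ s * ρ t * ρ v * (z * z) := by rw [zc v]; group
        _ = _ := by rw [zz, map_mul]; group
    rw [h2] at h1
    exact mul_eq_left.1 h1.symm
  let H := E.comap π
  let φ := ρ.comp H.subtype
  have a2 : ∀ a : φ.range, a * a = 1 := by
    rintro ⟨_, l, rfl⟩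
    refine Subtype.ext ?_
    by_cases h : π l = 1
    · exact r1 _ h
    · exact (r3 l s l.2 he h e1).trans (hz.symm.trans z1)
  let _ : CommGroup φ.range :=
    { (inferInstance : Group φ.range) with mul_comm := fun a b => comm_of_sq (a2 a) (a2 b) (a2 _) }
  have hT : (MonoidHom.transfer φ.rangeRestrict).ker = ⊤ := gen _ fun g hg => by
    rw [MonoidHom.mem_ker, ← pow_odd_of_sq (a2 (MonoidHom.transfer φ.rangeRestrict g)) hg,
      ← map_pow, pow_orderOf_eq_one, map_one]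
  have hH : Odd H.index := by rwa [index_comap_of_surjective _ hs]
  have k2 : ∀ k, π k = 1 → k ∈ K2 := fun k hk => by
    have h1 : MonoidHom.transfer φ.rangeRestrict k = 1 := by
      rw [← MonoidHom.mem_ker, hT]; exact mem_top k
    rw [MonoidHom.transfer_eq_pow _ k fun n g _ => by
      rw [mul_assoc, hK (k ^ n) (by rw [map_pow, hk, one_pow]) g, inv_mul_cancel_left]] at h1
    have h2 : ρ (k ^ H.index) = 1 := congrArg Subtype.val h1
    rw [map_pow, pow_odd_of_sq (r1 k hk) hH] at h2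
    exact (QuotientGroup.eq_one_iff _).1 h2
  have sj : Function.Surjective fun k : π.ker => k * k := fun k => by
    obtain ⟨k', h1, h2⟩ := k2 k k.2
    exact ⟨⟨k', h1⟩, Subtype.ext h2.symm⟩
  have ij := Finite.injective_iff_surjective.2 sj
  by_contra ho
  obtain ⟨k, hk⟩ := exists_prime_orderOf_dvd_card' 2 (Nat.not_odd_iff_even.1 ho).two_dvd
  have : k = 1 := ij (by simp only [← pow_two, ← hk, pow_orderOf_eq_one, one_pow])
  rw [this, orderOf_one] at hk
  omega

end H10.HkL
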