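import Cfsg.Agent.H10.HmFr4

/-! Tower HM: the job `JobS4` (normalized coordinates of symplectic type). -/

set_option autoImplicit false
set_option linter.unusedSectionVars false

namespace H10.HM
open Cfsg Cfsg.FusionSystem H92 H93 Subgroup H87.HM H1.F2
open H87.S4 (Co)
open scoped commutatorElement

universe u

variable {Ω : Type u} [Group Ω] {S B : Subgroup Ω} {F : FusionSystem S} {t : Ω}
  {K : Type} [Field K] {l : K} {m m' : K → K → K → K → Ω}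

theorem scale4 (h : Co B m) (hl : l ≠ 0) : Co B fun c y w a => m (l * c) (l * y) (l * w) a where
  mem _ _ _ _ := h.mem ..
  surj g hg := by
    obtain ⟨c, y, w, a, rfl⟩ := h.surj g hg
    exact ⟨l⁻¹ * c, l⁻¹ * y, l⁻¹ * w, a, by simp only [mul_inv_cancel_left₀ hl]⟩
  mul c y w a c' y' w' a' := by
    rw [h.mul]; congr 1 <;> ring
  inj r := by
    obtain ⟨h1, h2, h3, h4⟩ := h.inj r
    exact ⟨mul_left_cancel₀ hl h1, mul_left_cancel₀ hl h2, mul_left_cancel₀ hl h3, h4⟩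

theorem eq_of_co (h : Co B m) {P Q : Subgroup Ω} (h1 : P ≤ B) (h2 : Q ≤ B)
    (h3 : ∀ c y w a, m c y w a ∈ P ↔ m c y w a ∈ Q) : P = Q := Subgroup.ext fun g => ⟨fun hg => by
  obtain ⟨c, y, w, a, rfl⟩ := h.surj g (h1 hg)
  exact (h3 ..).1 hg, fun hg => by
  obtain ⟨c, y, w, a, rfl⟩ := h.surj g (h2 hg)
  exact (h3 ..).2 hg⟩

variable [Finite Ω] [Finite K] [CharP K 2]

theorem pre_scale (p : Pre4 F B m t) (hl : l ≠ 0) :
    Pre4 F B (fun c y w a => m (l * c) (l * y) (l * w) a) t := by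
  have h := scale4 p.co hl
  have e1 := eq_of_co h (h.Q_le 0) (p.co.Q_le 0) fun c y w a => by simp [h.mem_Q, p.co.mem_Q, hl]
  have e2 := eq_of_co h h.V_le p.co.V_le fun c y w a => by simp [h.mem_V, p.co.mem_V]
  have e3 := eq_of_co h h.Y_le p.co.Y_le fun c y w a => by simp [h.mem_Y, p.co.mem_Y, hl]
  have e4 := eq_of_co h h.Z_le p.co.Z_le fun c y w a => by simp [h.mem_Z, p.co.mem_Z, hl]
  refine ⟨p.sat, h, e1 ▸ e2 ▸ p.tw, e1 ▸ e4 ▸ p.nz, e1 ▸ e3 ▸ p.mv, fun w => ?_⟩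
  obtain ⟨y, e⟩ := p.tz (l * w)
  exact ⟨l⁻¹ * y, by simpa [mul_inv_cancel_left₀ hl] using e⟩

theorem t4_of (h : Co B m) (tw : Tw S B (h.Q 0) h.V t) (t2 : t * t ∈ h.Y) {f : K → K} (f1 : f 1 = 1)
    (fs : Function.Surjective f) (hf : ∀ a, t * m 0 0 0 a * t⁻¹ = m (f a) 0 0 0)
    (tz : ∀ w, ∃ y, t * m 0 0 w 0 * t⁻¹ = m 0 y 0 0) : ∃ t' σ, T4 S B m t' σ := by
  choose g hg using tz
  have tt : ∀ {x y}, x ∈ B → t * x * t⁻¹ = y → t * y * t⁻¹ = x := fun {x y} hx e => by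
    rw [← e, show t * (t * x * t⁻¹) * t⁻¹ = t * t * x * (t * t)⁻¹ by group,
      conj_eq_of_Ct (tw.Z_Ct (by rwa [inf_comm, h.V_inf_Q])) hx]
  have k1 := fun a => tt (h.mem ..) (hf a)
  have k2 := fun a => tt (h.mem ..) (hg a)
  have gs : Function.Surjective g := Finite.injective_iff_surjective.1 fun x y e =>
    (h.inj ((k2 x).symm.trans (e ▸ k2 y))).2.2.1
  have k3 : ∀ a b, g (a ^ 2 * f b) = b * f a := fun a b => by
    obtain ⟨w, e⟩ := gs (a * f b)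
    have := conjugate_commutatorElement (m 0 0 0 a) (m (f b) 0 0 0) t
    rw [hf, k1, cm4 h, ← commutatorElement_inv, cm4 h, ← conj_mul, hg, ← e, k2, h.mul, h.mul, h.inv] at this
    simpa [CharTwo.neg_eq] using (h.inj this).2.1
  have k4 : ∀ b, g (f b) = b := fun b => by simpa [f1] using k3 1 b
  have k5 : ∀ a, g (a ^ 2) = f a := fun a => by simpa [f1] using k3 a 1
  have k6 : ∀ a, f (g a) = a := fun a => by
    obtain ⟨a, rfl⟩ := fs a
    rw [k4]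
  let σ : RingAut K := ⟨⟨g, f, k6, k4⟩, fun a b => by
    obtain ⟨a, rfl⟩ := surjective_frobenius K 2 a
    obtain ⟨b, rfl⟩ := fs b
    exact (k3 a b).trans (by rw [← k5, mul_comm]; exact congrArg _ (k4 b).symm), fun x y => by
    have := hg (x + y)
    rw [show m 0 0 (x + y) 0 = m 0 0 x 0 * m 0 0 y 0 by simp [h.mul], ← conj_mul, hg, hg, h.mul] at this
    simpa using (h.inj this).2.1.symm⟩
  have k7 : ∀ a, σ a ^ 2 = f a := fun a => (map_pow σ a 2).symm.trans (k5 a)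
  have act : ∀ c y w a, t * m c y w a * t⁻¹ =
      m (σ a ^ 2) (σ w + σ c * σ a ^ 2) (σ y ^ 2 + σ c ^ 2 * σ a ^ 2) (σ c) := fun c y w a => by
    rw [show m c y w a = m (f (g c)) 0 0 0 * m 0 (g (f y)) 0 0 * m 0 0 w 0 * m 0 0 0 a by simp [h.mul, k4, k6],
      ← conj_mul, ← conj_mul, ← conj_mul, k1, k2, hg, hf, k7 a, k7 y]
    simp [h.mul, CharTwo.two_eq_zero, σ]
  obtain ⟨y, w, e⟩ := h.exY t2
  have e1 : w = σ y ^ 2 := by
    simpa using (h.inj ((show t * m 0 y w 0 * t⁻¹ = m 0 y w 0 by rw [← e]; group).symm.trans (act ..))).2.2.1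
  have s1 : m 0 y 0 0 * t ∈ S := mul_mem (tw.BS (h.mem ..)) tw.tS
  have tw' := tw.change s1 fun r => tw.t_not ((mul_mem_cancel_left (h.mem ..)).1 r)
  refine ⟨_, σ, h, tw.two, tw.BS, s1, tw'.idx, ?_, fun x => (k7 _).trans (k6 x), fun c y' w' a => ?_⟩
  · rw [show m 0 y 0 0 * t * (m 0 y 0 0 * t) = m 0 y 0 0 * (t * m 0 y 0 0 * t⁻¹) * (t * t) by group, act, e,
      h.mul, h.mul, h.eq_one, e1]
    simp [CharTwo.add_self_eq_zero]
  · rw [show m 0 y 0 0 * t * m c y' w' a * (m 0 y 0 0 * t)⁻¹ =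
      m 0 y 0 0 * (t * m c y' w' a * t⁻¹) * (m 0 y 0 0)⁻¹ by group, act, h.conj]
    simp [CharTwo.two_eq_zero]

theorem std4 (p : Pre4 F B m t) (t2 : t * t ∈ p.co.Y) (h1 : ∃ y w, t * m 0 0 0 1 * t⁻¹ = m 1 y w 0) :
    ∃ (m' : K → K → K → K → Ω) (t' : Ω) (σ : RingAut K), Std4 F B m' t' σ := by
  have h := p.co
  have tw := p.tw
  obtain ⟨⟨n, hn, φ', ψ', sw⟩, -⟩ := (sd2 p.co).weyl (Aut_le_Nm F _) (tw.pp p.sat) p.mv
    H10.S4.jobSP H29.S4.jobW p.nz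
  choose f f' f'' hf using fun a => p.co.exV (tw.conj_mem ((p.co.mem_Q (y := φ' a) (w := ψ' a) (a := a)).2
    (zero_mul _).symm))
  have ad : ∀ x y, f (x + y) = f x + f y ∧ f' (x + y) = f' x + f' y ∧ f'' (x + y) = f'' x + f'' y := fun x y => by
    have := hf (x + y)
    rw [show m 0 (φ' (x + y)) (ψ' (x + y)) (x + y) = m 0 (φ' x) (ψ' x) x * m 0 (φ' y) (ψ' y) y by
      simp [h.mul, CharTwo.two_eq_zero], ← conj_mul, hf, hf, h.mul] at this
    simpa [eq_comm] using h.inj this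
  let f₀ : K →+ K := AddMonoidHom.mk' f fun x y => (ad x y).1
  have inj : Function.Injective f₀ := (injective_iff_map_eq_zero f₀).2 fun a r => by_contra fun k =>
    tw.conj_not_mem (mt p.co.mem_V.1 k) (hf a ▸ p.co.mem_Q.2 (r.trans (zero_mul _).symm))
  let E := AddEquiv.ofBijective f₀ (Finite.injective_iff_bijective.1 inj)
  let φ : K →+ K := (AddMonoidHom.mk' f' fun x y => (ad x y).2.1).comp E.symm.toAddMonoidHom
  let ψ : K →+ K := (AddMonoidHom.mk' f'' fun x y => (ad x y).2.2).comp E.symm.toAddMonoidHom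
  have h' := shift h φ ψ φ' ψ'
  have e1 := eq_of_co h' (h'.Q_le 0) (p.co.Q_le 0) fun c y w a => h'.mem_Q.trans p.co.mem_Q.symm
  have e2 := eq_of_co h' h'.V_le p.co.V_le fun c y w a => h'.mem_V.trans p.co.mem_V.symm
  have e3 := eq_of_co h' h'.Y_le p.co.Y_le fun c y w a => h'.mem_Y.trans p.co.mem_Y.symm
  have f1 : f 1 = 1 := by
    obtain ⟨y, w, e⟩ := h1
    obtain ⟨y', w', e'⟩ := p.co.exY (by
      have := conj_mem_cj t ((inf_comm _ _).trans (p.co.V_inf_Q 0) ▸ (p.co.mem_Y (y := φ' 1) (w := ψ' 1)).2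
        ⟨rfl, rfl⟩ : m 0 (φ' 1) (ψ' 1) 0 ∈ p.co.Q 0 ⊓ p.co.V)
      rwa [tw.cjZ, inf_comm, p.co.V_inf_Q] at this)
    have := hf 1
    rw [show m 0 (φ' 1) (ψ' 1) 1 = m 0 (φ' 1) (ψ' 1) 0 * m 0 0 0 1 by simp [h.mul], ← conj_mul, e, e',
      h.mul] at this
    simpa using (h.inj this).1.symm
  obtain ⟨t', σ, r⟩ := t4_of h' (e1 ▸ e2 ▸ tw) (e3 ▸ t2) f1 E.surjective (fun a => by
    have k1 : φ (f a) = f' a := congrArg f' (E.symm_apply_apply a)
    have k2 : ψ (f a) = f'' a := congrArg f'' (E.symm_apply_apply a)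
    simp only [map_zero, zero_add, add_zero, k1, k2, hf]) (by simpa using p.tz)
  exact ⟨_, t', σ, p.sat, r, n, e1 ▸ M.of_Aut hn tw.AS, fun y w a => by simpa [H1.F2.e2] using sw a y w⟩

theorem jobS4 : JobS4.{u} := by
  intro K _ _ _ Ω _ _ S B F m t p
  obtain ⟨a, ha, e⟩ := p.tw.exists_sq
  have s1 : a * t ∈ S := mul_mem (p.tw.AS ha) p.tw.tS
  have s2 : a * t ∉ B := fun r => p.tw.t_not ((mul_mem_cancel_left (p.tw.AB ha)).1 r)
  have e0 := (inf_comm _ _).trans (p.co.V_inf_Q 0)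
  have p' : Pre4 F B m (a * t) := ⟨p.sat, p.co, p.tw.change s1 s2, p.nz, p.mv, fun w => by
    rw [p.tw.conj_out s1 s2 (e0 ▸ p.co.mem_Y.2 ⟨rfl, rfl⟩)]
    exact p.tz w⟩
  generalize a * t = t' at e p'
  have k := (p.co.mem_Q (y := 0) (w := 0) (a := 1)).2 (zero_mul _).symm
  obtain ⟨l, y, w, e1⟩ := p.co.exV (p'.tw.conj_mem k)
  have hl : l ≠ 0 := fun r => p'.tw.conj_not_mem (mt p.co.mem_V.1 one_ne_zero)
    (e1 ▸ p.co.mem_Q.2 (r.trans (zero_mul _).symm))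
  obtain ⟨y', w', e2⟩ := p.co.exY (e0 ▸ e)
  have q := pre_scale p' hl
  refine std4 q ?_ ⟨l⁻¹ * y, l⁻¹ * w, by simpa [mul_inv_cancel_left₀ hl] using e1⟩
  rw [e2, show m 0 y' w' 0 = m (l * 0) (l * (l⁻¹ * y')) (l * (l⁻¹ * w')) 0 by simp [mul_inv_cancel_left₀ hl]]
  exact q.co.mem_Y.2 ⟨rfl, rfl⟩

end H10.HM
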