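import Cfsg.Agent.H10.HmS3
import Cfsg.Agent.H10.HmS4
import Cfsg.Agent.H87.HMBg

/-! Tower HM: the jobs `JobCO3`, `JobCO4` (coordinates on `B`). -/

set_option autoImplicit false
set_option linter.unusedSectionVars false

namespace H10.HM
open Cfsg Cfsg.FusionSystem H93 Subgroup H87.HM
open H92 hiding zc
open H52 (zc)
open H87.S4 (Co)
open H98 (Sec)
open H96.CG (Wt)
open scoped commutatorElement

universe u

variable {Ω : Type u} [Group Ω] {S B R A A' U W U' W' : Subgroup Ω} {F : FusionSystem S} {q : ℕ}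
  {t x y : Ω} {K : Type} [Field K]

/-- An additive section of a coordinate map on an elementary abelian group. -/
theorem exists_sec (s : Sec K U W) (two : (2 : K) = 0) (e : ∀ a ∈ U, a * a = 1) :
    ∃ x : K → Ω, (∀ a, x a ∈ U) ∧ (∀ a, s.ψ (x a) = a) ∧ ∀ a b, x (a + b) = x a * x b := by
  let : CommGroup U := { (inferInstance : Group U) with
    mul_comm := fun a b => Subtype.ext (comm_of_sq e a.2 b.2).eq }
  let : Module (ZMod 2) (Additive U) := AddCommGroup.zmodModule fun x => by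
    rw [two_nsmul]; exact Subtype.ext (e _ x.toMul.2)
  let : Module (ZMod 2) K := AddCommGroup.zmodModule fun x => by
    rw [two_nsmul, ← two_mul, two, zero_mul]
  let f : Additive U →+ K := AddMonoidHom.mk' (fun x => s.ψ (x.toMul : U)) fun a b =>
    s.mul _ a.toMul.2 _ b.toMul.2
  obtain ⟨g, hg⟩ := (f.toZModLinearMap 2).exists_rightInverse_of_surjective (LinearMap.range_eq_top.2
    fun k => (s.surj k).elim fun x hx => ⟨Additive.ofMul ⟨x, hx.1⟩, hx.2⟩)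
  exact ⟨fun a => ((g a).toMul : U), fun a => (g a).toMul.2, fun a => LinearMap.congr_fun hg a,
    fun a b => by simp only [map_add]; rfl⟩

/-- Coordinates on `B` from coordinates on the three layers. -/
theorem coords [Finite Ω] {N : Type} [AddCommGroup N] (tw : Tw S B A A' t) (two : (2 : K) = 0)
    (α : Sec K A (A ⊓ A')) (β : Sec K A' (A ⊓ A')) (γ : Sec N (A ⊓ A') ⊥) (f : K → K → N)
    (hf : ∀ x ∈ A, ∀ y ∈ A', γ.ψ ⁅x, y⁆ = f (α.ψ x) (β.ψ y)) :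
    ∃ m : K → N → K → Ω, (∀ c n a, m c n a ∈ B) ∧ (∀ g ∈ B, ∃ c n a, g = m c n a) ∧
      (∀ c n a c' n' a', m c n a * m c' n' a' = m (c + c') (n + n' + f a c') (a + a')) ∧
      (∀ c n a c' n' a', m c n a = m c' n' a' → c = c' ∧ n = n' ∧ a = a') ∧
      (∀ c n a, m c n a ∈ A ↔ c = 0) ∧ (∀ c n a, m c n a ∈ A' ↔ a = 0) ∧ ∀ n, γ.ψ (m 0 n 0) = n := by
  obtain ⟨x, x1, x2, x3⟩ := exists_sec α two tw.eA
  obtain ⟨y, y1, y2, y3⟩ := exists_sec β two tw.eA'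
  have ze : ∀ {w w'}, w ∈ A ⊓ A' → w' ∈ A ⊓ A' → γ.ψ w = γ.ψ w' → w = w' := fun h h' e =>
    inv_mul_eq_one.1 (mem_bot.1 ((γ.eq_iff h h').1 e))
  have z3 : ∀ n n', γ.σ (n + n') = γ.σ n * γ.σ n' := fun n n' => ze (γ.σ_mem _)
    (mul_mem (γ.σ_mem _) (γ.σ_mem _)) (by rw [γ.mul _ (γ.σ_mem _) _ (γ.σ_mem _), γ.ψ_σ, γ.ψ_σ, γ.ψ_σ])
  have x0 : x 0 = 1 := by simpa using x3 0 0
  have y0 : y 0 = 1 := by simpa using y3 0 0
  have cz : ∀ n {b}, b ∈ B → Commute b (γ.σ n) := fun n _ hb => tw.zcomm (γ.σ_mem n) hb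
  have k : ∀ a c, ⁅x a, y c⁆ = γ.σ (f a c) := fun a c => ze (tw.comm _ (x1 a) _ (y1 c)) (γ.σ_mem _)
    (by rw [hf _ (x1 a) _ (y1 c), x2, y2, γ.ψ_σ])
  have mA : ∀ c n a, y c * γ.σ n * x a ∈ A ↔ c = 0 := fun c n a => by
    rw [A.mul_mem_cancel_right (x1 a), A.mul_mem_cancel_right (γ.σ_mem n).1, ← y2 c, β.ker _ (y1 _), y2]
    exact ⟨fun h => ⟨h, y1 c⟩, fun h => h.1⟩
  have mA' : ∀ c n a, y c * γ.σ n * x a ∈ A' ↔ a = 0 := fun c n a => by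
    rw [A'.mul_mem_cancel_left (mul_mem (y1 c) (γ.σ_mem n).2), ← x2 a, α.ker _ (x1 _), x2]
    exact ⟨fun h => ⟨x1 a, h⟩, fun h => h.2⟩
  refine ⟨fun c n a => y c * γ.σ n * x a, fun c n a => mul_mem (mul_mem (tw.AB' (y1 c)) (tw.ZB (γ.σ_mem n)))
    (tw.AB (x1 a)), fun g hg => ?_, fun c n a c' n' a' => ?_, fun c n a c' n' a' e => ?_, mA, mA',
    fun n => by simp only [x0, y0, one_mul, mul_one, γ.ψ_σ]⟩
  · obtain ⟨v, hv, w, hw, rfl⟩ := tw.symm.dec hg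
    have h1 := (β.eq_iff (y1 (β.ψ v)) hv).1 (y2 _)
    have h2 := (α.eq_iff' hw (x1 (α.ψ w))).1 (x2 _).symm
    refine ⟨β.ψ v, γ.ψ ((y (β.ψ v))⁻¹ * v * (w * (x (α.ψ w))⁻¹)), α.ψ w, ?_⟩
    beta_reduce
    rw [ze (γ.σ_mem _) (mul_mem h1 h2) (γ.ψ_σ _)]; group
  · have h1 := (cz n (tw.AB' (y1 c'))).eq
    have h2 := (cz n' (tw.AB (x1 a))).eq
    have h3 := (cz (f a c') (tw.AB' (y1 c'))).eq
    have h4 := (cz (f a c') (tw.ZB (γ.σ_mem n'))).eq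
    have h5 : x a * y c' = γ.σ (f a c') * y c' * x a := by rw [← k, commutatorElement_def]; group
    calc _ = y c * γ.σ n * (x a * y c') * γ.σ n' * x a' := by group
      _ = y c * (γ.σ n * (γ.σ (f a c') * y c')) * (x a * γ.σ n') * x a' := by rw [h5]; group
      _ = y c * (γ.σ n * y c') * (γ.σ (f a c') * γ.σ n') * x a * x a' := by rw [← h3, h2]; group
      _ = _ := by beta_reduce; rw [← h1, ← h4, x3, y3, z3, z3]; group
  · have h1 : (y c')⁻¹ * y c = γ.σ n' * x a' * (γ.σ n * x a)⁻¹ := by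
      rw [eq_mul_inv_iff_mul_eq, mul_assoc, inv_mul_eq_iff_eq_mul]; simpa [mul_assoc] using e
    obtain rfl : c' = c := by
      rw [← y2 c, ← y2 c', β.eq_iff (y1 _) (y1 _)]
      exact ⟨h1 ▸ mul_mem (mul_mem (γ.σ_mem _).1 (x1 _)) (A.inv_mem (mul_mem (γ.σ_mem _).1 (x1 _))),
        mul_mem (A'.inv_mem (y1 _)) (y1 _)⟩
    have h2 : γ.σ n * x a = γ.σ n' * x a' := by simpa [mul_assoc] using e
    have h3 := congrArg α.ψ h2
    rw [α.mul _ (γ.σ_mem _).1 _ (x1 _), α.mul _ (γ.σ_mem _).1 _ (x1 _), x2, x2,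
      (α.ker _ (γ.σ_mem _).1).2 (γ.σ_mem _), (α.ker _ (γ.σ_mem _).1).2 (γ.σ_mem _), zero_add, zero_add] at h3
    subst h3
    exact ⟨rfl, by rw [← γ.ψ_σ n, mul_right_cancel h2, γ.ψ_σ], rfl⟩

/-- The part of the coordinates of a block that also exists for `q = 2`. -/
structure C0 (B R A A' : Subgroup Ω) (K : Type) [Field K] where
  a : Sec K A (zc B)
  b : Sec K A' (zc B)
  z : Sec K (zc B) (zc B ⊓ Ct R)
  two : (2 : K) = 0
  comm : ∀ x ∈ A, ∀ y ∈ A', z.ψ ⁅x, y⁆ = a.ψ x * b.ψ y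
  tor : ∀ l : K, l ≠ 0 → ∃ h ∈ R, h ∈ Nm B ∧ Wt a b z h l

theorem idx2 (h : W.relIndex U = 2) (ha : x ∈ U) (hb : y ∈ U) : x * y ∈ W ↔ (x ∈ W ↔ y ∈ W) :=
  mul_mem_iff_of_index_two (H := W.subgroupOf U) h (a := ⟨x, ha⟩) (b := ⟨y, hb⟩)

open Classical in
/-- The coordinate on a section of order two. -/
noncomputable def sec2 (le : W ≤ U) (h : W.relIndex U = 2) : Sec (ZMod 2) U W where
  ψ x := if x ∈ W then 0 else 1
  le := le
  mul x hx y hy := by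
    by_cases h1 : x ∈ W <;> by_cases h2 : y ∈ W <;> simp [idx2 h hx hy, h1, h2]
    rfl
  ker x _ := by by_cases h1 : x ∈ W <;> simp [h1]
  surj m := by
    obtain ⟨d, h1, h2⟩ : ∃ d ∈ U, d ∉ W := SetLike.not_le_iff_exists.1 fun e => by
      rw [relIndex_eq_one.2 e] at h
      exact absurd h (by decide)
    fin_cases m
    · exact ⟨1, U.one_mem, if_pos W.one_mem⟩
    · exact ⟨d, h1, if_neg h2⟩

variable [Finite Ω]

theorem exists_c0 (u : Bg q B R A A') :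
    ∃ (K : Type) (_ : Field K) (_ : Finite K), Nat.card K = q ∧ Nonempty (C0 B R A A' K) := by
  rcases (show 2 ≤ q from u.tri.one_lt).eq_or_lt with rfl | h
  · refine ⟨ZMod 2, inferInstance, inferInstance, by simp, ⟨sec2 u.tri.zA u.tri.idx, sec2 u.tri.zA' u.tri.idx',
      sec2 inf_le_left u.tri.idxD, rfl, fun x hx y hy => ?_, fun l hl => ⟨1, R.one_mem, one_mem _, ?_⟩⟩⟩
    · have : ∀ a b : ZMod 2, (a = 0 ↔ b = 0) → a = b := by decide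
      refine this _ _ ?_
      rw [mul_eq_zero, Sec.ker _ _ (u.tri.comm x hx y hy), Sec.ker _ _ hx, Sec.ker _ _ hy]
      refine ⟨u.tri.reg x hx y hy, fun e => ?_⟩
      have : ⁅x, y⁆ = 1 := commutatorElement_eq_one_iff_commute.2 (e.elim
        (fun e => (commute_of_Ct e.2 (u.tri.AB' hy)).symm) fun e => commute_of_Ct e.2 (u.tri.AB hx))
      exact this ▸ one_mem _
    · have : ∀ a : ZMod 2, a ≠ 0 → a = 1 := by decide
      obtain rfl := this l hl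
      exact ⟨by simp, by simp, by simp⟩
  · obtain ⟨K, _, _, e, ⟨c⟩⟩ := H98.jobCo Ω q B R A A' u.bk h
    exact ⟨K, inferInstance, inferInstance, by simpa using e, ⟨c.a, c.b, c.z, c.two, c.comm, fun l hl =>
      (c.tor l hl).imp fun _ r => ⟨r.1, r.2.1, r.2.2.2⟩⟩⟩

theorem Cf.bg (c : Cf F q B R A A' t) : Bg q B R A A' := ⟨c.bk, c.tw.gen⟩

theorem Cf.mv (c : Cf F q B R A A' t) : ¬ Aut F A ≤ Nm (A ⊓ A') := fun h => by
  obtain ⟨a, ha, h1⟩ := c.tw.exA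
  obtain ⟨r, hr, e⟩ := c.bk.fuse ha
  rw [c.tw.zc_eq] at e
  exact h1 (by simpa [mul_assoc] using conj_mem_of_Nm' (h (c.RF hr)) e : a ∈ A ⊓ A').2

/-- Transport along an equality of subgroups. -/
def cast {N : Type} [AddCommGroup N] (s : Sec N U W) (h : U = U') (h' : W = W') : Sec N U' W' where
  ψ := s.ψ
  le := h ▸ h' ▸ s.le
  mul := h ▸ s.mul
  ker := h ▸ h' ▸ s.ker
  surj := h ▸ s.surj

theorem jobCO3 : JobCO3.{u} := fun Ω _ _ S F q B R A A' t c d => by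
  obtain ⟨K, _, _, e, ⟨k⟩⟩ := exists_c0 (Cf.bg c)
  have : CharP K 2 := CharTwo.of_one_ne_zero_of_two_eq_zero one_ne_zero k.two
  have ze := c.tw.zc_eq
  obtain ⟨m, m1, m2, m3, m4, m5, m6, -⟩ := coords c.tw k.two (cast k.a rfl ze) (cast k.b rfl ze)
    (cast k.z ze d) (· * ·) k.comm
  have h : He B fun a b c => m b c a := ⟨fun _ _ _ => m1 .., fun g hg => by
    obtain ⟨c, n, a, r⟩ := m2 g hg
    exact ⟨a, c, n, r⟩, fun _ _ _ _ _ _ => m3 .., fun r => by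
    obtain ⟨h1, h2, h3⟩ := m4 _ _ _ _ _ _ r
    exact ⟨h3, h1, h2⟩⟩
  have e1 := eq_of_he h h.A_le c.tw.AB fun _ _ _ => h.mem_A.trans (m5 ..).symm
  have e2 := eq_of_he h h.A'_le c.tw.AB' fun _ _ _ => h.mem_A'.trans (m6 ..).symm
  refine ⟨K, inferInstance, inferInstance, this, _, ?_, c.sat, h, e1 ▸ e2 ▸ c.tw, ?_⟩
  · rw [e]
    refine (show 2 ≤ q from c.bk.tri.one_lt).lt_of_ne fun r => c.tw.big.elim (fun l => ?_) fun l => l ?_
    · rw [← ze, c.bk.tri.idx] at l; omega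
    · have i := (Cf.bg c).tri.idxD
      rw [d, ← r, ze] at i
      refine mem_Ct'.2 fun z hz => ?_
      have := (idx2 i (inv_mem hz) (conj_mem_of_Nm (c.tw.S_NmZ c.tw.tS) hz)).2 (by simp [mem_bot])
      rw [mem_bot, inv_mul_eq_one, eq_mul_inv_iff_mul_eq] at this
      exact this
  · rw [← h.inf_eq, e1, e2]; exact Cf.mv c

/-- Transport along conjugation. -/
def cjs (s : Sec K U W) (t : Ω) (h : cj t U = U') (h' : cj t W = W') : Sec K U' W' where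
  ψ x := s.ψ (t⁻¹ * x * t)
  le := h ▸ h' ▸ cj_mono t s.le
  mul x hx y hy := by
    rw [← s.mul _ (mem_cj.1 (h.ge hx)) _ (mem_cj.1 (h.ge hy))]; congr 1; group
  ker x hx := by rw [s.ker _ (mem_cj.1 (h.ge hx)), ← h', mem_cj]
  surj k := (s.surj k).elim fun x hx => ⟨t * x * t⁻¹, h ▸ mem_cj.2 (by simpa [mul_assoc] using hx.1),
    by simpa [mul_assoc] using hx.2⟩

theorem trans (s s' : Sec K U W) : ∃ φ : K → K, (∀ a b, φ (a + b) = φ a + φ b) ∧ φ 1 ≠ 0 ∧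
    ∀ x ∈ U, s'.ψ x = φ (s.ψ x) := by
  have k : ∀ x ∈ U, s'.ψ x = s'.ψ (s.σ (s.ψ x)) := fun x hx =>
    (s'.eq_iff hx (s.σ_mem _)).2 ((s.eq_iff hx (s.σ_mem _)).1 (s.ψ_σ _).symm)
  refine ⟨fun a => s'.ψ (s.σ a), fun a b => ?_, fun e => ?_, k⟩
  · beta_reduce
    rw [← s'.mul _ (s.σ_mem _) _ (s.σ_mem _), k _ (mul_mem (s.σ_mem a) (s.σ_mem b)),
      s.mul _ (s.σ_mem _) _ (s.σ_mem _), s.ψ_σ, s.ψ_σ]
  · exact one_ne_zero ((s.ψ_σ 1).symm.trans ((s.ker _ (s.σ_mem _)).2 ((s'.ker _ (s.σ_mem _)).1 e)))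

theorem Cf.nD' (c : Cf F q B R A A' t) : R ⊓ Nm B ≤ Nm (zc B ⊓ Ct (cj t R)) := fun g hg => by
  have tB := c.tw.t_Nm
  have m := (c.RB g hg.1 hg.2).conj (M.of_mem F c.tw.BS (inv_mem c.tw.tS)) le_rfl (cj_eq_of_Nm hg.2).le
  rw [cj_eq_of_Nm (inv_mem tB)] at m
  have := conj_mem_Nm_cj t⁻¹ (c.bk.nA' (le_Nm R hg.1) hg.2)
  rw [← c.tw.sw, cj_inv_cj] at this
  rw [← cj_D tB]
  simpa [mul_assoc] using conj_mem_Nm_cj t (c.nD ((m.mono c.tw.AB).mem_Aut this))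

/-- The second coordinate on the centre. -/
theorem second [Finite K] [CharP K 2] (c : Cf F q B R A A' t) (d : zc B ⊓ Ct R ≠ ⊥) (k : C0 B R A A' K) :
    (∀ z ∈ zc B, ∃ d ∈ zc B ⊓ Ct (cj t R), d⁻¹ * z ∈ zc B ⊓ Ct R) ∧
      ∃ w : Sec K (zc B) (zc B ⊓ Ct (cj t R)), ∀ x ∈ A, ∀ y ∈ A', w.ψ ⁅x, y⁆ = k.a.ψ x ^ 2 * k.b.ψ y := by
  have tB := c.tw.t_Nm
  have tZ := cj_eq_of_Nm (nZ tB)
  have u := Cf.bg c
  have sp : ∀ z ∈ zc B, ∃ d ∈ zc B ⊓ Ct (cj t R), d⁻¹ * z ∈ zc B ⊓ Ct R := fun z hz =>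
    H98.Sec.irr k.z (fun l hl => (k.tor l hl).imp fun h r => ⟨Cf.nD' c ⟨r.1, r.2.1⟩, hl,
      fun x hx => by simpa using r.2.2.2.2 x hx⟩) inf_le_left (fun l => d (by
        rw [← cj_eq_bot (g := t), cj_D tB, eq_bot_iff, ← c.DD]
        exact le_inf l inf_le_right)) hz
  let z' := cjs k.z t tZ (cj_D tB)
  obtain ⟨φ, φ1, φ2, φ3⟩ := trans k.a (cjs k.b t c.tw.sw' tZ)
  obtain ⟨ψ, ψ1, ψ2, ψ3⟩ := trans k.b (cjs k.a t c.tw.sw tZ)
  have cm : ∀ x ∈ A, ∀ y ∈ A', z'.ψ ⁅x, y⁆ = φ (k.a.ψ x) * ψ (k.b.ψ y) := fun x hx y hy => by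
    have h1 := mem_cj.1 (c.tw.sw'.ge hx)
    have h2 := mem_cj.1 (c.tw.sw.ge hy)
    rw [← φ3 x hx, ← ψ3 y hy, mul_comm]
    refine Eq.trans ?_ (k.comm _ h2 _ h1)
    rw [← commutatorElement_inv _ (t⁻¹ * y * t), k.z.inv (comm_swap (u.tri.comm _ h2 _ h1)), CharTwo.neg_eq]
    change k.z.ψ _ = _
    congr 1; simp only [commutatorElement_def]; group
  have iv : ∀ h ∈ R ⊓ Nm B, ∀ w ∈ zc B, z'.ψ (h * w * h⁻¹) = z'.ψ w := fun h hh w hw => by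
    obtain ⟨e, he, r⟩ := sp w hw
    have h1 := conj_mem_of_Nm (Cf.nD' c hh) he
    have h2 : h * w * h⁻¹ = h * e * h⁻¹ * (e⁻¹ * w) := by
      rw [← conj_eq_of_Ct (le_Ct_comm.1 inf_le_right hh.1) r]; group
    rw [h2, z'.mul _ h1.1 _ r.1, z'.mul _ (inv_mem he.1) _ hw, (z'.ker _ h1.1).2 h1,
      (z'.ker _ (inv_mem he.1)).2 (inv_mem he), zero_add, zero_add]
  obtain ⟨ρ, r1, r2⟩ := semi (f' := fun l => ψ (l ^ 2)) φ1 φ2 (by simpa using ψ2) fun a l => by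
    have φ0 : φ 0 = 0 := by simpa using φ1 0 0
    have ψ0 : ψ 0 = 0 := by simpa using ψ1 0 0
    rcases eq_or_ne l 0 with rfl | hl
    · simp [φ0, ψ0]
    obtain ⟨h, h1, h2, w1, w2, -⟩ := k.tor l hl
    have := iv h ⟨h1, h2⟩ _ (u.tri.comm _ (k.a.σ_mem (a * l)) _ (k.b.σ_mem 1))
    rw [comm_conj, cm _ (conj_mem_of_Nm (c.bk.RA h1) (k.a.σ_mem _)) _
      (conj_mem_of_Nm (c.bk.nA' (le_Nm R h1) h2) (k.b.σ_mem _)), cm _ (k.a.σ_mem _) _ (k.b.σ_mem _),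
      w1 _ (k.a.σ_mem _), w2 _ (k.b.σ_mem _), k.a.ψ_σ, k.b.ψ_σ, mul_comm a l, inv_mul_cancel_left₀ hl,
      mul_one] at this
    rw [mul_comm a l, one_pow]; exact this
  simp only [one_pow] at r2
  have n0 := mul_ne_zero φ2 ψ2
  refine ⟨sp, ⟨fun w => ρ.symm ((φ 1 * ψ 1)⁻¹ * z'.ψ w) ^ 2, inf_le_left, fun x hx y hy => ?_, fun x hx => ?_,
    fun v => ?_⟩, fun x hx y hy => ?_⟩
  · rw [z'.mul x hx y hy, mul_add, map_add, CharTwo.add_sq]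
  · rw [← z'.ker x hx]; simp [φ2, ψ2]
  · obtain ⟨s, rfl⟩ := H98.f2_sq_surj k.two v
    obtain ⟨x, hx, e⟩ := z'.surj (φ 1 * ψ 1 * ρ s)
    exact ⟨x, hx, by rw [e, inv_mul_cancel_left₀ n0, RingEquiv.symm_apply_apply]⟩
  · obtain ⟨s, e⟩ := H98.f2_sq_surj k.two (k.b.ψ y)
    change ρ.symm (_ * z'.ψ _) ^ 2 = _
    rw [cm x hx y hy, ← e, r1 (k.a.ψ x), r2, mul_mul_mul_comm, inv_mul_cancel_left₀ n0, ← map_mul,
      RingEquiv.symm_apply_apply, mul_pow]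

theorem jobCO4 : JobCO4.{u} := fun Ω _ _ S F q B R A A' t c d => by
  obtain ⟨K, _, _, -, ⟨k⟩⟩ := exists_c0 (Cf.bg c)
  have : CharP K 2 := CharTwo.of_one_ne_zero_of_two_eq_zero one_ne_zero k.two
  have ze := c.tw.zc_eq
  obtain ⟨sp, w, cm⟩ := second c d k
  let γ : Sec (K × K) (zc B) ⊥ := ⟨fun x => (k.z.ψ x, w.ψ x), bot_le,
    fun x hx y hy => Prod.ext (k.z.mul x hx y hy) (w.mul x hx y hy), fun x hx => by
      rw [Prod.mk_eq_zero, k.z.ker x hx, w.ker x hx, ← c.DD]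
      exact ⟨fun r => ⟨r.1, r.2.2⟩, fun r => ⟨r.1, hx, r.2⟩⟩, fun p => by
      obtain ⟨x, hx, e⟩ := k.z.surj p.1
      obtain ⟨y, hy, e'⟩ := w.surj p.2
      obtain ⟨x', h1, h2⟩ := sp x hx
      obtain ⟨y', h3, h4⟩ := sp y hy
      refine ⟨x' * (y'⁻¹ * y), mul_mem h1.1 h4.1, Prod.ext ?_ ?_⟩
      · change k.z.ψ _ = _
        rw [k.z.mul _ h1.1 _ h4.1, (k.z.ker _ h4.1).2 h4, add_zero, ← e, k.z.eq_iff h1.1 hx]; exact h2
      · change w.ψ _ = _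
        rw [w.mul _ h1.1 _ h4.1, (w.ker _ h1.1).2 h1, w.mul _ (inv_mem h3.1) _ hy,
          (w.ker _ (inv_mem h3.1)).2 (inv_mem h3), zero_add, zero_add, e']⟩
  obtain ⟨m, m1, m2, m3, m4, m5, m6, m7⟩ := coords c.tw k.two (cast k.a rfl ze) (cast k.b rfl ze)
    (cast γ ze rfl) (fun a c => (a * c, a ^ 2 * c)) fun x hx y hy => Prod.ext (k.comm x hx y hy) (cm x hx y hy)
  have h : Co B fun c y w a => m c (y, w) a := ⟨fun _ _ _ _ => m1 .., fun g hg => by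
    obtain ⟨c, n, a, r⟩ := m2 g hg
    exact ⟨c, n.1, n.2, a, r⟩, fun _ _ _ _ _ _ _ _ => by simp [m3, k.two], fun r => by
    obtain ⟨h1, h2, h3⟩ := m4 _ _ _ _ _ _ r
    exact ⟨h1, (Prod.ext_iff.1 h2).1, (Prod.ext_iff.1 h2).2, h3⟩⟩
  have mZ : ∀ n, m 0 n 0 ∈ zc B := fun n => ze ▸ ⟨(m5 ..).2 rfl, (m6 ..).2 rfl⟩
  have e1 := eq_of_co h (h.Q_le 0) c.tw.AB fun _ _ _ _ => by rw [h.mem_Q, m5, zero_mul]
  have e2 := eq_of_co h h.V_le c.tw.AB' fun _ _ _ _ => h.mem_V.trans (m6 ..).symm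
  have e3 : h.Y = A ⊓ A' := by rw [← h.V_inf_Q 0, e1, e2, inf_comm]
  have e4 := eq_of_co h h.Z_le (Q := zc B ⊓ Ct R) (inf_le_left.trans inf_le_left) fun c y w a => by
    rw [h.mem_Z]
    refine ⟨?_, fun r => ?_⟩
    · rintro ⟨rfl, rfl, rfl⟩
      exact (k.z.ker _ (mZ _)).1 (congrArg Prod.fst (m7 (0, w)))
    · obtain rfl := (m5 ..).1 (ze.le r.1).1
      obtain rfl := (m6 ..).1 (ze.le r.1).2
      exact ⟨rfl, (congrArg Prod.fst (m7 (y, w))).symm.trans ((k.z.ker _ r.1).2 r), rfl⟩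
  refine ⟨K, inferInstance, inferInstance, this, _, c.sat, h, e1 ▸ e2 ▸ c.tw, e1 ▸ e4 ▸ c.nD,
    e1 ▸ e3 ▸ Cf.mv c, fun v => ?_⟩
  have h1 : t * m 0 (0, v) 0 * t⁻¹ ∈ zc B ⊓ Ct (cj t R) := by
    rw [← cj_D c.tw.t_Nm, ← e4, mem_cj]; simp [mul_assoc]
  obtain ⟨y, v', e⟩ := h.exY (e3.ge (ze.le h1.1))
  have h2 := (w.ker _ h1.1).2 h1
  rw [e] at h2
  obtain rfl : v' = 0 := (congrArg Prod.snd (m7 (y, v'))).symm.trans h2
  exact ⟨y, e⟩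

end H10.HM
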