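import Cfsg.Agent.H87.S4K

/-! Tower SP4: the maximal intersection trick and the spread lemma. -/

set_option autoImplicit false

namespace H10.S4
open H92 H93 Subgroup H87.S4

universe v

/-- The stabiliser of a set. -/
def stab {N : Type*} [AddCommGroup N] [Finite N] (B : Set N) : Subgroup (A N) where
  carrier := {h | ∀ b ∈ B, h b ∈ B}
  one_mem' := fun _ hb => hb
  mul_mem' := fun ha hb x hx => ha _ (hb x hx)
  inv_mem' := fun {h} hh b hb => by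
    obtain ⟨c, hc, rfl⟩ := ((Set.toFinite B).injOn_iff_bijOn_of_mapsTo (f := h) hh).1
      h.injective.injOn |>.surjOn hb
    rwa [A.inv_self]

/-- (SYL) a `p`-element of `Γ` that stabilises `B` fixes it pointwise. -/
theorem fix_of_stab {p : ℕ} [Fact p.Prime] {N : Type*} [AddCommGroup N] [Finite N]
    {Γ U : Subgroup (A N)} {B : Set N} (hU : SylIn p U Γ) (h : ∀ u ∈ U, ∀ b ∈ B, u b = b)
    {g : A N} (hg : g ∈ Γ) (hp : ∃ k, g ^ p ^ k = 1) (hB : ∀ b ∈ B, g b ∈ B) :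
    ∀ b ∈ B, g b = b := fun b hb => by
  obtain ⟨s, hs, e⟩ := (hU.mono (C := Γ ⊓ stab B)
    (le_inf hU.le fun u hu b hb => (h u hu b hb).symm ▸ hb) inf_le_left).exists_conj
    (C := zpowers g) (isPGroup_iff_forall.2 (by
      rintro _ ⟨i, rfl⟩
      obtain ⟨k, hk⟩ := hp
      exact ⟨k, by rw [← zpow_natCast, ← zpow_mul, mul_comm, zpow_mul, zpow_natCast, hk, one_zpow]⟩))
    (zpowers_le.2 ⟨hg, hB⟩)
  have := h _ (e g (mem_zpowers g)) _ (hs.2 b hb)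
  rw [A.mul_apply, A.mul_apply, A.inv_self] at this
  exact s.injective this

theorem jobTRK : JobTRK.{v} := by
  intro p _ N _ _ Γ U B hU h0 h1 h2 g hg
  have hf : ∀ u ∈ U, ∀ b ∈ B, u b = b := fun u hu b hb => by
    by_cases e : u = 1
    · rw [e, A.one_apply]
    · exact (h1 u hu e b).2 hb
  obtain ⟨u0, hu0, n0⟩ := (bot_or_exists_ne_one U).resolve_left h0
  have add : ∀ a ∈ B, ∀ b ∈ B, a + b ∈ B := fun a ha b hb =>
    (h1 u0 hu0 n0 _).1 (by rw [map_add, hf u0 hu0 a ha, hf u0 hu0 b hb])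
  by_contra hc
  obtain ⟨g, ⟨hg, hc⟩, hm⟩ := Set.exists_max_image
    {g ∈ Γ | ¬ ((∀ b ∈ B, g b ∈ B) ∨ ∀ b ∈ B, g b ∈ B → b = 0)}
    (fun g => {b ∈ B | g b ∈ B}.ncard) (Set.toFinite _) ⟨g, hg, hc⟩
  push Not at hc
  obtain ⟨⟨b1, m1, n1⟩, b0, m0, m0', n0⟩ := hc
  obtain ⟨u, hu, e⟩ := h2 _ n1 _ m0'
  have e1 : (g⁻¹ * u * g) b1 = b1 + b0 := by
    rw [A.mul_apply, A.mul_apply, e, ← map_add, A.inv_self]
  have e2 : ∀ b ∈ B, g b ∈ B → (g⁻¹ * u * g) b = b := fun b _ hb => by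
    rw [A.mul_apply, A.mul_apply, hf u hu _ hb, A.inv_self]
  have hg' := mul_mem (mul_mem (inv_mem hg) (hU.le hu)) hg
  refine n0 (add_eq_left.1 (e1.symm.trans (fix_of_stab hU hf hg' ?_ ?_ b1 m1)))
  · obtain ⟨k, hk⟩ := isPGroup_iff_forall.1 hU.isPGroup u hu
    exact ⟨k, by rw [← inv_inv g, inv_inv g⁻¹, conj_pow, hk, mul_one, mul_inv_cancel]⟩
  by_contra hn
  refine (hm _ ⟨hg', fun h => h.elim hn fun h => n0 (h b0 m0 ((e2 b0 m0 m0').symm ▸ m0))⟩).not_gt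
    (Set.ncard_lt_ncard ⟨fun b hb => ⟨hb.1, (e2 b hb.1 hb.2).symm ▸ hb.1⟩, fun h => n1 (h ?_).2⟩)
  exact ⟨m1, e1.symm ▸ add _ m1 _ m0⟩

theorem jobSP : JobSP.{v} := by
  rintro p _ K _ _ _ Γ Γ₀ U hU hS h0 hN ⟨g0, hg0, y0, n0⟩
  have mU : ∀ a, u2 a ∈ U := fun a => (hU _).2 ⟨a, fun _ _ => rfl⟩
  have trk : ∀ g ∈ Γ, (∀ y, (g (0, y)).1 = 0) ∨ ∀ y, (g (0, y)).1 = 0 → y = 0 := fun g hg => by
    refine (jobTRK p (K × K) Γ U {v | v.1 = 0} hS (fun h => ?_) (fun u hu n v => ?_)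
      (fun v hv b hb => ⟨_, mU (b.2 / v.1), ?_⟩) g hg).imp (fun h y => h (0, y) rfl)
      fun h y e => congrArg Prod.snd (h (0, y) rfl e)
    · have := LinearEquiv.congr_fun (mem_bot.1 (h ▸ mU 1)) (1, 0)
      rw [u2_apply, A.one_apply] at this
      simp at this
    · obtain ⟨a, ha⟩ := (hU u).1 hu
      have : a ≠ 0 := fun h => n (LinearEquiv.ext fun v => by simpa [h] using ha v.1 v.2)
      obtain ⟨x, y⟩ := v
      simp [ha, this]
    · obtain ⟨x, y⟩ := v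
      obtain ⟨c, d⟩ := b
      obtain rfl : c = 0 := hb
      simp [div_mul_cancel₀ d hv]
  let α : K →+ K := (AddMonoidHom.fst K K).comp (g0.toAddMonoidHom.comp (AddMonoidHom.inr K K))
  have hα : Function.Injective α :=
    (injective_iff_map_eq_zero α).2 ((trk g0 hg0).resolve_left fun h => n0 (h y0))
  let ε := AddEquiv.ofBijective α (Finite.injective_iff_bijective.1 hα)
  let φ : K →+ K := ((AddMonoidHom.snd K K).comp
    (g0.toAddMonoidHom.comp (AddMonoidHom.inr K K))).comp ε.symm.toAddMonoidHom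
  have f1 : ∀ y, g0 (0, y) = (ε y, φ (ε y)) := fun y =>
    Prod.ext rfl (congrArg (fun t => (g0 (0, t)).2) (ε.symm_apply_apply y).symm)
  have f2 : ∀ x, g0⁻¹ (x, φ x) = (0, ε.symm x) := fun x => by
    rw [← ε.apply_symm_apply x, ← f1, A.inv_self, ε.symm_apply_apply]
  have c1 : ∀ g ∈ Γ, (∀ y, (g (0, y)).1 = 0) ∨
      ∃ a, ∀ y, (g (0, y)).2 = φ (g (0, y)).1 + a * (g (0, y)).1 := fun g hg => by
    refine (trk g hg).imp_right fun h => ?_
    have hx : (g (0, 1)).1 ≠ 0 := fun e => one_ne_zero (h 1 e)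
    let a := ((g (0, 1)).2 - φ (g (0, 1)).1) / (g (0, 1)).1
    have e : g (0, 1) = u2 a ((g (0, 1)).1, φ (g (0, 1)).1) :=
      Prod.ext rfl (by simp [a, div_mul_cancel₀ _ hx])
    refine ⟨a, fun y => ?_⟩
    have := (trk _ (mul_mem (mul_mem (inv_mem hg0) (inv_mem (hS.le (mU a)))) hg)).resolve_right
      (fun h => one_ne_zero (h 1 (by rw [A.mul_apply, A.mul_apply, e, A.inv_self, f2]))) y
    have e' : g (0, y) = u2 a (g0 (0, ((g0⁻¹ * (u2 a)⁻¹ * g) (0, y)).2)) := by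
      rw [show (0, ((g0⁻¹ * (u2 a)⁻¹ * g) (0, y)).2) = (g0⁻¹ * (u2 a)⁻¹ * g) (0, y) from
        Prod.ext this.symm rfl, A.mul_apply, A.mul_apply, A.self_inv, A.self_inv]
    rw [e', f1, u2_apply]
  have c2 : ∀ a : K, ∃ b, ∀ x y,
      (g0 * u2 a * g0⁻¹ : A (K × K)) (x, y + φ x) = (x + b * y, y + φ (x + b * y)) := by
    intro a
    have e1 : ∀ x, (g0 * u2 a * g0⁻¹) (x, φ x) = (x, φ x) := fun x => by
      rw [A.mul_apply, A.mul_apply, f2, u2_apply, mul_zero, add_zero, ← f2, A.self_inv]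
    have e2 : ∀ y, ((g0 * u2 a * g0⁻¹) (0, y)).2 = y + φ ((g0 * u2 a * g0⁻¹) (0, y)).1 := by
      intro y
      have : u2 a (g0⁻¹ (0, y)) = g0⁻¹ (0, y) + (0, a * (g0⁻¹ (0, y)).1) :=
        Prod.ext (add_zero _).symm rfl
      rw [A.mul_apply, A.mul_apply, this, map_add, A.self_inv, f1]
      simp
    obtain ⟨b, hb⟩ : ∃ b, ∀ y, ((g0 * u2 a * g0⁻¹) (0, y)).1 = b * y := by
      rcases c1 _ (mul_mem (mul_mem hg0 (hS.le (mU a))) (inv_mem hg0)) with h | ⟨c, h⟩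
      · exact ⟨0, fun y => by rw [h, zero_mul]⟩
      · have h' : ∀ y, y = c * ((g0 * u2 a * g0⁻¹) (0, y)).1 := fun y => by
          linear_combination h y - e2 y
        have : c ≠ 0 := fun e => by simpa [e] using h' 1
        exact ⟨c⁻¹, fun y => by rw [eq_inv_mul_iff_mul_eq₀ this, ← h']⟩
    refine ⟨b, fun x y => ?_⟩
    rw [show (x, y + φ x) = (x, φ x) + (0, y) by simp [add_comm], map_add, e1]
    exact Prod.ext (by rw [Prod.fst_add, hb]) (by rw [Prod.snd_add, e2, hb, map_add]; ring)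
  choose β hβ using c2
  have hb : Function.Injective β := fun a a' e => by
    have : g0 * u2 a * g0⁻¹ = g0 * u2 a' * g0⁻¹ := LinearEquiv.ext fun v => by
      rw [show v = (v.1, (v.2 - φ v.1) + φ v.1) by simp, hβ, hβ, e]
    simpa using LinearEquiv.congr_fun (mul_left_cancel (mul_right_cancel this)) (1, 0)
  have c3 : ∀ s, s ≠ 0 → ∃ g ∈ Γ₀, ∀ x y,
      g (x, y + φ x) = (s⁻¹ * y, -(s * x) + φ (s⁻¹ * y)) := fun s hs => by
    obtain ⟨a, ha⟩ := Finite.injective_iff_surjective.1 hb s⁻¹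
    have m := conj_mem_of_Nm (hN hg0) (h0 (mU a))
    refine ⟨_, mul_mem (mul_mem m (h0 (mU (-s)))) m, fun x y => ?_⟩
    rw [A.mul_apply, A.mul_apply, hβ, u2_apply, ha,
      show y + φ (x + s⁻¹ * y) + -s * (x + s⁻¹ * y) = -(s * x) + φ (x + s⁻¹ * y) by
        field_simp; ring, hβ, ha, show x + s⁻¹ * y + s⁻¹ * -(s * x) = s⁻¹ * y by field_simp; ring]
  refine ⟨φ, c1, fun s hs => ?_, by simpa using c3 1 one_ne_zero⟩
  obtain ⟨g, hg, e⟩ := c3 s hs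
  obtain ⟨g', hg', e'⟩ := c3 (-1) (by simp)
  refine ⟨_, mul_mem hg hg', fun x y => ?_⟩
  rw [A.mul_apply, e', e]
  simp

end H10.S4
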