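import Cfsg.Agent.H87.HMK2
import Cfsg.Agent.H10.SpSP
import Cfsg.Agent.H96.NatSL

/-! Tower HM: the spread lemma in Heisenberg coordinates and the job `JobFr3`. -/

set_option autoImplicit false
set_option linter.unusedSectionVars false

namespace H10.HM
open Cfsg Cfsg.FusionSystem H92 H93 Subgroup H87.HM
open H87.S4 (mkA exists_im)
open scoped commutatorElement

universe u

variable {Ω : Type u} [Group Ω] {S B : Subgroup Ω} {F : FusionSystem S} {g n t : Ω}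
  {K : Type} [Field K] {c c' d d' : K} {σ ρ τ : RingAut K} {m : K → K → K → Ω}

theorem aut_comm [Finite K] (σ ρ : RingAut K) (x : K) : σ (ρ x) = ρ (σ x) :=
  DFunLike.congr_fun ((H96.isCyclic_ringAut' (F := K)).commGroup.mul_comm σ ρ) x

/-- A multiplicative pair of additive maps is semilinear. -/
theorem semi [Finite K] {f f' : K → K} (a1 : ∀ x y, f (x + y) = f x + f y) (h1 : f 1 ≠ 0)
    (h2 : f' 1 ≠ 0) (h : ∀ a b, f a * f' b = f (a * b) * f' 1) :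
    ∃ ρ : RingAut K, (∀ a, f a = f 1 * ρ a) ∧ ∀ b, f' b = f' 1 * ρ b := by
  let r : K →+* K := RingHom.mk' ⟨⟨fun a => (f 1)⁻¹ * f a, inv_mul_cancel₀ h1⟩, fun a b => by
    have k1 := h a b
    have k2 := h 1 b
    rw [one_mul] at k2
    field_simp
    apply mul_right_cancel₀ h2
    linear_combination f a * k2 - f 1 * k1⟩ fun a b => by
      change (f 1)⁻¹ * f (a + b) = (f 1)⁻¹ * f a + (f 1)⁻¹ * f b
      rw [a1, mul_add]
  have e : ∀ a, f a = f 1 * r a := fun a => (mul_inv_cancel_left₀ h1 _).symm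
  refine ⟨RingEquiv.ofBijective r (Finite.injective_iff_bijective.1 r.injective), e, fun b => ?_⟩
  have k2 := h 1 b
  rw [one_mul, e b] at k2
  change f' b = f' 1 * r b
  apply mul_left_cancel₀ h1
  linear_combination k2

theorem Dg3.mul {g' : Ω} (h1 : Dg3 m g c c' ρ) (h2 : Dg3 m g' d d' τ) :
    Dg3 m (g * g') (c * ρ d) (c' * ρ d') (ρ * τ) := fun a b z => by
  rw [show g * g' * m a b z * (g * g')⁻¹ = g * (g' * m a b z * g'⁻¹) * g⁻¹ by group, h2, h1]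
  simp only [RingAut.mul_apply, map_mul]
  congr 1 <;> ring

section He
variable (h : He B m)
include h

theorem cY [CharP K 2] (b x z : K) : m 0 b 0 * m x 0 z * (m 0 b 0)⁻¹ = m x 0 (z + x * b) := by
  rw [h.conj]; congr 1; simp [CharTwo.sub_eq_add]

theorem nmZ [Finite Ω] (k : ∀ y, ∃ y', g * m 0 0 y * g⁻¹ = m 0 0 y') : g ∈ Nm (Z3 m) :=
  mem_Nm_of_conj fun x hx => by
    obtain ⟨y, rfl⟩ := h.exZ hx
    obtain ⟨y', e⟩ := k y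
    rw [e, h.mem_Z]; exact ⟨rfl, rfl⟩

theorem nmX [Finite Ω] (k : ∀ y, ∃ y', g * m y 0 0 * g⁻¹ = m y' 0 0) : g ∈ Nm (X3 m) :=
  mem_Nm_of_conj fun x hx => by
    obtain ⟨y, rfl⟩ := h.exX hx
    obtain ⟨y', e⟩ := k y
    rw [e, h.mem_X]; exact ⟨rfl, rfl⟩

theorem actA (hg : g ∈ Nm (A3 m)) (x y : K) : ∃ x' y', g * m x 0 y * g⁻¹ = m x' 0 y' :=
  h.exA (conj_mem_of_Nm hg (h.mem_A.2 rfl))

/-- An element normalizing the two root subgroups is diagonal. -/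
theorem diag [Finite K] (h1 : ∀ a, ∃ a', g * m a 0 0 * g⁻¹ = m a' 0 0)
    (h2 : ∀ b, ∃ b', g * m 0 b 0 * g⁻¹ = m 0 b' 0) : ∃ c c' ρ, c ≠ 0 ∧ c' ≠ 0 ∧ Dg3 m g c c' ρ := by
  choose f hf using h1
  choose f' hf' using h2
  have k : ∀ a b, g * m 0 0 (a * b) * g⁻¹ = m 0 0 (f a * f' b) := fun a b => by
    have := conjugate_commutatorElement (m a 0 0) (m 0 b 0) g
    rw [hf, hf', h.comm, h.comm] at this
    simpa using this
  have n1 : f 1 ≠ 0 := fun e => by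
    have := hf 1
    rw [e, h.one, conj_eq_one_iff, h.eq_one] at this
    exact one_ne_zero this.1
  have n2 : f' 1 ≠ 0 := fun e => by
    have := hf' 1
    rw [e, h.one, conj_eq_one_iff, h.eq_one] at this
    exact one_ne_zero this.2.1
  obtain ⟨ρ, e1, e2⟩ := semi (f := f) (f' := f') (fun x y => by
      have := hf (x + y)
      rw [show m (x + y) 0 0 = m x 0 0 * m y 0 0 by simp [h.mul], ← conj_mul, hf, hf, h.mul] at this
      exact (h.inj this).1.symm) n1 n2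
    fun a b => (h.inj ((k a b).symm.trans (by rw [← k, mul_one]))).2.2
  refine ⟨_, _, ρ, n1, n2, fun a b z => ?_⟩
  rw [show m a b z = m 0 b 0 * m 0 0 (z * 1) * m a 0 0 by simp [h.mul], ← conj_mul, ← conj_mul, hf, hf', k,
    h.mul, h.mul, e1 a, e2 b, e1 z]
  congr 1 <;> ring

end He

variable [Finite Ω] [Finite K] [CharP K 2]

/-- The spread lemma for `Aut_F(A)`. -/
theorem sp3 (hF : SatA 2 F) (h : He B m) (tw : Tw S B (A3 m) (A3' m) t)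
    (mv : ¬ Aut F (A3 m) ≤ Nm (Z3 m)) : ∃ φ : K →+ K,
    (∀ g ∈ Aut F (A3 m), g ∈ Nm (Z3 m) ∨ ∃ a, ∀ y, ∃ x, g * m 0 0 y * g⁻¹ = m x 0 (φ x + a * x)) ∧
    (∀ s, s ≠ 0 → ∃ g ∈ Aut F (A3 m), ∀ x y,
      g * m x 0 (y + φ x) * g⁻¹ = m (s⁻¹ * x) 0 (s * y + φ (s⁻¹ * x))) ∧
    ∃ g ∈ Aut F (A3 m), ∀ x y, g * m x 0 (y + φ x) * g⁻¹ = m y 0 (x + φ y) := by
  have := Fact.mk Nat.prime_two
  let R : Ω → H87.S4.A (K × K) → Prop := fun g γ => ∀ x y, g * m x 0 y * g⁻¹ = m (γ (x, y)).1 0 (γ (x, y)).2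
  have un : ∀ {x y x' y'}, m x 0 y = m x' 0 y' → (x, y) = (x', y') := fun e =>
    Prod.ext (h.inj e).1 (h.inj e).2.2
  obtain ⟨I, hI⟩ := exists_im 2 (H := Aut F (A3 m)) (R := R) (fun g hg => by
      choose f f' hf using actA h hg.1
      choose e e' he using actA h (inv_mem hg.1)
      refine ⟨mkA (fun v => (f v.1 v.2, f' v.1 v.2)) (fun v => (e v.1 v.2, e' v.1 v.2))
        (fun v v' => un ?_) (fun v => un ?_) (fun v => un ?_), hf⟩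
      · rw [← hf, show m (v + v').1 0 (v + v').2 = m v.1 0 v.2 * m v'.1 0 v'.2 by simp [h.mul], ← conj_mul,
          hf, hf, h.mul]
        simp
      · rw [← he, ← hf]; group
      · rw [← hf, ← he]; group)
    (fun g γ γ' r r' => LinearEquiv.ext fun v => un ((r v.1 v.2).symm.trans (r' v.1 v.2)))
    fun g _ g' _ γ γ' r r' x y => by
      rw [show g * g' * m x 0 y * (g * g')⁻¹ = g * (g' * m x 0 y * g'⁻¹) * g⁻¹ by group, r', r]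
      rfl
  have hp := tw.pp hF
  have hU : ∀ γ, γ ∈ I (B ⊔ Ct (A3 m)) ↔ ∃ a, ∀ x y, γ (x, y) = (x, y + a * x) := fun γ => by
    rw [hI.mem _ hp.1]
    constructor
    · rintro ⟨g, hg, r⟩
      obtain ⟨s, hs, c, hc, rfl⟩ := (mem_sup_Ct tw.B_Nm).1 hg
      obtain ⟨a, b, z, rfl⟩ := h.surj s hs
      refine ⟨b, fun x y => un ((r x y).symm.trans ?_)⟩
      rw [show m a b z * c * m x 0 y * (m a b z * c)⁻¹ = m a b z * (c * m x 0 y * c⁻¹) * (m a b z)⁻¹ by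
        group, conj_eq_of_Ct hc (h.mem_A.2 rfl), h.conj]
      congr 1
      simp [CharTwo.sub_eq_add, mul_comm]
    · rintro ⟨a, r⟩
      exact ⟨m 0 a 0, mem_sup_left (h.mem ..), fun x y => by rw [cY h, r, mul_comm x a]⟩
  have sy := hI.syl le_rfl hp (isPGroup_iff_forall.2 fun γ hγ => ⟨1, by
    obtain ⟨a, r⟩ := (hU γ).1 hγ
    refine LinearEquiv.ext fun ⟨x, y⟩ => ?_
    rw [pow_one, pow_two, H87.S4.A.mul_apply, r, r, add_assoc, CharTwo.add_self_eq_zero, add_zero,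
      H87.S4.A.one_apply]⟩)
  have nz : ∀ {g γ}, R g γ → (∀ y, (γ (0, y)).1 = 0) → g ∈ Nm (Z3 m) := fun r k =>
    nmZ h fun y => ⟨_, by rw [r, k]⟩
  obtain ⟨φ, a1, a2, γ, a3, a4⟩ := H10.S4.jobSP 2 K _ _ _ hU sy sy.1 (le_Nm _) (by
    obtain ⟨g, hg, h1⟩ := SetLike.not_le_iff_exists.1 mv
    obtain ⟨γ, r⟩ := hI.ex g hg
    exact ⟨γ, (hI.mem _ le_rfl _).2 ⟨g, hg, r⟩, not_forall.1 (mt (nz r) h1)⟩)
  refine ⟨φ, fun g hg => ?_, fun s hs => ?_, ?_⟩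
  · obtain ⟨γ, r⟩ := hI.ex g hg
    exact (a1 γ ((hI.mem _ le_rfl _).2 ⟨g, hg, r⟩)).imp (nz r) fun ⟨a, e⟩ => ⟨a, fun y => ⟨_, by
      rw [r, e]⟩⟩
  · obtain ⟨γ, b1, b2⟩ := a2 s hs
    obtain ⟨g, hg, r⟩ := (hI.mem _ le_rfl _).1 b1
    exact ⟨g, hg, fun x y => by rw [r, b2]⟩
  · obtain ⟨g, hg, r⟩ := (hI.mem _ le_rfl _).1 a3
    exact ⟨g, hg, fun x y => by rw [r, a4, CharTwo.neg_eq]⟩

section T3
variable (hK : 2 < Nat.card K) (hF : SatA 2 F) (h : T3 S B m t σ)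
include h

theorem memY {x : Ω} : x ∈ cj t (X3 m) ↔ ∃ b, x = m 0 b 0 := by
  rw [mem_cj_iff_exists]
  constructor
  · rintro ⟨y, hy, rfl⟩
    obtain ⟨a, rfl⟩ := h.he.exX hy
    exact ⟨_, h.actX a⟩
  · rintro ⟨b, rfl⟩
    exact ⟨m (σ b) 0 0, h.he.mem_X.2 ⟨rfl, rfl⟩, by rw [h.actX, h.sq]⟩

theorem dg3 (hg : g ∈ Nm (X3 m) ⊓ Nm (cj t (X3 m))) : ∃ c c' ρ, c ≠ 0 ∧ c' ≠ 0 ∧ Dg3 m g c c' ρ :=
  diag h.he (fun _ => h.he.exX (conj_mem_of_Nm hg.1 (h.he.mem_X.2 ⟨rfl, rfl⟩)))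
    fun b => (memY h).1 (conj_mem_of_Nm hg.2 ((memY h).2 ⟨b, rfl⟩))

theorem Dg3.sw (r : Dg3 m g c c' ρ) : Dg3 m (t * g * t⁻¹) (σ c') (σ c) ρ := fun a b z => by
  have k : t⁻¹ * m a b z * t = t * m a b z * t⁻¹ := by rw [inv_of_sq h.t2]
  rw [show t * g * t⁻¹ * m a b z * (t * g * t⁻¹)⁻¹ = t * (g * (t⁻¹ * m a b z * t) * g⁻¹) * t⁻¹ by group,
    k, h.act, r, h.act]
  simp only [map_mul, map_add, aut_comm σ ρ, h.sq]
  congr 1
  linear_combination σ c * σ c' * ρ a * ρ b * CharTwo.two_eq_zero (R := K)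

include hK hF

variable (hn : n ∈ Aut F (A3 m)) (sw : Sw3 m n)
include hn sw

theorem lin : ∃ a₀ : K, (∀ g ∈ Aut F (A3 m), g ∈ Nm (Z3 m) ∨
      ∃ a, ∀ y, ∃ x, g * m 0 0 y * g⁻¹ = m x 0 (x * a)) ∧
    ∀ s, s ≠ 0 → ∃ g ∈ Aut F (A3 m), ∀ x y,
      g * m x 0 (y + a₀ * x) * g⁻¹ = m (s⁻¹ * x) 0 (s * y + a₀ * (s⁻¹ * x)) := by
  have nn : n ∉ Nm (Z3 m) := fun r => one_ne_zero
    (h.he.mem_Z.1 (sw 0 1 ▸ conj_mem_of_Nm r (h.he.mem_Z.2 ⟨rfl, rfl⟩))).1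
  obtain ⟨φ, a1, a2, -⟩ := sp3 hF h.he (h.tw hK) fun r => nn (r hn)
  obtain ⟨a, ha⟩ := (a1 n hn).resolve_left nn
  have e : ∀ y, φ y = a * y := fun y => by
    obtain ⟨x, r⟩ := ha y
    obtain ⟨rfl, -, r⟩ := h.he.inj ((sw 0 y).symm.trans r)
    exact CharTwo.add_eq_zero.1 r.symm
  simp only [e] at a1 a2
  exact ⟨a, fun g hg => (a1 g hg).imp_right fun ⟨b, r⟩ => ⟨a + b, fun y => (r y).imp fun x k => by
    rw [k]; congr 1; ring⟩, a2⟩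

theorem adj (hg : g ∈ Aut F (A3 m)) (hZ : g ∈ Nm (Z3 m)) : ∃ b, m 0 b 0 * g ∈ Nm (X3 m) := by
  obtain ⟨-, a1, -⟩ := lin hK hF h hn sw
  obtain ⟨a, ha⟩ := (a1 _ (mul_mem hg hn)).resolve_left fun r => one_ne_zero (h.he.mem_Z.1
    (sw 0 1 ▸ conj_mem_of_Nm ((mul_mem_cancel_left hZ).1 r) (h.he.mem_Z.2 ⟨rfl, rfl⟩))).1
  refine ⟨a, nmX h.he fun y => (ha y).imp fun x r => ?_⟩
  rw [← sw 0 y, show m 0 a 0 * g * (n * m 0 0 y * n⁻¹) * (m 0 a 0 * g)⁻¹ =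
    m 0 a 0 * (g * n * m 0 0 y * (g * n)⁻¹) * (m 0 a 0)⁻¹ by group, r, cY h.he, CharTwo.add_self_eq_zero]

theorem fr : Fr F B (A3 m) (A3' m) (X3 m) t n := by
  have tw := h.tw hK
  have xa : X3 m ≤ A3 m := fun x hx => by
    obtain ⟨a, rfl⟩ := h.he.exX hx
    exact h.he.mem_A.2 rfl
  refine ⟨hF, tw, h.t2, xa, eq_bot_iff.2 fun x hx => ?_, fun e => ?_, hn, fun g hg => ?_, fun g hg r => ?_⟩
  · obtain ⟨a, rfl⟩ := h.he.exX hx.1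
    rw [h.he.mem_A'.1 hx.2, h.he.one]
    exact one_mem _
  · exact one_ne_zero (h.he.eq_one.1 (mem_bot.1 (e.le ((h.he.mem_X (a := 1)).2 ⟨rfl, rfl⟩)))).1
  · obtain ⟨-, a1, -⟩ := lin hK hF h hn sw
    rw [h.he.inf_eq]
    refine (a1 g hg).imp_right fun ⟨a, ha⟩ => ⟨m 0 a 0, h.he.mem .., nmZ h.he fun y => (ha y).imp fun x r => ?_⟩
    rw [show n * m 0 a 0 * g * m 0 0 y * (n * m 0 a 0 * g)⁻¹ =
      n * (m 0 a 0 * (g * m 0 0 y * g⁻¹) * (m 0 a 0)⁻¹) * n⁻¹ by group, r, cY h.he, CharTwo.add_self_eq_zero, sw]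
  · have k : ∀ g ∈ Aut F B, g ∈ Nm (A3 m) → ∃ b, m 0 b 0 * g ∈ Nm (X3 m) := fun g hg r =>
      adj hK hF h hn sw (mem_Aut_of_le hg tw.BS tw.AB r)
        (h.he.inf_eq ▸ mem_Nm_inf r (tw.nmA' hg.1 r))
    have tB : t ∈ Aut F B := Nm_le_Aut F B ⟨h.tS, tw.t_Nm⟩
    obtain ⟨b, hb⟩ := k g hg r
    obtain ⟨a, ha⟩ := k _ (mul_mem (mul_mem tB hg) (inv_mem tB))
      (tw.sw' ▸ conj_mem_Nm_cj t (tw.nmA' hg.1 r))
    have h1 := conj_mem_Nm_cj t ha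
    rw [← conj_mul, h.actY, show t * (t * g * t⁻¹) * t⁻¹ = t * t * g * (t * t)⁻¹ by group, h.t2, one_mul,
      inv_one, mul_one] at h1
    refine ⟨m (σ a) 0 0 * m 0 b 0, mul_mem (h.he.mem ..) (h.he.mem ..), ?_, ?_⟩
    · rw [mul_assoc]
      exact mul_mem (le_Nm _ (h.he.mem_X.2 ⟨rfl, rfl⟩)) hb
    · rw [show m (σ a) 0 0 * m 0 b 0 * g = m (σ a) 0 0 * m 0 b 0 * (m (σ a) 0 0)⁻¹ * (m (σ a) 0 0 * g) by group]
      refine mul_mem (Ct_le_Nm _ (mem_Ct'.2 fun x hx => ?_)) h1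
      obtain ⟨y, rfl⟩ := (memY h).1 hx
      rw [h.he.conj]
      exact h.he.comm_iff.2 (by simp)

theorem pp3 : PP3 σ (P3 F B m) := by
  have := Fact.mk Nat.prime_two
  have tw := h.tw hK
  have tB : t ∈ Aut F B := Nm_le_Aut F B ⟨h.tS, tw.t_Nm⟩
  have hs : ∀ c c' ρ, P3 F B m c c' ρ → P3 F B m (σ c') (σ c) ρ := fun c c' ρ ⟨a1, a2, g, a3, a4⟩ =>
    ⟨(map_ne_zero σ).2 a2, (map_ne_zero σ).2 a1, _,
      M.of_Aut (mul_mem (mul_mem tB (tw.autB a3)) (inv_mem tB)) tw.BS, Dg3.sw h a4⟩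
  have ht : ∀ s, s ≠ 0 → P3 F B m s⁻¹ (s ^ 2) 1 := fun s h0 => by
    obtain ⟨a₀, -, a2⟩ := lin hK hF h hn sw
    obtain ⟨d, hd, r⟩ := a2 s h0
    obtain ⟨k, hk, e⟩ := tw.ext hF hd (h.he.inf_eq ▸ nmZ h.he fun y => ⟨s * y, by simpa using r 0 y⟩)
    have r' : ∀ x y, k * m x 0 y * k⁻¹ = d * m x 0 y * d⁻¹ := fun x y =>
      conj_eq_iff_Ct.2 e _ (h.he.mem_A.2 rfl)
    obtain ⟨b, hb, e2⟩ := (fr hK hF h hn sw).dg k hk (by
      simpa using mul_mem hd.1 (Ct_le_Nm _ e))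
    obtain ⟨c, c', ρ, -, -, e3⟩ := dg3 h e2
    obtain ⟨b1, b2, b3, rfl⟩ := h.he.surj b hb
    have e4 : ∀ x y, c * ρ x = s⁻¹ * x ∧ (x = 0 → c * c' * ρ y = s * y) := fun x y => by
      have := e3 x 0 (y + a₀ * x)
      rw [show m b1 b2 b3 * k * m x 0 (y + a₀ * x) * (m b1 b2 b3 * k)⁻¹ =
        m b1 b2 b3 * (k * m x 0 (y + a₀ * x) * k⁻¹) * (m b1 b2 b3)⁻¹ by group, r', r, h.he.conj] at this
      exact ⟨(h.he.inj this).1.symm, fun e => by simpa [e] using (h.he.inj this).2.2.symm⟩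
    obtain rfl : c = s⁻¹ := by simpa using (e4 1 0).1
    obtain rfl : ρ = 1 := RingEquiv.ext fun x => mul_left_cancel₀ (inv_ne_zero h0) (e4 x 0).1
    obtain rfl : c' = s ^ 2 := by
      have := (e4 0 1).2 rfl
      rw [map_one] at this
      field_simp at this
      exact this
    exact ⟨inv_ne_zero h0, pow_ne_zero 2 h0, _,
      M.of_Aut (mul_mem (le_Aut F tw.BS (h.he.mem ..)) hk) tw.BS, e3⟩
  refine ⟨fun _ _ _ r => ⟨r.1, r.2.1⟩, fun c c' ρ d d' τ ⟨a1, a2, g, a3, a4⟩ ⟨b1, b2, g', b3, b4⟩ =>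
    ⟨mul_ne_zero a1 ((map_ne_zero ρ).2 b1), mul_ne_zero a2 ((map_ne_zero ρ).2 b2), _,
      M.of_Aut (mul_mem (tw.autB a3) (tw.autB b3)) tw.BS, Dg3.mul a4 b4⟩, fun s h0 => ⟨ht s h0, ?_⟩, hs,
    fun c c' ρ ⟨_, _, g, a3, a4⟩ => ?_⟩
  · simpa [h.sq] using hs _ _ _ (ht (σ s) ((map_ne_zero σ).2 h0))
  have hg := tw.autB a3
  have gA : g ∈ Nm (A3 m) := mem_Nm_of_conj fun x hx => by
    obtain ⟨a, z, rfl⟩ := h.he.exA hx
    rw [a4, h.he.mem_A]; simp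
  obtain ⟨u, v, hu, hv, ⟨j, hj⟩, hc, e⟩ := exists_parts 2 g
  have pw : ∀ i : ℕ, ∃ c c', Dg3 m (g ^ i) c c' (ρ ^ i) := fun i => by
    induction i with
    | zero => exact ⟨1, 1, fun a b z => by simp⟩
    | succ i ih =>
      obtain ⟨_, _, r⟩ := ih
      exact ⟨_, _, by rw [pow_succ, pow_succ]; exact Dg3.mul r a4⟩
  have uB : u ∈ B ⊔ Ct B := by
    obtain ⟨a, ha, r⟩ := (tw.ppB hF).exists_cj_le (Y := zpowers u)
      (isPGroup_iff_forall.2 fun x ⟨i, e⟩ => ⟨j, by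
        rw [← e, ← zpow_natCast, ← zpow_mul, mul_comm, zpow_mul, zpow_natCast, hj, one_zpow]⟩)
      (zpowers_le.2 (zpowers_le.2 hg hu))
    obtain ⟨s, hs, z, hz, e⟩ := (mem_sup_Ct tw.S_Nm).1 (r (conj_mem_cj a (mem_zpowers u)))
    have h1 : u ∈ Nm (A3 m) := zpowers_le.2 gA hu
    have h2 : u ∈ Nm (A3' m) := tw.nmA' (zpowers_le.2 hg.1 hu) h1
    have h3 : a * u * a⁻¹ ∈ Nm (A3 m) := by
      rcases tw.perm ((cj_eq_of_Aut ha).le.trans tw.BS) with k | k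
      · exact mul_mem (mul_mem k.1 h1) (inv_mem k.1)
      · exact k.2 ▸ conj_mem_Nm_cj a h2
    have h4 : s ∈ B := tw.nm_A.le ⟨hs, (mul_mem_cancel_right (Ct_le_Nm _ (Ct_anti tw.AB hz))).1 (e ▸ h3)⟩
    have h5 := conj_mem_of_Nm' (mem_Nm_sup ha.1 (mem_Nm_Ct ha.1)) (mul_mem (mem_sup_left h4) (mem_sup_right hz))
    rwa [e, show a⁻¹ * (a * u * a⁻¹) * a = u by group] at h5
  have hc' : Commute u v := by
    obtain ⟨i, rfl⟩ := hu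
    obtain ⟨i', rfl⟩ := hv
    exact (Commute.refl g).zpow_zpow i i'
  have h6 : g ^ orderOf v ∈ B ⊔ Ct B := by
    rw [e, hc'.mul_pow, pow_orderOf_eq_one, mul_one]
    exact pow_mem uB _
  obtain ⟨c, c', r⟩ := pw (orderOf v)
  obtain ⟨b, hb, z, hz, e⟩ := (mem_sup_Ct (le_Nm B)).1 h6
  obtain ⟨b1, b2, b3, rfl⟩ := h.he.surj b hb
  have e4 : ∀ x, c * (ρ ^ orderOf v) x = x := fun x => by
    have := r x 0 0
    rw [← e, show m b1 b2 b3 * z * m x 0 0 * (m b1 b2 b3 * z)⁻¹ =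
      m b1 b2 b3 * (z * m x 0 0 * z⁻¹) * (m b1 b2 b3)⁻¹ by group, conj_eq_of_Ct hz (h.he.mem ..),
      h.he.conj] at this
    exact (h.he.inj this).1.symm
  obtain rfl : c = 1 := by simpa using e4 1
  exact (Nat.coprime_two_right.1 hc).of_dvd_nat (orderOf_dvd_of_pow_eq_one
    (RingEquiv.ext fun x => (one_mul _).symm.trans (e4 x)))

end T3

theorem autA (h : He B m) (hn : M F (A3 m) n) (sw : Sw3 m n) : n ∈ Aut F (A3 m) :=
  hn.mem_Aut (mem_Nm_of_conj fun x hx => by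
    obtain ⟨a, z, rfl⟩ := h.exA hx
    rw [sw, h.mem_A])

theorem jobFr3 : JobFr3.{u} := fun _ _ _ _ _ _ _ _ _ _ _ _ _ hK s =>
  ⟨fun _ hn sw => fr hK s.sat s.t3 (autA s.t3.he hn sw) sw,
    let ⟨_, hn, sw⟩ := s.n; pp3 hK s.sat s.t3 (autA s.t3.he hn sw) sw, fun _ => dg3 s.t3⟩

end H10.HM
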