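import Cfsg.Agent.H10.HmFr3
import Cfsg.Agent.H29.S4P2

/-! Tower HM: the job `JobFr4`. -/

set_option autoImplicit false
set_option linter.unusedSectionVars false

namespace H10.HM
open Cfsg Cfsg.FusionSystem H92 H93 Subgroup H87.HM H1.F2
open H87.S4 (Co)
open scoped commutatorElement

universe u

variable {Ω : Type u} [Group Ω] {S B A A' A₀ : Subgroup Ω} {F : FusionSystem S} {g g' n t : Ω}
  {K : Type} [Field K] {α β α' β' : K} {σ ρ τ : RingAut K} {m : K → K → K → K → Ω}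

theorem dg_of [Finite Ω] (tw : Tw S B A A' t) (t2 : t * t = 1) (le : A₀ ≤ A)
    (k : ∀ g ∈ Aut F B, g ∈ Nm A → ∃ s ∈ A', s * g ∈ Nm A₀) (hg : g ∈ Aut F B) (r : g ∈ Nm A) :
    ∃ b ∈ B, b * g ∈ Nm A₀ ⊓ Nm (cj t A₀) := by
  have tB : t ∈ Aut F B := Nm_le_Aut F B ⟨tw.tS, tw.t_Nm⟩
  obtain ⟨b, hb, h0⟩ := k g hg r
  obtain ⟨a, ha, h1⟩ := k _ (mul_mem (mul_mem tB hg) (inv_mem tB)) (tw.sw' ▸ conj_mem_Nm_cj t (tw.nmA' hg.1 r))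
  replace h1 := conj_mem_Nm_cj t h1
  rw [← conj_mul, show t * (t * g * t⁻¹) * t⁻¹ = t * t * g * (t * t)⁻¹ by group, t2, one_mul,
    inv_one, mul_one] at h1
  replace ha := tw.symm.conj_mem ha
  generalize t * a * t⁻¹ = a at ha h1
  refine ⟨a * b, mul_mem (tw.AB ha) (tw.AB' hb), ?_, ?_⟩
  · rw [mul_assoc]
    exact mul_mem (Ct_le_Nm _ (Ct_anti le (le_Ct_of_sq tw.eA ha))) h0
  · rw [show a * b * g = a * b * a⁻¹ * (a * g) by group]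
    exact mul_mem (Ct_le_Nm _ (Ct_anti ((cj_mono t le).trans tw.sw.le)
      (le_Ct_of_sq tw.eA' (conj_mem_of_Nm (tw.A_Nm ha) hb)))) h1

theorem Dg4.mul (h1 : Dg4 m g α β ρ) (h2 : Dg4 m g' α' β' τ) :
    Dg4 m (g * g') (α * ρ α') (β * ρ β') (ρ * τ) := fun c y w a => by
  rw [show g * g' * m c y w a * (g * g')⁻¹ = g * (g' * m c y w a * g'⁻¹) * g⁻¹ by group, h2, h1]
  simp only [RingAut.mul_apply, map_mul, map_pow]
  congr 1 <;> ring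

theorem Dg4.inv (h : Dg4 m g α β ρ) (h1 : α ≠ 0) (h2 : β ≠ 0) :
    Dg4 m g⁻¹ (ρ.symm α⁻¹) (ρ.symm β⁻¹) ρ⁻¹ := fun c y w a => by
  rw [inv_inv, mul_assoc, inv_mul_eq_iff_eq_mul, ← eq_mul_inv_iff_mul_eq, h]
  change m _ _ _ _ = m (β * ρ (_ * ρ.symm _)) (_ * ρ (_ * ρ.symm _)) (_ * ρ (_ * ρ.symm _)) (_ * ρ (_ * ρ.symm _))
  simp only [map_mul, map_pow, RingEquiv.apply_symm_apply]
  congr 1 <;> field_simp

theorem dg4_of (h : Co B m) (h1 : ∀ c, g * m c 0 0 0 * g⁻¹ = m (β * ρ c) 0 0 0)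
    (h2 : ∀ y, g * m 0 y 0 0 * g⁻¹ = m 0 (α * β * ρ y) 0 0)
    (h3 : ∀ w, g * m 0 0 w 0 * g⁻¹ = m 0 0 (α ^ 2 * β * ρ w) 0)
    (h4 : ∀ a, g * m 0 0 0 a * g⁻¹ = m 0 0 0 (α * ρ a)) : Dg4 m g α β ρ := fun c y w a => by
  rw [show m c y w a = m c 0 0 0 * m 0 y 0 0 * m 0 0 w 0 * m 0 0 0 a by simp [h.mul], ← conj_mul, ← conj_mul,
    ← conj_mul, h1, h2, h3, h4]
  simp [h.mul]

theorem exX4 (h : Co B m) {x : Ω} (hx : x ∈ X4 m) : ∃ a, x = m 0 0 0 a := by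
  induction hx using closure_induction with
  | mem x hx => exact hx
  | one => exact ⟨0, h.one.symm⟩
  | mul x y _ _ h1 h2 =>
    obtain ⟨a, rfl⟩ := h1
    obtain ⟨b, rfl⟩ := h2
    exact ⟨a + b, by simp [h.mul]⟩
  | inv x _ h1 =>
    obtain ⟨a, rfl⟩ := h1
    exact ⟨-a, by simp [h.inv]⟩

theorem memX4 (a : K) : m 0 0 0 a ∈ X4 m := subset_closure ⟨a, rfl⟩

theorem cm4 (h : Co B m) (a c : K) : ⁅m 0 0 0 a, m c 0 0 0⁆ = m 0 (a * c) 0 0 * m 0 0 (a ^ 2 * c) 0 := by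
  rw [commutatorElement_def, h.conj, h.inv, h.mul, h.mul]
  simp

variable [Finite Ω] [Finite K] [CharP K 2]

section T4
variable (hF : SatA 2 F) (h : T4 S B m t σ)
include h

theorem memV4 {x : Ω} : x ∈ cj t (X4 m) ↔ ∃ c, x = m c 0 0 0 := by
  rw [mem_cj_iff_exists]
  constructor
  · rintro ⟨y, hy, rfl⟩
    obtain ⟨a, rfl⟩ := exX4 h.co hy
    exact ⟨_, h.actX a⟩
  · rintro ⟨b, rfl⟩
    exact ⟨_, memX4 (σ b), by rw [h.actX, h.fr]⟩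

theorem Dg4.sw (r : Dg4 m g α β ρ) : Dg4 m (t * g * t⁻¹) (σ β) (σ α ^ 2) ρ := by
  have k : ∀ x, t * g * t⁻¹ * x * (t * g * t⁻¹)⁻¹ = t * (g * (t * x * t⁻¹) * g⁻¹) * t⁻¹ := fun x => by
    rw [show t * x * t⁻¹ = t⁻¹ * x * t by rw [inv_of_sq h.t2]]; group
  have e : ∀ x, σ (ρ (σ x)) ^ 2 = ρ x := fun x => by rw [← aut_comm σ ρ, h.fr]
  refine dg4_of h.co (fun c => ?_) (fun c => ?_) (fun c => ?_) fun c => ?_
  · rw [k, h.actV, r]; simp [h.actX, mul_pow, e]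
  · rw [k, h.actY, r]; simp [h.actY, e, mul_comm]
  · rw [k, h.actY, r]; simp [h.actY, mul_pow, e, mul_comm]
  · rw [k, h.actX, r]; simp [h.actV, e]

include hF
variable (hn : n ∈ Aut F (h.co.Q 0)) (sw : Sw4 m n)
include hn sw

theorem nz4 : Aut F (h.co.Q 0) ≤ Nm h.co.Z := by
  have sw' : Sw (e2 m) n := fun x y w => sw y w x
  rcases (sd2 h.co).line (Aut_le_Nm F _) (h.tw.pp hF) (fun r => (sd2 h.co).not_nm sw' (r hn))
    H29.S4.jobP2 with r | r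
  · exact r.1
  · obtain ⟨y, e⟩ := r.1 n hn 1
    exact absurd (congrArg Prod.fst ((sd2 h.co).inj ((sw' ..).symm.trans e))) one_ne_zero

theorem lines (hg : g ∈ Aut F B) (r : g ∈ Nm (h.co.Q 0)) : (∀ y, ∃ y', g * m 0 y 0 0 * g⁻¹ = m 0 y' 0 0) ∧
    ∀ w, ∃ w', g * m 0 0 w 0 * g⁻¹ = m 0 0 w' 0 := by
  have tw := h.tw
  have k : ∀ g ∈ Aut F B, g ∈ Nm (h.co.Q 0) → ∀ w, ∃ w', g * m 0 0 w 0 * g⁻¹ = m 0 0 w' 0 := fun g hg r w =>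
    h.co.exZ (conj_mem_of_Nm (nz4 hF h hn sw (mem_Aut_of_le hg tw.BS tw.AB r)) (h.co.mem_Z.2 ⟨rfl, rfl, rfl⟩))
  have tB : t ∈ Aut F B := Nm_le_Aut F B ⟨tw.tS, tw.t_Nm⟩
  refine ⟨fun y => ?_, k g hg r⟩
  obtain ⟨w, e⟩ := k _ (mul_mem (mul_mem tB hg) (inv_mem tB)) (tw.sw' ▸ conj_mem_Nm_cj t (tw.nmA' hg.1 r)) (σ y ^ 2)
  have e1 := h.actY y 0
  have e2 := h.actY 0 w
  simp only [map_zero, zero_pow two_ne_zero] at e1 e2
  refine ⟨σ w, ?_⟩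
  rw [← e2, ← e, ← e1, show t * (t * g * t⁻¹ * (t * m 0 y 0 0 * t⁻¹) * (t * g * t⁻¹)⁻¹) * t⁻¹ =
    t * t * (g * m 0 y 0 0 * g⁻¹) * (t * t)⁻¹ by group, h.t2]
  group

theorem dg4 (hg : g ∈ Aut F B) (r : g ∈ Nm (X4 m) ⊓ Nm (cj t (X4 m))) :
    ∃ α β ρ, α ≠ 0 ∧ β ≠ 0 ∧ Dg4 m g α β ρ := by
  have co := h.co
  choose f hf using fun a => exX4 co (conj_mem_of_Nm r.1 (memX4 a))
  choose f' hf' using fun c => (memV4 h).1 (conj_mem_of_Nm r.2 ((memV4 h).2 ⟨c, rfl⟩))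
  have n1 : f 1 ≠ 0 := fun e => by
    have := hf 1
    rw [e, co.one, conj_eq_one_iff, co.eq_one] at this
    exact one_ne_zero this.2.2.2
  have n2 : f' 1 ≠ 0 := fun e => by
    have := hf' 1
    rw [e, co.one, conj_eq_one_iff, co.eq_one] at this
    exact one_ne_zero this.1
  have gA : g ∈ Nm (h.co.Q 0) := ((h.tw.perm ((cj_eq_of_Aut hg).le.trans h.BS)).resolve_right fun k =>
    n1 (h.co.mem_V.1 (hf 1 ▸ k.1.le (conj_mem_cj g (h.co.mem_Q.2 (zero_mul _).symm))))).1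
  obtain ⟨l1, l2⟩ := lines hF h hn sw hg gA
  choose f3 h3 using l1
  choose f4 h4 using l2
  have k : ∀ a c, f3 (a * c) = f a * f' c ∧ f4 (a ^ 2 * c) = f a ^ 2 * f' c := fun a c => by
    have := conjugate_commutatorElement (m 0 0 0 a) (m c 0 0 0) g
    rw [hf, hf', cm4 co, cm4 co, ← conj_mul, h3, h4, co.mul, co.mul] at this
    simpa using co.inj this
  obtain ⟨ρ, e1, e2⟩ := semi (f := f) (f' := f') (fun x y => by
      have := hf (x + y)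
      rw [show m 0 0 0 (x + y) = m 0 0 0 x * m 0 0 0 y by simp [co.mul], ← conj_mul, hf, hf, co.mul] at this
      exact (co.inj this).2.2.2.symm) n1 n2
    fun a b => by rw [← (k _ _).1, ← (k _ _).1, mul_one]
  refine ⟨_, _, ρ, n1, n2, dg4_of co (fun c => by rw [hf', e2 c]) (fun y => ?_) (fun w => ?_)
    fun a => by rw [hf, e1 a]⟩
  · rw [h3, ← one_mul y, (k 1 y).1, e2 y, one_mul, mul_assoc]
  · rw [h4, ← one_mul w, ← one_pow 2, (k 1 w).2, e2 w, one_pow, one_mul, mul_assoc]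

theorem wy4 : (∀ g ∈ Aut F (h.co.Q 0), g ∈ Nm h.co.Y ∨ ∃ s ∈ h.co.V, n * s * g ∈ Nm h.co.Y) ∧
    ∀ s, s ≠ 0 → ∃ d ∈ Aut F (h.co.Q 0), ∃ δ, R (e2 m) d δ ∧ (∀ x y w, (δ (x, y, w)).1 = s⁻¹ * x) ∧
      (∀ y w, (δ (0, y, w)).2.1 = s * y) ∧ ∀ w, δ (0, 0, w) = (0, 0, w) := by
  have nn := (sd2 h.co).not_nm fun x y w => sw y w x
  obtain ⟨-, a1, a2⟩ := (sd2 h.co).weyl (Aut_le_Nm F _) (h.tw.pp hF) (fun r => nn (r hn))
    H10.S4.jobSP H29.S4.jobW (nz4 hF h hn sw)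
  exact ⟨a1 n hn nn, a2⟩

theorem fr4 : Fr F B (h.co.Q 0) h.co.V (X4 m) t n := by
  have tw := h.tw
  have co := h.co
  have xa : X4 m ≤ h.co.Q 0 := fun x hx => by
    obtain ⟨a, rfl⟩ := exX4 co hx
    exact h.co.mem_Q.2 (zero_mul _).symm
  have br := (wy4 hF h hn sw).1
  refine ⟨hF, tw, h.t2, xa, eq_bot_iff.2 fun x hx => ?_, fun e => ?_, hn, fun g hg => ?_,
    fun g => dg_of tw h.t2 xa fun g hg r => ?_⟩
  · obtain ⟨a, rfl⟩ := exX4 co hx.1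
    rw [h.co.mem_V.1 hx.2, co.one]
    exact one_mem _
  · exact one_ne_zero (co.eq_one.1 (mem_bot.1 (e.le (memX4 1)))).2.2.2
  · rw [h.inf_eq]
    exact (br g hg).imp_right fun ⟨s, hs, r⟩ => ⟨s, tw.AB' hs, r⟩
  · have gA := mem_Aut_of_le hg tw.BS tw.AB r
    obtain ⟨s, hs, r1⟩ := (br _ (mul_mem gA hn)).resolve_left fun r1 => (sd2 h.co).not_nm (fun x y w => sw y w x)
      ((mul_mem_cancel_left (h.inf_eq ▸ mem_Nm_inf r (tw.nmA' hg.1 r))).1 r1)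
    have r2 := mul_mem (mul_mem hn (Nm_le_Aut F _ ⟨tw.AS' hs, tw.B_Nm (tw.AB' hs)⟩)) (mul_mem gA hn)
    obtain ⟨k, hk, e⟩ := tw.ext hF r2 (h.inf_eq ▸ r1)
    refine ⟨s, hs, mem_Nm_of_conj fun x hx => ?_⟩
    obtain ⟨y, rfl⟩ := exX4 co hx
    obtain ⟨y', e1⟩ := (lines hF h hn sw hk (mul_inv_cancel_left _ k ▸ mul_mem r2.1 (Ct_le_Nm _ e))).1 y
    rw [conj_eq_iff_Ct.2 e _ (h.co.mem_Q.2 (mul_zero _).symm), ← sw 0 0 y', show n * s * (g * n) * m 0 y 0 0 *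
      (n * s * (g * n))⁻¹ = n * (s * g * (n * m 0 y 0 0 * n⁻¹) * (s * g)⁻¹) * n⁻¹ by group, sw] at e1
    rw [mul_left_cancel (mul_right_cancel e1)]
    exact memX4 y'

theorem tor4 (h1 : α ≠ 0) (h2 : β ≠ 0) : ∃ g ∈ Aut F B, Dg4 m g α β 1 := by
  have tw := h.tw
  have co := h.co
  have tB : t ∈ Aut F B := Nm_le_Aut F B ⟨tw.tS, tw.t_Nm⟩
  have ht : ∀ s, s ≠ 0 → ∃ g ∈ Aut F B, Dg4 m g s⁻¹ (s ^ 2) 1 := fun s h0 => by
    obtain ⟨d, hd, δ, r, a1, a2, -⟩ := (wy4 hF h hn sw).2 s h0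
    obtain ⟨k, hk, e⟩ := tw.ext hF hd (h.inf_eq ▸ ((sd2 h.co).py_iff r).1 fun y w => by rw [a1, mul_zero])
    obtain ⟨b, hb, e2⟩ := (fr4 hF h hn sw).dg k hk (by simpa using mul_mem hd.1 (Ct_le_Nm _ e))
    have hg := mul_mem (le_Aut F tw.BS hb) hk
    obtain ⟨c, c', ρ, -, -, e3⟩ := dg4 hF h hn sw hg e2
    obtain ⟨b1, b2, b3, b4, rfl⟩ := co.surj b hb
    have e4 : ∀ x y, c * ρ x = s⁻¹ * x ∧ (x = 0 → c * c' * ρ y = s * y) := fun x y => by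
      have := e3 0 y 0 x
      rw [show m b1 b2 b3 b4 * k * m 0 y 0 x * (m b1 b2 b3 b4 * k)⁻¹ =
        m b1 b2 b3 b4 * (k * m 0 y 0 x * k⁻¹) * (m b1 b2 b3 b4)⁻¹ by group,
        conj_eq_iff_Ct.2 e _ (h.co.mem_Q.2 (zero_mul _).symm), show d * m 0 y 0 x * d⁻¹ = _ from r (x, y, 0),
        H1.F2.e2, co.conj, a1] at this
      exact ⟨(co.inj this).2.2.2.symm, fun e => by simpa [e, a2] using (co.inj this).2.1.symm⟩
    obtain rfl : c = s⁻¹ := by simpa using (e4 1 0).1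
    obtain rfl : ρ = 1 := RingEquiv.ext fun x => mul_left_cancel₀ (inv_ne_zero h0) (e4 x 0).1
    obtain rfl : c' = s ^ 2 := by
      have := (e4 0 1).2 rfl
      rw [map_one] at this
      field_simp at this
      exact this
    exact ⟨_, hg, e3⟩
  obtain ⟨g, hg, r⟩ := ht _ (mul_ne_zero h1 h2)
  obtain ⟨g', hg', r'⟩ := ht _ ((map_ne_zero σ).2 (mul_ne_zero (pow_ne_zero 2 h1) h2))
  refine ⟨_, mul_mem hg (mul_mem (mul_mem tB hg') (inv_mem tB)), ?_⟩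
  have := Dg4.mul r (Dg4.sw h r')
  rw [map_pow, h.fr, map_inv₀, inv_pow, h.fr, mul_one, RingAut.one_apply, RingAut.one_apply] at this
  convert this using 1 <;> field_simp

end T4

theorem jobFr4 : JobFr4.{u} := by
  intro K _ _ _ Ω _ _ S B F m t σ s
  have aA : ∀ {n}, M F (s.t4.co.Q 0) n → Sw4 m n → n ∈ Aut F (s.t4.co.Q 0) := fun hn sw =>
    hn.mem_Aut ((sd2 s.t4.co).nm_of_sw fun x y w => sw y w x)
  obtain ⟨n, hn, sw⟩ := s.n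
  have tw := s.t4.tw
  have tor := fun {α β} => tor4 (α := α) (β := β) s.sat s.t4 (aA hn sw) sw
  refine ⟨fun _ hn sw => fr4 s.sat s.t4 (aA hn sw) sw, ⟨{
    carrier := {ρ | ∃ α β, α ≠ 0 ∧ β ≠ 0 ∧ ∃ g ∈ Aut F B, Dg4 m g α β ρ}
    one_mem' := ⟨1, 1, one_ne_zero, one_ne_zero, tor one_ne_zero one_ne_zero⟩
    mul_mem' := fun {ρ _} ⟨_, _, a1, a2, _, a3, a4⟩ ⟨_, _, b1, b2, _, b3, b4⟩ =>
      ⟨_, _, mul_ne_zero a1 ((map_ne_zero ρ).2 b1), mul_ne_zero a2 ((map_ne_zero ρ).2 b2), _, mul_mem a3 b3,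
        Dg4.mul a4 b4⟩
    inv_mem' := fun {ρ} ⟨_, _, a1, a2, _, a3, a4⟩ => ⟨_, _, (map_ne_zero ρ.symm).2 (inv_ne_zero a1),
      (map_ne_zero ρ.symm).2 (inv_ne_zero a2), _, inv_mem a3, Dg4.inv a4 a1 a2⟩ }, fun α β ρ h1 h2 =>
    ⟨fun ⟨g, a1, a2⟩ => ⟨α, β, h1, h2, g, tw.autB a1, a2⟩, fun ⟨α', β', a1, a2, g, a3, a4⟩ => ?_⟩⟩,
    fun _ => dg4 s.sat s.t4 (aA hn sw) sw⟩
  obtain ⟨g', b1, b2⟩ := tor (div_ne_zero h1 a1) (div_ne_zero h2 a2)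
  refine ⟨_, M.of_Aut (mul_mem b1 a3) tw.BS, ?_⟩
  have := Dg4.mul b2 a4
  rwa [RingAut.one_apply, RingAut.one_apply, div_mul_cancel₀ _ a1, div_mul_cancel₀ _ a2, one_mul] at this

end H10.HM
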