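import Cfsg.Agent.H10.HmFr3

/-! Tower HM: the job `JobS3` (normalized Heisenberg coordinates). -/

set_option autoImplicit false
set_option linter.unusedSectionVars false

namespace H10.HM
open Cfsg Cfsg.FusionSystem H92 H93 Subgroup H92.Es H87.HM
open scoped commutatorElement

universe u

variable {Ω : Type u} [Group Ω] {S B : Subgroup Ω} {F : FusionSystem S} {g g' n t : Ω}
  {K : Type} [Field K] {c c' d d' l s : K} {σ : RingAut K} {m : K → K → K → Ω}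

theorem shift3 (h : He B m) (hl : l ≠ 0) (φ ψ : K →+ K) :
    He B fun a b c => m a (l * b) (l * c + φ a + ψ b) where
  mem _ _ _ := h.mem ..
  surj g hg := by
    obtain ⟨a, b, c, rfl⟩ := h.surj g hg
    refine ⟨a, l⁻¹ * b, l⁻¹ * (c - φ a - ψ (l⁻¹ * b)), ?_⟩
    rw [mul_inv_cancel_left₀ hl, mul_inv_cancel_left₀ hl]
    congr 1; ring
  mul a b c a' b' c' := by
    rw [h.mul]
    congr 1
    · ring
    · simp only [map_add]; ring
  inj r := by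
    obtain ⟨rfl, h2, h3⟩ := h.inj r
    obtain rfl := mul_left_cancel₀ hl h2
    exact ⟨rfl, rfl, mul_left_cancel₀ hl (by simpa using h3)⟩

theorem eq_of_he (h : He B m) {P Q : Subgroup Ω} (h1 : P ≤ B) (h2 : Q ≤ B)
    (h3 : ∀ a b c, m a b c ∈ P ↔ m a b c ∈ Q) : P = Q := Subgroup.ext fun g => ⟨fun hg => by
  obtain ⟨a, b, c, rfl⟩ := h.surj g (h1 hg)
  exact (h3 ..).1 hg, fun hg => by
  obtain ⟨a, b, c, rfl⟩ := h.surj g (h2 hg)
  exact (h3 ..).2 hg⟩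

/-- `T3` without the condition `t² = 1` -/
structure W3 (S B : Subgroup Ω) (m : K → K → K → Ω) (t : Ω) (σ : RingAut K) : Prop where
  he : He B m
  tw : Tw S B (A3 m) (A3' m) t
  act : ∀ a b c, t * m a b c * t⁻¹ = m (σ b) (σ a) (σ (c + a * b))
  t2 : ∃ ζ, t * t = m 0 0 ζ

/-- the action on the layers -/
def Lay (m : K → K → K → Ω) (g : Ω) (c c' : K) : Prop :=
  (∀ a b z, ∃ z', g * m a b z * g⁻¹ = m (c * a) (c' * b) z') ∧ ∀ z, g * m 0 0 z * g⁻¹ = m 0 0 (c * c' * z)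

theorem Lay.mul (h : Lay m g c c') (h' : Lay m g' d d') : Lay m (g * g') (c * d) (c' * d') := by
  have k : ∀ x, g * g' * x * (g * g')⁻¹ = g * (g' * x * g'⁻¹) * g⁻¹ := fun x => by group
  refine ⟨fun a b z => ?_, fun z => by rw [k, h'.2, h.2]; congr 1; ring⟩
  obtain ⟨z', e⟩ := h'.1 a b z
  obtain ⟨z'', e'⟩ := h.1 (d * a) (d' * b) z'
  exact ⟨z'', by rw [k, e, e', mul_assoc, mul_assoc]⟩

theorem Lay.inv (he : He B m) (hg : g ∈ Nm B) (h : Lay m g c c') (h1 : c ≠ 0) (h2 : c' ≠ 0) :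
    Lay m g⁻¹ c⁻¹ c'⁻¹ := by
  refine ⟨fun a b z => ?_, fun z => ?_⟩
  · obtain ⟨a', b', z', e⟩ := he.surj _ (conj_mem_of_Nm (inv_mem hg) (he.mem a b z))
    obtain ⟨z'', e'⟩ := h.1 a' b' z'
    rw [← e, show g * (g⁻¹ * m a b z * g⁻¹⁻¹) * g⁻¹ = m a b z by group] at e'
    obtain ⟨rfl, rfl, -⟩ := he.inj e'
    exact ⟨z', by rw [e, inv_mul_cancel_left₀ h1, inv_mul_cancel_left₀ h2]⟩
  · rw [show z = c * c' * (c⁻¹ * c'⁻¹ * z) by field_simp, ← h.2,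
      show c⁻¹ * c'⁻¹ * (c * c' * (c⁻¹ * c'⁻¹ * z)) = c⁻¹ * c'⁻¹ * z by field_simp]
    group

variable [Finite Ω] [Finite K] [CharP K 2]

theorem Lay.st (he : He B m) (h : Lay m g 1 1) : g ∈ St B [A3 m ⊓ A3' m] := by
  rw [he.inf_eq]
  refine ⟨⟨nmZ he fun y => ⟨_, h.2 y⟩, fun x hx => ?_⟩, mem_Ct.2 fun x hx => ?_⟩
  · obtain ⟨a, b, z, rfl⟩ := he.surj x hx
    obtain ⟨z', e⟩ := h.1 a b z
    rw [e, he.inv, he.mul, he.mem_Z]
    simp
  · obtain ⟨z, rfl⟩ := he.exZ hx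
    simpa using h.2 z

theorem w3_of (h : He B m) (tw : Tw S B (A3 m) (A3' m) t) (t2 : t * t ∈ Z3 m) {f : K → K} (f1 : f 1 = 1)
    (hf : ∀ a, t * m a 0 0 * t⁻¹ = m 0 (f a) 0) : ∃ σ, W3 S B m t σ := by
  have k1 : ∀ a, t * m 0 (f a) 0 * t⁻¹ = m a 0 0 := fun a => by
    rw [← hf, show t * (t * m a 0 0 * t⁻¹) * t⁻¹ = t * t * m a 0 0 * (t * t)⁻¹ by group,
      conj_eq_of_Ct (tw.Z_Ct (h.inf_eq ▸ t2)) (h.mem ..)]
  have k2 : ∀ a b, t * m 0 0 (a * f b) * t⁻¹ = m 0 0 (b * f a) := fun a b => by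
    have := conjugate_commutatorElement (m a 0 0) (m 0 (f b) 0) t
    rw [hf, k1, h.comm, h.comm] at this
    simpa [CharTwo.neg_eq] using this
  have k3 : ∀ a, t * m 0 0 a * t⁻¹ = m 0 0 (f a) := fun a => by simpa [f1] using k2 a 1
  have k4 : ∀ a b, f (a * f b) = b * f a := fun a b => (h.inj ((k3 _).symm.trans (k2 a b))).2.2
  have k5 : ∀ b, f (f b) = b := fun b => by simpa [f1] using k4 1 b
  refine ⟨⟨⟨f, f, k5, k5⟩, fun a b => ?_, fun x y => ?_⟩, h, tw, fun a b c => ?_, h.exZ t2⟩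
  · simpa [k5, mul_comm] using k4 a (f b)
  · have := hf (x + y)
    rw [show m (x + y) 0 0 = m x 0 0 * m y 0 0 by simp [h.mul], ← conj_mul, hf, hf, h.mul] at this
    exact (h.inj this).2.1.symm
  · have k6 := k3 (c + a * b)
    rw [show m 0 0 (c + a * b) = m 0 0 c * m 0 0 (a * f (f b)) by simp [h.mul, k5], ← conj_mul, k3, k2,
      h.mul] at k6
    rw [show m a b c = m 0 (f (f b)) 0 * m 0 0 c * m a 0 0 by simp [h.mul, k5], ← conj_mul, ← conj_mul, k1, k3,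
      hf, h.mul, h.mul]
    change _ = m (f b) (f a) (f (c + a * b))
    rw [← (h.inj k6).2.2]
    simp

theorem norm1 (p : Pre3 F B m t) : ∃ (m' : K → K → K → Ω) (t' : Ω) (σ : RingAut K), W3 S B m' t' σ ∧
    (∃ n ∈ Aut F (A3 m'), Sw3 m' n) ∧ (t' ∈ Ct (Z3 m') → t ∈ Ct (Z3 m)) := by
  have h := p.he
  obtain ⟨a₀, ha, e⟩ := p.tw.exists_sq
  have s1 : a₀ * t ∈ S := mul_mem (p.tw.AS ha) p.tw.tS
  have s2 : a₀ * t ∉ B := fun r => p.tw.t_not ((mul_mem_cancel_left (p.tw.AB ha)).1 r)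
  have tw := p.tw.change s1 s2
  have ct := (p.tw.ct_out s1 s2).1
  generalize a₀ * t = t' at e tw ct
  obtain ⟨φ, -, a2, n, hn, a3⟩ := sp3 p.sat h p.tw p.mv
  choose f f' hf using fun a => h.exA' (tw.conj_mem ((h.mem_A (a := a) (c := φ a)).2 rfl))
  have ad : ∀ x y, f (x + y) = f x + f y ∧ f' (x + y) = f' x + f' y := fun x y => by
    have := hf (x + y)
    rw [show m (x + y) 0 (φ (x + y)) = m x 0 (φ x) * m y 0 (φ y) by simp [h.mul], ← conj_mul, hf, hf,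
      h.mul] at this
    exact ⟨(h.inj this).2.1.symm, by simpa using (h.inj this).2.2.symm⟩
  let f₀ : K →+ K := AddMonoidHom.mk' f fun x y => (ad x y).1
  have inj : Function.Injective f₀ := (injective_iff_map_eq_zero f₀).2 fun a r => by_contra fun k =>
    tw.conj_not_mem (mt h.mem_A'.1 k) (hf a ▸ h.mem_A.2 r)
  let E := AddEquiv.ofBijective f₀ (Finite.injective_iff_bijective.1 inj)
  have hl : f 1 ≠ 0 := fun r => one_ne_zero (inj (r.trans (map_zero f₀).symm))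
  let ψ : K →+ K := (AddMonoidHom.mk' f' fun x y => (ad x y).2).comp
    (E.symm.toAddMonoidHom.comp (AddMonoidHom.mulLeft (f 1)))
  have h' := shift3 h hl φ ψ
  have e1 := eq_of_he h' h'.A_le h.A_le fun a b c => by simp [h'.mem_A, h.mem_A, hl]
  have e2 := eq_of_he h' h'.A'_le h.A'_le fun a b c => by simp [h'.mem_A', h.mem_A']
  have e3 := h'.inf_eq.symm.trans ((congrArg₂ (· ⊓ ·) e1 e2).trans h.inf_eq)
  obtain ⟨σ, w⟩ := w3_of h' (e1 ▸ e2 ▸ tw) (by rw [e3, ← h.inf_eq]; exact e) (f := fun a => (f 1)⁻¹ * f a)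
    (inv_mul_cancel₀ hl) fun a => by
      have k : ψ ((f 1)⁻¹ * f a) = f' a := by
        change f' (E.symm (f 1 * ((f 1)⁻¹ * f a))) = f' a
        rw [mul_inv_cancel_left₀ hl]
        exact congrArg f' (E.symm_apply_apply a)
      simp only [mul_zero, map_zero, zero_add, add_zero, k, mul_inv_cancel_left₀ hl, hf]
  obtain ⟨d, hd, a4⟩ := a2 _ hl
  refine ⟨_, t', σ, w, ⟨d * n, e1 ▸ mul_mem hd hn, fun a z => ?_⟩, fun r => ?_⟩
  · simp only [mul_zero, map_zero, add_zero]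
    rw [show ∀ x, d * n * x * (d * n)⁻¹ = d * (n * x * n⁻¹) * d⁻¹ from fun x => by group, a3, a4,
      inv_mul_cancel_left₀ hl]
  · rw [← h.inf_eq]
    exact ct (by rwa [h.inf_eq, ← e3])

namespace W3
variable (w : W3 S B m t σ)
include w

theorem actZ (c : K) : t * m 0 0 c * t⁻¹ = m 0 0 (σ c) := by simpa using w.act 0 0 c

theorem sq_eq {ξ ζ : K} (e : t * t = m 0 0 ζ) : m 0 0 ξ * t * (m 0 0 ξ * t) = m 0 0 (ξ + σ ξ + ζ) := by
  rw [show m 0 0 ξ * t * (m 0 0 ξ * t) = m 0 0 ξ * (t * m 0 0 ξ * t⁻¹) * (t * t) by group, w.actZ, e,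
    w.he.mul, w.he.mul]
  simp

theorem t3 {ξ ζ : K} (e : t * t = m 0 0 ζ) (r : ξ + σ ξ + ζ = 0) : T3 S B m (m 0 0 ξ * t) σ := by
  have s1 : m 0 0 ξ * t ∈ S := mul_mem (w.tw.BS (w.he.mem ..)) w.tw.tS
  have tw := w.tw.change s1 fun r => w.tw.t_not ((mul_mem_cancel_left (w.he.mem ..)).1 r)
  refine ⟨w.he, tw.two, tw.BS, s1, tw.idx, by rw [w.sq_eq e, r, w.he.one], fun a b c => ?_⟩
  rw [show m 0 0 ξ * t * m a b c * (m 0 0 ξ * t)⁻¹ = m 0 0 ξ * (t * m a b c * t⁻¹) * (m 0 0 ξ)⁻¹ by group,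
    w.act, w.he.conj]
  simp

end W3

theorem Lay.sw (w : W3 S B m t 1) (h : Lay m g c c') : Lay m (t * g * t⁻¹) c' c := by
  have k : ∀ a b z, t * g * t⁻¹ * m a b z * (t * g * t⁻¹)⁻¹ = t * (g * m b a (z + a * b) * g⁻¹) * t⁻¹ :=
    fun a b z => by
      have := w.act b a (z + a * b)
      simp only [RingAut.one_apply, mul_comm b a, add_assoc, CharTwo.add_self_eq_zero, add_zero] at this
      rw [← this]; group
  refine ⟨fun a b z => ?_, fun z => ?_⟩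
  · obtain ⟨z', e⟩ := h.1 b a (z + a * b)
    exact ⟨_, by rw [k, e, w.act]; rfl⟩
  · rw [k, mul_zero, add_zero, h.2, w.actZ, mul_comm c]; rfl

theorem exists_ne (hK : 2 < Nat.card K) : ∃ s : K, s ≠ 0 ∧ s ≠ 1 := by
  by_contra k
  push Not at k
  have := Nat.card_le_card_of_surjective (fun b : Bool => if b then (1 : K) else 0) fun s => by
    by_cases h : s = 0
    exacts [⟨false, h.symm⟩, ⟨true, (k s h).symm⟩]
  simp at this
  omega

theorem sq_ne (h : s ≠ 1) : s * s + 1 ≠ 0 := fun r => h (CharTwo.add_eq_zero.1 (pow_eq_zero_iff two_ne_zero |>.1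
  (by rw [CharTwo.add_sq]; linear_combination r)))

theorem zeta (hK : 2 < Nat.card K) (hF : SatA 2 F) (w : W3 S B m t 1) (mv : ¬ Aut F (A3 m) ≤ Nm (Z3 m)) :
    t * t = m 0 0 0 := by
  have h := w.he
  have tw := w.tw
  obtain ⟨ζ, e⟩ := w.t2
  obtain ⟨s, h0, h1⟩ := exists_ne hK
  obtain ⟨φ, -, a2, -⟩ := sp3 hF h tw mv
  obtain ⟨d, hd, r⟩ := a2 s h0
  obtain ⟨k, hk, e1⟩ := tw.ext hF hd (h.inf_eq ▸ nmZ h fun y => ⟨s * y, by simpa using r 0 y⟩)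
  have r' : ∀ x y, k * m x 0 y * k⁻¹ = d * m x 0 y * d⁻¹ := fun x y =>
    conj_eq_iff_Ct.2 e1 _ (h.mem_A.2 rfl)
  have r1 : ∀ x, ∃ z, k * m x 0 0 * k⁻¹ = m (s⁻¹ * x) 0 z := fun x => ⟨_, by
    rw [r', ← r x (φ x), CharTwo.add_self_eq_zero]⟩
  have r2 : ∀ z, k * m 0 0 z * k⁻¹ = m 0 0 (s * z) := fun z => by simpa [r'] using r 0 z
  have kA : k ∈ Nm (A3' m) := tw.nmA' hk.1 (by simpa using mul_mem hd.1 (Ct_le_Nm _ e1))
  have l1 : Lay m k s⁻¹ (s * s) := by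
    refine ⟨fun a b z => ?_, fun z => by rw [r2, inv_mul_cancel_left₀ h0]⟩
    obtain ⟨b', z', e2⟩ := h.exA' (conj_mem_of_Nm kA ((h.mem_A' (b := b) (c := z)).2 rfl))
    obtain ⟨y, e3⟩ := r1 a
    obtain ⟨y', e4⟩ := r1 1
    have := conjugate_commutatorElement (m 1 0 0) (m 0 b z) k
    rw [e2, e4, h.comm, h.comm, r2] at this
    obtain rfl : b' = s * s * b := by
      have := (h.inj this).2.2
      field_simp at this
      linear_combination -this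
    exact ⟨_, by rw [h.dec, ← conj_mul, e2, e3, h.mul, zero_add, add_zero]⟩
  have tB : t ∈ Aut F B := Nm_le_Aut F B ⟨tw.tS, tw.t_Nm⟩
  have l2 := l1.mul (l1.sw w)
  rw [inv_mul_cancel_left₀ h0, mul_inv_cancel_right₀ h0] at l2
  have hg : k * (t * k * t⁻¹) ∈ Aut F B := mul_mem hk (mul_mem (mul_mem tB hk) (inv_mem tB))
  generalize k * (t * k * t⁻¹) = g at l2 hg
  have hg' := mul_mem (mul_mem tB hg) (inv_mem tB)
  have l3 := l2.mul ((l2.sw w).inv h hg'.1 h0 h0)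
  rw [mul_inv_cancel₀ h0] at l3
  obtain ⟨j, hj, e2⟩ := tw.extS hF hg (by
    have := tw.stB hF (mul_mem hg (inv_mem hg')) (l3.st h)
    rwa [show g * (t * g * t⁻¹)⁻¹ = ⁅g, t⁆ by rw [commutatorElement_def]; group] at this)
  obtain ⟨x, hx, e3⟩ := tw.out (conj_mem_of_Nm hj.1 tw.tS) fun r => tw.t_not (by
    simpa [mul_assoc] using conj_mem_of_Nm' (tw.autS hj).1 r)
  obtain ⟨a, b, z, rfl⟩ := h.surj x hx
  have e4 : j * (t * t) * j⁻¹ = m a b z * (t * m a b z * t⁻¹) * (t * t) := by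
    rw [← conj_mul, e3]; group
  rw [e, conj_eq_iff_Ct.2 e2 _ (h.mem ..), l2.2, w.act, h.mul, h.mul] at e4
  obtain ⟨e5, -, e6⟩ := h.inj e4
  simp only [RingAut.one_apply] at e5 e6
  rw [e, (mul_eq_zero.1 (show (s * s + 1) * ζ = 0 by
    linear_combination e6 - a * e5 + (z + ζ) * CharTwo.two_eq_zero (R := K))).resolve_left (sq_ne h1)]

theorem cm_ct (h : T3 S B m t 1) (tN : t ∈ Nm B) (hg : g ∈ Nm B) (r : Dg3 m g s s 1) : ⁅g, t⁆ ∈ Ct B := by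
  have := conj_mem_Ct_of_Nm (mul_mem (mul_mem tN hg) (inv_mem tN)) (conj_eq_iff_Ct.1 fun x hx => by
    obtain ⟨a, b, z, rfl⟩ := h.he.surj x hx
    exact (r a b z).trans (Dg3.sw h r a b z).symm)
  convert this using 1
  rw [commutatorElement_def]; group

theorem jobS3 : JobS3.{u} := by
  intro hFr K _ _ _ Ω _ _ S B F m₀ t₀ hK p
  obtain ⟨m, t, σ, w, ⟨n, hn, sw⟩, ct⟩ := norm1 p
  have h := w.he
  have hn' := M.of_Aut hn w.tw.AS
  by_cases h1 : σ = 1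
  swap
  · obtain ⟨ζ, e⟩ := w.t2
    have e1 : σ ζ = ζ := (h.inj ((w.actZ ζ).symm.trans (by rw [← e]; group))).2.2
    have e2 : ∀ x, σ (σ x) = x := fun x => by
      have := conj_eq_of_Ct (w.tw.Z_Ct (h.inf_eq ▸ e ▸ h.mem_Z.2 ⟨rfl, rfl⟩)) (h.mem 0 0 x)
      rw [show t * t * m 0 0 x * (t * t)⁻¹ = t * (t * m 0 0 x * t⁻¹) * t⁻¹ by group, w.actZ, w.actZ] at this
      exact (h.inj this).2.2
    obtain ⟨l, hl⟩ := exists_trace e2 h1
    exact ⟨m, _, σ, ⟨⟨p.sat, w.t3 (ξ := l * ζ) e (by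
      rw [map_mul, e1, ← add_mul, hl, one_mul, CharTwo.add_self_eq_zero]), n, hn', sw⟩,
      fun r => absurd r h1⟩, fun r => absurd r h1⟩
  subst h1
  have e := zeta hK p.sat w fun r => one_ne_zero
    (h.mem_Z.1 (sw 0 1 ▸ conj_mem_of_Nm (r hn) (h.mem_Z.2 ⟨rfl, rfl⟩))).1
  have t3 := w.t3 (ξ := 0) e (by simp)
  rw [h.one, one_mul] at t3
  have tw := w.tw
  have pp := (hFr K Ω S B F m t 1 hK ⟨p.sat, t3, n, hn', sw⟩).2.1
  have ex : ∀ s, s ≠ 0 → ∃ k ∈ Aut F S, Dg3 m k s s 1 ∧ ∃ y, k * t * k⁻¹ = m 0 0 y * t := fun s h0 => by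
    obtain ⟨-, -, g, a1, a2⟩ := pp.mul _ _ _ _ _ _ (pp.tor s h0).1 (pp.tor s h0).2
    simp only [RingAut.one_apply, mul_one, sq, inv_mul_cancel_left₀ h0, mul_inv_cancel_right₀ h0] at a2
    have hg := tw.autB a1
    obtain ⟨k, hk, e1⟩ := tw.extS p.sat hg (mem_sup_right (cm_ct t3 tw.t_Nm hg.1 a2))
    have a3 : Dg3 m k s s 1 := fun a b z => (conj_eq_iff_Ct.2 e1 _ (h.mem ..)).trans (a2 a b z)
    obtain ⟨y, e2⟩ := h.exZ (h.inf_eq ▸ tw.cenB.le ⟨mul_mem (conj_mem_of_Nm hk.1 tw.tS) (S.inv_mem tw.tS),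
      cm_ct t3 tw.t_Nm (tw.autS hk).1 a3⟩)
    exact ⟨k, hk, a3, y, by rw [← e2]; group⟩
  obtain ⟨s₀, h0, h1⟩ := exists_ne hK
  obtain ⟨k₀, b1, b2, y₀, b3⟩ := ex s₀ h0
  have h2 := sq_ne h1
  refine ⟨m, m 0 0 (y₀ / (s₀ * s₀ + 1)) * t, 1, ⟨⟨p.sat, w.t3 e (by simp [CharTwo.add_self_eq_zero]), n, hn', sw⟩,
    fun _ s hs => ?_⟩, fun _ => ct (mem_Ct.2 fun x hx => ?_)⟩
  · obtain ⟨k, a1, a2, y, a3⟩ := ex s hs
    refine ⟨k, M.of_Aut a1 le_rfl, a2, ?_⟩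
    have z1 : ∀ {k s y} (ξ : K), Dg3 m k s s 1 → k * t * k⁻¹ = m 0 0 y * t →
        k * (m 0 0 ξ * t) * k⁻¹ = m 0 0 (s * s * ξ + y) * t := fun ξ r r' => by
      rw [← conj_mul, r, r', ← mul_assoc, h.mul]
      simp
    obtain ⟨z, hz, e1⟩ := p.sat.eq_of_centric (tw.centricB p.sat) tw.BS (M.of_Aut (mul_mem a1 b1) le_rfl)
      (M.of_Aut (mul_mem b1 a1) le_rfl) (conj_eq_iff_Ct.1 fun x hx => by
        obtain ⟨a, b, z, rfl⟩ := h.surj x hx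
        rw [Dg3.mul a2 b2, Dg3.mul b2 a2]
        simp [mul_comm s])
    obtain ⟨v, rfl⟩ := h.exZ (h.inf_eq ▸ tw.cenB.le ⟨tw.BS hz.1, hz.2⟩)
    have e2 := conj_eq_iff_Ct.2 e1 t tw.tS
    have e3 : m 0 0 v * t * (m 0 0 v)⁻¹ = t := by
      have := w.actZ v
      rw [RingAut.one_apply, mul_inv_eq_iff_eq_mul] at this
      rw [← this]; group
    rw [show k₀ * k * t * (k₀ * k)⁻¹ = k₀ * (k * t * k⁻¹) * k₀⁻¹ by group,
      show k * k₀ * m 0 0 v * t * (k * k₀ * m 0 0 v)⁻¹ = k * (k₀ * (m 0 0 v * t * (m 0 0 v)⁻¹) * k₀⁻¹) * k⁻¹ by group,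
      e3, a3, b3, z1 _ b2 b3, z1 _ a2 a3] at e2
    have e4 := (h.inj (mul_right_cancel e2)).2.2
    have e5 := z1 (y₀ / (s₀ * s₀ + 1)) a2 a3
    rw [show s * s * (y₀ / (s₀ * s₀ + 1)) + y = y₀ / (s₀ * s₀ + 1) by
      apply mul_right_cancel₀ h2
      rw [add_mul, mul_assoc (s * s), div_mul_cancel₀ _ h2]
      linear_combination -e4 + s₀ * s₀ * y * CharTwo.two_eq_zero (R := K)] at e5
    exact mul_inv_eq_iff_eq_mul.1 e5
  · obtain ⟨z, rfl⟩ := h.exZ hx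
    exact w.actZ z

end H10.HM
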