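import Cfsg.Agent.H41.ItSpec
import Cfsg.Agent.H4.Product
import Cfsg.Agent.S0143

/-! Tower IT, job SZ: factorisation facts for two maximal centraliser orders. -/

set_option autoImplicit false

namespace H10.ISZ
open Subgroup H41.IT

universe u

variable {G : Type u} [Group G]

theorem C_ne_top [IsSimpleGroup G] (hG : ¬ IsMulCommutative G) {g : G} (hg : g ≠ 1) :
    C g ≠ ⊤ := by
  intro h
  have hz : g ∈ center G := by
    rw [mem_center_iff]
    intro a
    have ha : a ∈ C g := h ▸ mem_top a
    exact (mem_centralizer_singleton_iff.1 ha)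
  rcases (inferInstance : (center G).Normal).eq_bot_or_eq_top with h1 | h1
  · rw [h1] at hz
    exact hg (mem_bot.1 hz)
  · apply hG
    refine ⟨⟨fun a b => ?_⟩⟩
    have : b ∈ center G := h1 ▸ mem_top b
    exact mem_center_iff.1 this a

theorem index_dvd [Finite G] {g h : G} (hd : c g ∣ c h) : (C h).index ∣ (C g).index := by
  obtain ⟨m, hm⟩ := hd
  have h1 : c g * (C g).index = Nat.card G := (C g).card_mul_index
  have h2 : c h * (C h).index = Nat.card G := (C h).card_mul_index
  have hp : 0 < c g := Nat.card_pos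
  refine ⟨m, Nat.eq_of_mul_eq_mul_left hp ?_⟩
  rw [h1, ← h2, hm]
  ring

theorem index_eq [Finite G] {g h : G} (hd : c g = c h) : (C g).index = (C h).index :=
  Nat.dvd_antisymm (index_dvd (hd ▸ dvd_rfl)) (index_dvd (hd ▸ dvd_rfl))

theorem exists_index_not_dvd [Finite G] {l : ℕ} (hl : l.Prime) (hd : l ∣ Nat.card G) :
    ∃ z : G, z ≠ 1 ∧ ¬ l ∣ (C z).index := by
  have := Fact.mk hl
  obtain ⟨P⟩ : Nonempty (Sylow l G) := inferInstance
  have hP : (P : Subgroup G) ≠ ⊥ := P.ne_bot_of_dvd_card hd
  have : Nontrivial (P : Subgroup G) := (nontrivial_iff_ne_bot _).2 hP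
  have := P.isPGroup'.center_nontrivial
  obtain ⟨⟨z, hz⟩, hz1⟩ := exists_ne (1 : center (P : Subgroup G))
  refine ⟨(z : G), fun h => hz1 (Subtype.ext (Subtype.ext h)), fun h => ?_⟩
  have hle : (P : Subgroup G) ≤ C (z : G) := by
    intro a ha
    rw [mem_centralizer_singleton_iff]
    exact congrArg Subtype.val (mem_center_iff.1 hz ⟨a, ha⟩)
  exact P.not_dvd_index (h.trans (index_dvd_of_le hle))

theorem jobSZ : JobSZ.{u} := by
  intro G _ _ _ hG x y hK
  have cop : (C x).index.Coprime (C y).index := by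
    refine Nat.Coprime.symm (Nat.coprime_of_dvd fun l hl hy hx => ?_)
    obtain ⟨z, hz1, hz⟩ := exists_index_not_dvd (G := G) hl (hx.trans (C x).index_dvd_card)
    rcases hK.cov z hz1 with h | h
    · exact hz (hx.trans (index_dvd h))
    · exact hz (hy.trans (index_dvd h))
  refine ⟨cop, ?_, ?_, ?_⟩
  · intro x' y' hx1 hy1 hx hy hc
    have cop' : (C y').index.Coprime (C x').index := by
      rw [index_eq hx, index_eq hy]
      exact cop.symm
    have hle : normalClosure ({x'} : Set G) ≤ C y' := by
      rw [normalClosure, closure_le]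
      intro w hw
      obtain ⟨a, ha, hw'⟩ := Group.mem_conjugatesOfSet_iff.1 hw
      rw [Set.mem_singleton_iff] at ha
      subst ha
      obtain ⟨g, rfl⟩ := isConj_iff.1 hw'
      obtain ⟨b, hb, e, he, rfl⟩ := H4.exists_mul_of_coprime_index cop' g
      have h1 : e * a = a * e := mem_centralizer_singleton_iff.1 he
      have h2 : b * e * a * (b * e)⁻¹ = b * a * b⁻¹ := by
        rw [mul_assoc b e a, h1]
        group
      rw [h2]
      have h3 : a ∈ C y' := mem_centralizer_singleton_iff.2 hc.eq
      exact (C y').mul_mem ((C y').mul_mem hb h3) ((C y').inv_mem hb)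
    rcases (inferInstance : (normalClosure ({x'} : Set G)).Normal).eq_bot_or_eq_top with h | h
    · have : x' ∈ normalClosure ({x'} : Set G) := subset_normalClosure rfl
      rw [h] at this
      exact hx1 (mem_bot.1 this)
    · exact C_ne_top hG hy1 (top_le_iff.1 (h ▸ hle))
  · intro N hN hy
    have hle : normalClosure (N : Set G) ≤ C x := by
      rw [normalClosure, closure_le]
      intro w hw
      obtain ⟨a, ha, hw'⟩ := Group.mem_conjugatesOfSet_iff.1 hw
      obtain ⟨g, rfl⟩ := isConj_iff.1 hw'
      obtain ⟨b, hb, e, he, rfl⟩ := H4.exists_mul_of_coprime_index cop g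
      have h1 : e * a * e⁻¹ ∈ N := (mem_normalizer_iff.1 (hy he) a).1 ha
      have h2 : b * e * a * (b * e)⁻¹ = b * (e * a * e⁻¹) * b⁻¹ := by group
      rw [h2]
      exact (C x).mul_mem ((C x).mul_mem hb (hN h1)) ((C x).inv_mem hb)
    rcases (inferInstance : (normalClosure (N : Set G)).Normal).eq_bot_or_eq_top with h | h
    · exact le_bot_iff.1 (h ▸ le_normalClosure)
    · exact absurd (top_le_iff.1 (h ▸ hle)) (C_ne_top hG hK.x1)
  · intro p k hp h
    have hpr := Cfsg.Agent.S0143.result p k hp x hK.x1 h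
    have := Fact.mk hpr
    have : IsCyclic G := isCyclic_of_prime_card rfl
    exact hG inferInstance

end H10.ISZ
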