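import Cfsg.Agent.H10.KgSD
import Cfsg.Agent.H33.SolvC3

/-! Lower bounds for class numbers: imprimitive modules. -/

set_option autoImplicit false

namespace H10.Kg

open Subgroup Finset H33.Solv
open scoped commutatorElement

universe u

theorem card_dvd_gl {H W : Type*} [Group H] [AddCommGroup W] [Finite W] [DistribMulAction H W]
    [FaithfulSMul H W] {r s : ℕ} (hr : r.Prime) (h2 : ∀ w : W, r • w = 0)
    (h : Nat.card W = r ^ s) : Nat.card H ∣ ∏ i ∈ range s, (r ^ s - r ^ i) := by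
  have := Fact.mk hr
  obtain ⟨m, ⟨e⟩⟩ := exists_equiv_pi hr h2
  obtain rfl : m = s := by
    rw [Nat.card_congr e.toEquiv, Nat.card_fun, Nat.card_zmod, Nat.card_fin] at h
    exact Nat.pow_right_injective hr.two_le h
  let f : H →* Module.End (ZMod r) (Fin m → ZMod r) :=
    { toFun := fun g => (e.toAddMonoidHom.comp ((DistribSMul.toAddMonoidHom W g).comp
        e.symm.toAddMonoidHom)).toZModLinearMap r
      map_one' := LinearMap.ext fun w => by simp
      map_mul' := fun a b => LinearMap.ext fun w => by simp [mul_smul] }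
  have := card_dvd_of_injective f.toHomUnits fun a b h => eq_of_smul_eq_smul (α := W) fun w => by
    simpa [f] using LinearMap.congr_fun (congrArg Units.val h) (e w)
  rwa [← Nat.card_congr Matrix.GeneralLinearGroup.toLin.toEquiv, Matrix.card_GL_field, ZMod.card,
    Fin.prod_univ_eq_prod_range fun i => r ^ m - r ^ i] at this

theorem gl_pos {r s : ℕ} (hr : r.Prime) : 0 < ∏ i ∈ range s, (r ^ s - r ^ i) :=
  prod_pos fun _ hi => Nat.sub_pos_of_lt (Nat.pow_lt_pow_right hr.one_lt (mem_range.1 hi))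

/-- The order of a solvable primitive group. -/
theorem core_index {G : Type u} [Group G] [Finite G] (hs : Group.IsSolvable G)
    {H : Subgroup G} (hH : IsCoatom H) : ∃ r s k : ℕ, r.Prime ∧ H.index = r ^ s ∧
      H.normalCore.index = H.index * k ∧ k ≤ H.index ^ 3 ∧ k ≤ ∏ i ∈ range s, (r ^ s - r ^ i) := by
  let f := QuotientGroup.mk' H.normalCore
  have hf : Function.Surjective f := QuotientGroup.mk'_surjective _
  have hk : f.ker ≤ H := by rw [QuotientGroup.ker_mk']; exact H.normalCore_le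
  have hc : (H.map f).comap f = H := comap_map_eq_self hk
  by_contra hn
  obtain ⟨χ, h1, -⟩ := col_of_aff_core (H := H.map f) (c := 0) inferInstance
    ⟨fun e => hH.1 (by rw [← hc, e, comap_top]), fun K hK => by
      rw [← map_comap_eq_self_of_surjective hf K, hH.2 (K.comap f) (hc.ge.trans_lt (lt_of_le_of_ne
        (comap_mono hK.le) fun e => hK.ne (comap_injective hf e))), map_top_of_surjective f hf]⟩
    (fun x hx => by
      obtain ⟨x, rfl⟩ := hf x
      exact (QuotientGroup.eq_one_iff x).2 fun g => hc ▸ hx (f g))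
    fun M _ _ _ _ _ e1 e2 hi => (hn (by
      obtain ⟨r, hr, -, hM⟩ := hi.exists_prime
      obtain ⟨s, hs⟩ := card_eq_pow hr hM
      rw [index_map_eq H hf hk] at e2
      refine ⟨r, s, Nat.card (H.map f), hr, e2 ▸ hs, ?_, e2 ▸ card_le_of_base
        (seress inferInstance hi.cr), Nat.le_of_dvd (gl_pos hr) (card_dvd_gl hr hM hs)⟩
      rw [← index_map_eq H hf hk, index_mul_card, index])).elim
  exact Nat.not_lt_zero _ (h1 1)

theorem pow_bound {n a b c : ℕ} (hb : (a + 1) ^ n ≤ 11 * a ^ n) (h : b * a ^ n ≤ c * 11 ^ a) :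
    ∀ m, a ≤ m → 0 < a → b * m ^ n ≤ c * 11 ^ m := fun m hm h0 => by
  induction m, hm using Nat.le_induction with
  | base => exact h
  | succ m hm ih =>
    have : (m + 1) ^ n ≤ 11 * m ^ n := by
      refine Nat.le_of_mul_le_mul_right ?_ (pow_pos h0 n)
      calc _ = ((m + 1) * a) ^ n := (mul_pow _ _ _).symm
        _ ≤ ((a + 1) * m) ^ n := Nat.pow_le_pow_left (by nlinarith) n
        _ ≤ _ := by rw [mul_pow, mul_right_comm]; gcongr
    calc _ ≤ b * (11 * m ^ n) := by gcongr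
      _ = 11 * (b * m ^ n) := by ring
      _ ≤ 11 * (c * 11 ^ m) := by gcongr
      _ = _ := by ring

theorem core_arith {r s k m : ℕ} (hr : r.Prime) (e : m = r ^ s) (h2 : 2 ≤ m) (h3 : k ≤ m ^ 3)
    (h4 : k ≤ ∏ i ∈ range s, (r ^ s - r ^ i)) : 121 * (m * k) ^ 2 ≤ 5 * 11 ^ m := by
  rcases Nat.lt_or_ge m 9 with h | h
  · have h5 : s < 4 := by
      by_contra h5
      have := Nat.pow_le_pow_right hr.pos (Nat.le_of_not_lt h5)
      have := Nat.pow_le_pow_left hr.two_le 4
      omega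
    have h6 : r < 9 := by
      rcases s with _ | s
      · rw [e, pow_zero] at h2; omega
      · exact (Nat.le_self_pow s.succ_ne_zero r).trans_lt (e ▸ h)
    refine (Nat.mul_le_mul_left _ (Nat.pow_le_pow_left (Nat.mul_le_mul_left m h4) 2)).trans ?_
    subst e
    clear h3 h4
    revert hr h2 h
    interval_cases s <;> interval_cases r <;> decide
  · refine le_trans ?_ (pow_bound (n := 8) (a := 9) (b := 121) (by decide) (by decide) m h
      (by decide))
    calc _ ≤ 121 * (m * m ^ 3) ^ 2 := by gcongr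
      _ = _ := by ring

variable {G V : Type*} [Group G] [AddCommGroup V] [DistribMulAction G V] {e : V →+ V}
  {K : Subgroup G}

theorem coord [Fintype (G ⧸ K)] (h1 : ∀ v, e (e v) = e v) (h3 : ∀ g ∉ K, ∀ v, e (g • e v) = 0)
    (f : G ⧸ K → e.range) (ω : G ⧸ K) : e (ω.out⁻¹ • ∑ ω', ω'.out • (f ω' : V)) = f ω := by
  rw [smul_sum, map_sum, sum_eq_single ω (fun ω' _ h => ?_) (by simp)]
  · obtain ⟨v, hv⟩ := (f ω).2
    rw [inv_smul_smul, ← hv, h1]
  · obtain ⟨v, hv⟩ := (f ω').2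
    rw [← mul_smul, ← hv, h3 _ fun hk => h ?_]
    rw [← ω.out_eq, ← ω'.out_eq, eq_comm, QuotientGroup.eq]
    exact hk

theorem pow_le_card [Finite G] [Finite V] (h1 : ∀ v, e (e v) = e v)
    (h3 : ∀ g ∉ K, ∀ v, e (g • e v) = 0) : Nat.card e.range ^ K.index ≤ Nat.card V := by
  have := Fintype.ofFinite (G ⧸ K)
  rw [index, ← Nat.card_fun]
  exact Nat.card_le_card_of_injective (fun f => ∑ ω', ω'.out • (f ω' : V)) fun f g h =>
    funext fun ω => Subtype.ext (by rw [← coord h1 h3 f, ← coord h1 h3 g]; exact congrArg _ (congrArg _ h))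

theorem exists_supp [Finite G] (h0 : e ≠ 0) (h1 : ∀ v, e (e v) = e v)
    (h2 : ∀ h ∈ K, ∀ v, h • e v = e (h • v)) (h3 : ∀ g ∉ K, ∀ v, e (g • e v) = 0) :
    ∃ s : V → ℕ, (∀ (g : G) v, s (g • v) = s v) ∧ ∀ i < K.index, ∃ v, e v = 0 ∧ s v = i := by
  classical
  have := Fintype.ofFinite (G ⧸ K)
  have hP : ∀ (g : G) (v : V), e ((g : G ⧸ K).out⁻¹ • v) = 0 ↔ e (g⁻¹ • v) = 0 := fun g v => by
    obtain ⟨k, hk⟩ := QuotientGroup.mk_out_eq_mul K g
    rw [hk, mul_inv_rev, mul_smul, ← h2 _ (inv_mem k.2), smul_eq_zero_iff_eq]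
  refine ⟨fun v => #{ω : G ⧸ K | e (ω.out⁻¹ • v) ≠ 0}, fun g v => ?_, fun i hi => ?_⟩
  · refine (card_equiv (MulAction.toPerm g) fun ω => ?_).symm
    obtain ⟨x, rfl⟩ := QuotientGroup.mk_surjective ω
    simp only [mem_filter, mem_univ, true_and, MulAction.toPerm_apply, MulAction.Quotient.smul_mk,
      ne_eq, hP, smul_eq_mul, mul_inv_rev, mul_smul, inv_smul_smul]
  · obtain ⟨T, hT, rfl⟩ := exists_subset_card_eq (s := univ.erase ((1 : G) : G ⧸ K)) (n := i) (by
      rw [card_erase_of_mem (mem_univ _), card_univ, ← Nat.card_eq_fintype_card]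
      exact Nat.le_sub_one_of_lt hi)
    obtain ⟨v, hv⟩ : ∃ v, e v ≠ 0 := by
      by_contra h; push Not at h; exact h0 (AddMonoidHom.ext h)
    obtain ⟨w, hc⟩ : ∃ w : V, ∀ ω : G ⧸ K, e (ω.out⁻¹ • w) =
        (if ω ∈ T then ⟨e v, v, rfl⟩ else 0 : e.range) := ⟨_, coord h1 h3 _⟩
    refine ⟨w, ?_, congrArg _ (Finset.ext fun ω => ?_)⟩
    · have := hc ((1 : G) : G ⧸ K)
      rw [if_neg fun h => by simpa using hT h] at this
      simpa using (hP 1 _).1 this
    · rw [mem_filter, hc]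
      split_ifs with h <;> simp [h, hv]

theorem cyc_comm {p : ℕ} (hp : p.Prime) [Finite V] (h : Nat.card V = p) (a b : G) (v : V) :
    a • b • v = b • a • v := by
  have := Fact.mk hp
  rcases eq_or_ne v 0 with rfl | h0
  · simp
  obtain ⟨i, hi⟩ := AddSubgroup.mem_zmultiples_iff.1 (mem_zmultiples_of_prime_card h h0 (g' := a • v))
  obtain ⟨j, hj⟩ := AddSubgroup.mem_zmultiples_iff.1 (mem_zmultiples_of_prime_card h h0 (g' := b • v))
  rw [← hi, ← hj, smul_comm a, smul_comm b, ← hi, ← hj, smul_comm]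

/-- Blocks of prime order. -/
theorem lin_imp {G : Type u} [Group G] [Finite G] [Finite V] [DistribMulAction G V]
    [FaithfulSMul G V] (hs : Group.IsSolvable G) (hi : Irr G V) {K : Subgroup G} (hK : IsCoatom K)
    (h0 : e ≠ 0) (h1 : ∀ v, e (e v) = e v) (h2 : ∀ h ∈ K, ∀ v, h • e v = e (h • v))
    (h3 : ∀ g ∉ K, ∀ v, e (g • e v) = 0) {p : ℕ} (hp : p.Prime) (h11 : 11 ≤ p)
    (he : Nat.card e.range = p) {r : ℕ} (hr : Nat.card V ≤ r * Nat.card G + 1) :
    49 * p ≤ 60 * (kk G + r) := by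
  let _ := subAct _ (inv_range h2)
  have hc : ∀ a ∈ K.normalCore, ∀ b ∈ K.normalCore, a * b = b * a := fun a ha b hb => by
    refine eq_of_smul_eq_smul (α := V) fun v => ?_
    have : v ∈ (DistribSMul.toAddMonoidHom V (a * b)).eqLocus
        (DistribSMul.toAddMonoidHom V (b * a)) := by
      rw [closure_eq_top hi (mt AddMonoidHom.range_eq_bot_iff.1 h0) (U := AddMonoidHom.eqLocus _ _)
        fun g w hw => ?_]
      · trivial
      have := congrArg (fun x : e.range => g • (x : V)) (cyc_comm hp he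
        (⟨_, ha g⁻¹⟩ : K) ⟨_, hb g⁻¹⟩ ⟨w, hw⟩)
      change g • (g⁻¹ * a * g⁻¹⁻¹) • (g⁻¹ * b * g⁻¹⁻¹) • w =
        g • (g⁻¹ * b * g⁻¹⁻¹) • (g⁻¹ * a * g⁻¹⁻¹) • w at this
      change (a * b) • g • w = (b * a) • g • w
      simpa [mul_smul] using this
    exact this
  obtain ⟨t, s, k, ht, e1, e2, e3, e4⟩ := core_index hs hK
  have h4 : 2 ≤ K.index := (one_lt_index_of_ne_top hK.1 :)
  have h5 := core_arith ht e1 h4 e3 e4
  have h6 := pow_le_card h1 h3
  refine amgm Nat.card_pos (sq_le_kk hc) hr ?_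
  rw [← K.normalCore.card_mul_index, e2]
  obtain ⟨m, hm⟩ := Nat.exists_eq_add_of_le h4
  rw [he, hm, pow_add] at h6
  rw [hm] at h5 ⊢
  rw [pow_add] at h5
  have h7 := Nat.pow_le_pow_left h11 m
  have h8 := Nat.pow_le_pow_left h11 2
  have h9 := Nat.one_le_pow m 11 (by decide)
  calc _ = Nat.card K.normalCore * Nat.card K.normalCore * (2401 * (p ^ 2 * ((2 + m) * k) ^ 2)) := by
        ring
    _ ≤ Nat.card K.normalCore * Nat.card K.normalCore * (14400 * (Nat.card V - 1)) := by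
        refine Nat.mul_le_mul_left _ ?_
        have a1 : p ^ 2 * ((2 + m) * k) ^ 2 ≤ p ^ 2 * (5 * p ^ m) := by gcongr; omega
        have a2 : 121 * 1 ≤ p ^ 2 * p ^ m := by gcongr; omega
        rw [mul_left_comm] at a1
        omega
    _ = _ := by ring

end H10.Kg
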