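import Cfsg.Agent.H10.KgPrim

/-! Lower bounds for class numbers: primes dividing the index of the Fitting subgroup. -/

set_option autoImplicit false
set_option linter.unusedSectionVars false

namespace H10.Kg

open Subgroup Finset H33.Solv Cfsg
open scoped commutatorElement

universe u

theorem exists_scal' {G : Type*} {V : Type u} [Group G] [AddCommGroup V] [DistribMulAction G V]
    [Finite V] [Nontrivial V] (hs : Group.IsSolvable G) (hi : Irr G V) (hq : QPrim G V)
    {P : Subgroup G} (hP : P.Normal) (hPc : ∀ a ∈ P, ∀ b ∈ P, a * b = b * a) :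
    ∃ (K G' : Type u) (_ : Field K) (_ : Finite K) (_ : Module K V) (_ : Group G') (_ : Finite G')
      (_ : DistribMulAction G' V) (s : Scal K G' V) (j : G →* G'), Group.IsSolvable G' ∧
      (∀ g (v : V), j g • v = g • v) ∧ ∀ x ∈ P, j x ∈ s.ι.range := by
  have : Finite (AddMonoid.End V) := DFunLike.finite _
  let ρ := (DistribMulAction.toAddMonoidEnd G V).toHomUnits
  have hs0 : Group.IsSolvable ρ.range := Group.isSolvable_of_surjective ρ.rangeRestrict_surjective
  obtain ⟨U, ⟨u1, u3, u4⟩, umax⟩ := H2.exists_maximal_subgroup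
    (fun U : Subgroup (AddMonoid.End V)ˣ => P.map ρ ≤ U ∧
      (∀ g ∈ ρ.range, ∀ a ∈ U, g * a * g⁻¹ ∈ U) ∧ ∀ a ∈ U, ∀ b ∈ U, a * b = b * a)
    ⟨_, le_rfl, by
      rintro _ ⟨g, rfl⟩ _ ⟨a, ha, rfl⟩
      exact ⟨_, hP.conj_mem a ha g, by simp⟩, by
      rintro _ ⟨a, ha, rfl⟩ _ ⟨b, hb, rfl⟩
      rw [← map_mul, ← map_mul, hPc a ha b hb]⟩
  let K := Subring.closure (Units.val '' (U : Set (AddMonoid.End V)ˣ))
  have hc : ∀ a ∈ K, ∀ b ∈ K, a * b = b * a := fun a ha b hb =>
    congrArg Subtype.val ((Subring.isMulCommutative_closure (by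
      rintro _ ⟨a, ha, rfl⟩ _ ⟨b, hb, rfl⟩
      exact congrArg Units.val (u4 a ha b hb))).is_comm.comm (⟨a, ha⟩ : K) ⟨b, hb⟩)
  have hK : ∀ g ∈ ρ.range, ∀ a ∈ K, g.1 * a * g⁻¹.1 ∈ K := fun g hg a ha => by
    induction ha using Subring.closure_induction with
    | mem x hx =>
      obtain ⟨x, hx, rfl⟩ := hx
      exact Subring.subset_closure ⟨_, u3 g hg x hx, rfl⟩
    | zero => simp
    | one => simp
    | add x y _ _ hx hy => rw [mul_add, add_mul]; exact add_mem hx hy
    | neg x _ hx => rw [mul_neg, neg_mul]; exact neg_mem hx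
    | mul x y _ _ hx hy => simpa [mul_assoc] using mul_mem hx hy
  have hF := isField_of hc hK (fun W hW => hi W fun g => hW (ρ.rangeRestrict g))
    fun e he h => hq e he fun g => h (ρ.rangeRestrict g)
  let _ := hF.toField
  let ι : Kˣ →* (AddMonoid.End V)ˣ := Units.map K.subtype.toMonoidHom
  have hι : ∀ a, a ∈ ι.range ↔ a.1 ∈ K := fun a => ⟨by rintro ⟨c, rfl⟩; exact c.1.2, fun h =>
    ⟨Units.mk0 ⟨a.1, h⟩ fun e => by
      obtain ⟨v, hv⟩ := exists_ne (0 : V)
      exact hv ((smul_eq_zero_iff_eq a).1 (DFunLike.congr_fun (congrArg Subtype.val e) v)),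
      Units.ext rfl⟩⟩
  have hn : ∀ g ∈ ρ.range, ∀ a ∈ ι.range, g * a * g⁻¹ ∈ ι.range := fun g hg a ha =>
    (hι _).2 (hK g hg _ ((hι _).1 ha))
  have hn' : ρ.range ≤ normalizer (ι.range : Set _) := fun g hg => mem_normalizer_fintype (hn g hg)
  have hU : U ≤ ι.range := fun a ha => (hι a).2 (Subring.subset_closure ⟨a, ha, rfl⟩)
  have hcm : ∀ a ∈ ι.range, ∀ b ∈ ι.range, a * b = b * a := fun a ha b hb =>
    Units.ext (hc _ ((hι a).1 ha) _ ((hι b).1 hb))
  have hUe : ι.range = U := umax _ ⟨u1.trans hU, hn, hcm⟩ hU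
  have hle : ι.range ≤ ι.range ⊔ ρ.range := le_sup_left
  have hmem : ∀ a : (ι.range ⊔ ρ.range : Subgroup _),
      a ∈ (ι.codRestrict _ fun c => hle ⟨c, rfl⟩).range ↔ a.1 ∈ ι.range := fun a =>
    exists_congr fun c => Subtype.ext_iff
  refine ⟨K, (ι.range ⊔ ρ.range : Subgroup _), inferInstance, inferInstance, inferInstance,
    inferInstance, inferInstance, inferInstance,
    ⟨ι.codRestrict _ fun c => hle ⟨c, rfl⟩, fun _ _ => rfl, ⟨fun a ha g => (hmem _).2
      ((mem_normalizer_iff.1 (sup_le le_normalizer hn' g.2) _).1 ((hmem a).1 ha))⟩,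
      fun M hM hc' hle' a ha => ?_⟩, ρ.codRestrict _ fun g => mem_sup_right ⟨g, rfl⟩,
    H46.sol_sup hn' (Group.isSolvable_of_comm fun a b => Subtype.ext (hcm a a.2 b b.2)) hs0,
    fun _ _ => rfl, fun x hx => (hmem _).2 (hU (u1 ⟨x, hx, rfl⟩))⟩
  have h5 : U ≤ M.map (Subgroup.subtype _) := fun b hb =>
    ⟨⟨b, hle (hU hb)⟩, hle' ((hmem _).2 (hU hb)), rfl⟩
  refine (hmem a).2 (hU ((umax (M.map (Subgroup.subtype _)) ⟨u1.trans h5, ?_, ?_⟩ h5).le
    ⟨a, ha, rfl⟩))
  · rintro g hg _ ⟨a, ha, rfl⟩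
    exact ⟨_, hM.conj_mem a ha ⟨g, mem_sup_right hg⟩, rfl⟩
  · rintro _ ⟨a, ha, rfl⟩ _ ⟨b, hb, rfl⟩
    exact congrArg Subtype.val (hc' a ha b hb)

/-- The class number of `W ⋊ L` times the order of `L`. -/
noncomputable def kap (L W : Type*) [Group L] [AddCommGroup W] [Finite W] [DistribMulAction L W] :
    ℕ := ∑ ψ : AddChar W ℂ, kk (stab L ψ) * Nat.card (stab L ψ)

section kap

variable {L W : Type*} [Group L] [Finite L] [AddCommGroup W] [Finite W] [DistribMulAction L W]

theorem kk_pos (G : Type*) [Group G] [Finite G] : 0 < kk G := Nat.card_pos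

theorem kk_hom {A B : Type*} [Group A] [Group B] [Finite B] (f : A →* B)
    (hf : Function.Injective f) : kk A * Nat.card A ≤ kk B * Nat.card B := by
  have := Finite.of_injective f hf
  rw [kk_congr (MonoidHom.ofInjective hf), Nat.card_congr (MonoidHom.ofInjective hf).toEquiv]
  exact kk_sub _

theorem kap_sub (S : Subgroup L) : kap S W ≤ kap L W := sum_le_sum fun ψ _ =>
  kk_hom (MonoidHom.mk' (fun x => (⟨x.1.1, x.2⟩ : stab L ψ)) fun _ _ => rfl) fun _ _ e =>
    Subtype.ext (Subtype.ext (Subtype.ext_iff.1 e :))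

theorem kap_ge : (kk L + Nat.card (MulAction.orbitRel.Quotient L W)) * Nat.card L ≤
    kap L W + Nat.card L := by
  classical
  have h0 : stab L (0 : AddChar W ℂ) = ⊤ := top_unique fun _ _ _ => rfl
  rw [add_mul, ← sum_stab, kap, ← add_sum_erase _ _ (mem_univ 0), ← add_sum_erase _ _ (mem_univ 0),
    h0, card_top, kk_congr topEquiv, add_assoc, add_comm (Nat.card L)]
  gcongr with ψ
  exact Nat.le_mul_of_pos_left _ (kk_pos _)

theorem kap_split {U M : Type*} [AddCommGroup U] [AddCommGroup M] [Finite U] [Finite M]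
    [DistribMulAction L U] [DistribMulAction L M] (a : W →+ U) (b : W →+ M)
    (ha : ∀ (x : L) w, a (x • w) = x • a w) (hb : ∀ (x : L) w, b (x • w) = x • b w)
    (hs : ∀ u m, ∃ w, a w = u ∧ b w = m) : ∑ μ : AddChar U ℂ, kap (stab L μ) M ≤ kap L W := by
  classical
  let F : AddChar U ℂ × AddChar M ℂ → AddChar W ℂ := fun q =>
    q.1.compAddMonoidHom a * q.2.compAddMonoidHom b
  have hF : Function.Injective F := fun q q' e => Prod.ext (DFunLike.ext _ _ fun u => by
      obtain ⟨w, rfl, h⟩ := hs u 0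
      simpa [F, h] using DFunLike.congr_fun e w) (DFunLike.ext _ _ fun u => by
      obtain ⟨w, h, rfl⟩ := hs 0 u
      simpa [F, h] using DFunLike.congr_fun e w)
  simp only [kap]
  rw [← Fintype.sum_prod_type']
  refine le_trans (sum_le_sum fun q _ => ?_) ((sum_image (s := univ) (g := F)
    (f := fun ψ => kk (stab L ψ) * Nat.card (stab L ψ)) hF.injOn).ge.trans
    (sum_le_sum_of_subset (subset_univ _)))
  exact kk_hom (MonoidHom.mk' (fun x => (⟨x.1.1, fun w => by
    change q.1 (a _) * q.2 (b _) = q.1 (a w) * q.2 (b w)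
    rw [ha, hb, x.1.2, ← x.2 (b w)]; rfl⟩ : stab L (F q))) fun _ _ => rfl) fun _ _ e =>
    Subtype.ext (Subtype.ext (Subtype.ext_iff.1 e :))

theorem card_le_orbits {R : Type*} [Group R] [Finite R] [DistribMulAction R W] (f : L →* R)
    (hf : ∀ x (w : W), f x • w = x • w) :
    Nat.card W + Nat.card R ≤ Nat.card (MulAction.orbitRel.Quotient L W) * Nat.card R + 1 := by
  classical
  have h1 := Nat.card_le_card_of_surjective
    (fun q : {ω : MulAction.orbitRel.Quotient L W // ω ≠ Quotient.mk _ 0} × R =>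
      (⟨q.2 • q.1.1.out, fun e => q.1.2 ((Quotient.out_eq _).symm.trans
        (congrArg _ ((smul_eq_zero_iff_eq q.2).1 e)))⟩ : {w : W // w ≠ 0})) fun w => by
      obtain ⟨x, hx⟩ := Quotient.exact (Quotient.out_eq (Quotient.mk (MulAction.orbitRel L W) w.1))
      refine ⟨(⟨Quotient.mk _ w.1, fun e => w.2 ?_⟩, f x⁻¹), Subtype.ext ?_⟩
      · obtain ⟨y, hy⟩ := Quotient.exact e
        exact hy.symm.trans (smul_zero y)
      · exact (hf _ _).trans (inv_smul_eq_iff.2 hx.symm)
  have := Fintype.ofFinite W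
  have := Fintype.ofFinite (MulAction.orbitRel.Quotient L W)
  rw [Nat.card_prod, Nat.card_eq_fintype_card, Nat.card_eq_fintype_card, Fintype.card_subtype_compl,
    Fintype.card_subtype_compl, Fintype.card_subtype_eq, Fintype.card_subtype_eq,
    ← Nat.card_eq_fintype_card, ← Nat.card_eq_fintype_card, Nat.sub_mul, one_mul] at h1
  have : Nat.card R ≤ Nat.card (MulAction.orbitRel.Quotient L W) * Nat.card R :=
    Nat.le_mul_of_pos_left _ (Nat.card_pos_iff.2 ⟨⟨Quotient.mk _ 0⟩, inferInstance⟩)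
  omega

theorem kk_central {G : Type*} [Group G] [Finite G] {Z : Subgroup G}
    (hZ : ∀ z ∈ Z, ∀ g, z * g = g * z) : Nat.card Z ≤ kk G := by
  classical
  have := Fintype.ofFinite G
  refine Nat.le_of_mul_le_mul_right ?_ (Nat.card_pos (α := G))
  rw [kk_mul, ← sum_Z hZ]
  exact sum_le_sum_of_subset (filter_subset _ _)

end kap

theorem arithK {p n f d e I v a o : ℕ} (hn : 15 ≤ n) (hp : p ^ 3 < 2 ^ (n + 1)) (hf : n < f)
    (e0 : 0 < e) (he : e ≤ d) (hI : I ≤ f * e ^ 8) (hv : 2 ^ (f * d) ≤ v) {h : ℕ}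
    (h1 : h ≤ a * I ^ 2) (h2 : v + h ≤ o * h + 1) : p + n ≤ n * (a + o) := by
  obtain ⟨j, rfl⟩ := Nat.exists_eq_add_of_lt hf
  obtain ⟨d, rfl⟩ := Nat.exists_eq_add_of_lt (e0.trans_le he)
  rw [zero_add] at he hv
  have k1 : (n + j + 1) ^ 2 ≤ 4 * n ^ 2 * 2 ^ j := by
    clear hf hI hv
    induction j with
    | zero => nlinarith
    | succ j ih =>
      have : ∀ m, 3 ≤ m → (m + 1) ^ 2 ≤ 2 * m ^ 2 := fun m hm => by nlinarith
      have : (n + (j + 1) + 1) ^ 2 ≤ 2 * (n + j + 1) ^ 2 := this (n + j + 1) (by omega)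
      rw [pow_succ 2, ← mul_assoc]; omega
  have k2 : e ^ 16 ≤ 2 ^ ((n + j + 1) * d) :=
    calc _ ≤ (2 ^ d) ^ 16 := Nat.pow_le_pow_left (he.trans Nat.lt_two_pow_self) _
      _ ≤ _ := by rw [← pow_mul]; exact Nat.pow_le_pow_right two_pos (by nlinarith)
  have k3 : p ^ 2 * 2 ^ j * e ^ 16 + 1 ≤ v := by
    refine le_trans ?_ hv
    rw [show (n + j + 1) * (d + 1) = n + 1 + (j + (n + j + 1) * d) by ring, pow_add 2 (n + 1),
      pow_add 2 j, mul_assoc]
    have : p ^ 2 < 2 ^ (n + 1) := by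
      rcases p with _ | p
      · positivity
      · exact (Nat.pow_le_pow_right p.succ_pos (by decide)).trans_lt hp
    exact Nat.mul_lt_mul_of_lt_of_le this (Nat.mul_le_mul_left _ k2) (by positivity)
  obtain ⟨r, rfl⟩ : ∃ r, o = r + 1 := Nat.exists_eq_succ_of_ne_zero fun e => by
    have := Nat.one_lt_two_pow (n := (n + j + 1) * (d + 1)) (by positivity)
    rw [e] at h2; omega
  rw [← add_assoc, mul_add, mul_one, add_le_add_iff_right]
  refine Nat.le_of_not_lt fun hl => ?_
  have k4 : p ^ 2 * 2 ^ j * e ^ 16 ≤ r * (a * I ^ 2) := by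
    have := Nat.mul_le_mul_left r h1
    rw [add_mul] at h2
    omega
  have k5 : I ^ 2 ≤ 4 * n ^ 2 * 2 ^ j * e ^ 16 :=
    calc _ ≤ ((n + j + 1) * e ^ 8) ^ 2 := Nat.pow_le_pow_left hI 2
      _ ≤ _ := by rw [mul_pow, ← pow_mul]; exact Nat.mul_le_mul_right _ k1
  have k6 : (n * (a + r)) ^ 2 < p ^ 2 := Nat.pow_lt_pow_left hl two_ne_zero
  have k7 : 4 * (a * r) ≤ (a + r) ^ 2 := by nlinarith [sq_nonneg ((a : ℤ) - r)]
  have k8 : p ^ 2 ≤ n ^ 2 * (4 * (a * r)) := Nat.le_of_mul_le_mul_right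
    (calc _ = p ^ 2 * 2 ^ j * e ^ 16 := (mul_assoc _ _ _).symm
      _ ≤ r * (a * (4 * n ^ 2 * 2 ^ j * e ^ 16)) := k4.trans (by gcongr)
      _ = _ := by ring) (show 0 < 2 ^ j * e ^ 16 by positivity)
  rw [mul_pow] at k6
  exact k6.not_ge (k8.trans (Nat.mul_le_mul_left _ k7))

theorem kap_qprim {X W : Type u} [Group X] [Finite X] [AddCommGroup W] [Finite W] [Nontrivial W]
    [DistribMulAction X W] (hs : Group.IsSolvable X) (hi : Irr X W) (hq : QPrim X W) {p n : ℕ}
    (hp : p.Prime) (hn : 15 ≤ n) (hpn : p ^ 3 < 2 ^ (n + 1)) {P : Subgroup X} (hP : P.Normal)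
    (hc : Nat.card P = p) (hd : ¬ p ∣ P.index) (hf : ∀ x ∈ P, ∀ w : W, x • w = w → x = 1 ∨ w = 0)
    {L : Type*} [Group L] [Finite L] [DistribMulAction L W] (φ : L →* X)
    (hφ : ∀ l (w : W), φ l • w = l • w) : p * Nat.card L ≤ n * kap L W := by
  have := Fact.mk hp
  have := isCyclic_of_prime_card hc
  obtain ⟨K, G, _, _, _, _, _, _, s, j, hG, hj, hjP⟩ := exists_scal' hs hi hq hP fun a ha b hb =>
    congrArg Subtype.val (IsCyclic.isMulCommutative.is_comm.comm (⟨a, ha⟩ : P) ⟨b, hb⟩)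
  obtain ⟨q, hq', -, hW⟩ := hi.exists_prime
  obtain ⟨N, h⟩ := s.exists_ns hG
  obtain ⟨e, he⟩ := h.sq_index h.le le_rfl fun a _ hc => h.n2 a fun b hb => (hc b hb).symm
  obtain ⟨b1, -⟩ := ns_bound hG h he
  obtain ⟨w, w0⟩ := exists_ne (0 : W)
  obtain ⟨f, hK⟩ := card_eq_pow (V := K) hq' fun c =>
    smul_left_injective K w0 (by beta_reduce; rw [smul_assoc, hW, zero_smul])
  have i1 := scal_index s hq' hW hK
  have i2 := Nat.mul_self_le_mul_self_iff.1 ((he ▸ scal_sq s h).trans_eq (sq _))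
  have i3 : Nat.card W = q ^ (f * Module.finrank K W) := by
    rw [Module.natCard_eq_pow_finrank (K := K), hK, pow_mul]
  generalize s.ι.range = Z at *
  rcases Nat.lt_or_ge n f with hl | hl
  · have hle : N ≤ centralizer (Z : Set G) := fun a ha => h.cent a ha
    have i5 := relIndex_mul_relIndex Z N _ h.le hle
    have i6 := relIndex_mul_index (h.le.trans hle)
    have e0 : 0 < e := Nat.pos_of_ne_zero fun h0 =>
      (index_ne_zero_of_finite : Z.relIndex N ≠ 0) (he.trans (by rw [h0]))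
    have k1 := sq_le_kk fun a ha b hb => h.cent b (h.le hb) a ha
    have k2 := kk_inj _ (j.comp φ).range.subtype_injective
    have k3 := kk_le_of_surj _ (j.comp φ).rangeRestrict_surjective
    have k4 := arithK hn hpn hl e0 i2 (I := Z.index) (a := kk L) (by
        rw [← i6, ← i5, he, mul_comm, show e ^ 8 = e * e * (e * e) ^ 3 by ring]
        gcongr) (i3 ▸ Nat.pow_le_pow_left hq'.two_le _)
      (Nat.le_of_mul_le_mul_right (calc
        _ ≤ kk G * Nat.card G * Nat.card (j.comp φ).range := by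
          rw [mul_comm]; exact Nat.mul_le_mul_right _ k1
        _ ≤ kk L * Nat.card G * Nat.card G := by
          rw [mul_right_comm]
          exact Nat.mul_le_mul_right _ (k2.trans (Nat.mul_le_mul_right _ k3))
        _ = kk L * Z.index ^ 2 * (Nat.card Z * Nat.card Z) := by rw [← Z.index_mul_card]; ring)
        (Nat.mul_pos Nat.card_pos Nat.card_pos))
      (card_le_orbits (j.comp φ).rangeRestrict fun l w => (hj _ w).trans (hφ l w))
    have k5 := Nat.mul_le_mul_left n (kap_ge (L := L) (W := W))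
    have k6 := Nat.mul_le_mul_right (Nat.card L) k4
    rw [add_mul, mul_assoc] at k6
    rw [mul_add] at k5
    omega
  have := h.zn
  let L0 := (centralizer (Z : Set G)).comap (j.comp φ)
  have k1 : L0.index ≤ n := by
    rw [index_comap]
    exact (Nat.le_of_dvd (Nat.pos_of_ne_zero index_ne_zero_of_finite)
      (relIndex_dvd_index_of_normal _ _)).trans (i1.trans hl)
  have k2 : p + 1 ≤ kk L0 + Nat.card (MulAction.orbitRel.Quotient L0 W) := by
    by_cases hx : ∃ l : L0, φ l ∈ P ∧ φ l ≠ 1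
    · obtain ⟨l, h1, h2⟩ := hx
      let ψ := (j.comp φ).comp L0.subtype
      have k3 := kk_central (Z := zpowers (ψ.rangeRestrict l)) fun z hz g => by
        obtain ⟨i, rfl⟩ := hz
        obtain ⟨_, g, rfl⟩ := g
        exact (Commute.zpow_left (Subtype.ext (g.2 _ (hjP _ h1))) i).eq
      rw [Nat.card_zpowers, orderOf_eq_prime (p := p) (Subtype.ext (by
        have := congrArg Subtype.val (pow_card_eq_one' (x := (⟨_, h1⟩ : P)))
        rw [hc] at this
        exact (map_pow j _ p).symm.trans ((congrArg j this).trans (map_one j)))) fun e =>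
          (hf _ h1 w (by rw [← hj, show j (φ l) = 1 from Subtype.ext_iff.1 e, one_smul])).elim
            h2 w0] at k3
      exact Nat.add_le_add (k3.trans (kk_le_of_surj _ ψ.rangeRestrict_surjective))
        (Nat.card_pos_iff.2 ⟨⟨Quotient.mk _ 0⟩, inferInstance⟩)
    push Not at hx
    rw [add_comm]
    refine Nat.add_le_add (kk_pos _) (hc ▸ Nat.card_le_card_of_injective
      (fun x : P => (Quotient.mk _ (x.1 • w) : MulAction.orbitRel.Quotient L0 W)) fun x y e => ?_)
    obtain ⟨l, hl⟩ := Quotient.exact e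
    have c1 : ∀ z : P, Commute (j z) (j (φ l)) := fun z => l.2 _ (hjP _ z.2)
    have c2 : j (x⁻¹ * y : P) * j (φ l) ∈ MulAction.stabilizer G w := by
      change _ • w = w
      rw [Subgroup.coe_mul, map_mul, mul_assoc, (c1 y).eq, mul_smul, mul_smul, hj, hj, hj, hφ, Subgroup.coe_inv,
        inv_smul_eq_iff]
      exact hl
    have c3 := pow_mem c2 P.index
    rw [(c1 _).mul_pow, ← map_pow, ← map_pow, show φ l ^ P.index = 1 from
      (map_pow φ _ _).symm.trans (hx (l ^ P.index) (by simpa using pow_index_mem P (φ l))),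
      map_one, mul_one] at c3
    have c4 := (hf _ (pow_mem (x⁻¹ * y).2 _) w ((hj _ w).symm.trans c3)).resolve_right w0
    refine inv_mul_eq_one.1 (orderOf_eq_one_iff.1 (Nat.eq_one_of_dvd_coprimes
      ((Nat.Prime.coprime_iff_not_dvd hp).2 hd) (hc ▸ orderOf_dvd_natCard _)
      (orderOf_dvd_of_pow_eq_one (Subtype.ext c4))))
  have k3 := (Nat.mul_le_mul_right _ k2).trans kap_ge
  have k4 := kap_sub (W := W) L0
  rw [add_mul, one_mul, add_le_add_iff_right] at k3
  rw [← L0.index_mul_card, mul_left_comm]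
  exact Nat.mul_le_mul k1 (k3.trans k4)

theorem kap_bound {p n : ℕ} (hp : p.Prime) (hn : 15 ≤ n) (hpn : p ^ 3 < 2 ^ (n + 1)) (m : ℕ) :
    ∀ (X W : Type u) [Group X] [Finite X] [AddCommGroup W] [Finite W] [Nontrivial W]
      [DistribMulAction X W], Nat.card W = m → Group.IsSolvable X → Irr X W →
      ∀ P : Subgroup X, P.Normal → Nat.card P = p → ¬ p ∣ P.index →
      (∀ x ∈ P, ∀ w : W, x • w = w → x = 1 ∨ w = 0) →
      ∀ (L : Type u) [Group L] [Finite L] [DistribMulAction L W] (φ : L →* X),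
        (∀ l (w : W), φ l • w = l • w) → p * Nat.card L ≤ n * kap L W := by
  classical
  induction m using Nat.strong_induction_on with | _ m ih => ?_
  rintro X W _ _ _ _ _ _ rfl hs hi P hP hc hd hf L _ _ _ φ hφ
  by_cases hq : QPrim X W
  · exact kap_qprim hs hi hq hp hn hpn hP hc hd hf φ hφ
  obtain ⟨e, K, hK, e0, e1, e2, e3⟩ := coarsen hi hq
  have := Fact.mk hp
  obtain ⟨v, hv⟩ : ∃ v, e v ≠ 0 := by
    by_contra h; push Not at h; exact e0 (AddMonoidHom.ext h)
  have hPK : P ≤ K := fun x hx => by_contra fun hxK => by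
    have := Fintype.ofFinite P
    have h1 : x • ∑ y : P, y.1 • e v = ∑ y : P, y.1 • e v := by
      rw [smul_sum]
      exact Fintype.sum_equiv (Equiv.mulLeft ⟨x, hx⟩) _ _ fun y => (mul_smul _ _ _).symm
    have h2 := congrArg e ((hf x hx _ h1).resolve_left fun h => hxK (h ▸ one_mem K))
    rw [map_sum, sum_eq_single 1 (fun y _ hy => e3 _ (fun h => ?_) v) (by simp), map_zero] at h2
    · exact hv (by simpa [e1] using h2)
    · obtain ⟨i, hi⟩ := mem_zpowers_of_prime_card hc hy (g' := ⟨x, hx⟩)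
      exact hxK ((show y.1 ^ i = x from congrArg Subtype.val hi) ▸ zpow_mem h i)
  let L1 := K.comap φ
  have a2 : ∀ x : L1, ∀ w, x • e w = e (x • w) := fun x w => by
    rw [Subgroup.smul_def, Subgroup.smul_def, ← hφ, ← hφ, e2 _ x.2]
  let _ := subAct _ (inv_range e2)
  let _ := subAct (G := L1) e.range (by rintro x _ ⟨w, rfl⟩; exact ⟨_, (a2 x w).symm⟩)
  let _ := subAct (G := L1) e.ker fun x w hw => by
    change e (x • w) = 0
    rw [← a2, show e w = 0 from hw, smul_zero]
  have : Nontrivial e.range := (AddSubgroup.nontrivial_iff_ne_bot _).2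
    (mt AddMonoidHom.range_eq_bot_iff.1 e0)
  have h1 : Nat.card e.range < Nat.card W := by
    refine lt_of_lt_of_le ?_ (pow_le_card e1 e3)
    exact lt_self_pow₀ Finite.one_lt_card (one_lt_index_of_ne_top hK.1)
  have h2 := fun μ : AddChar e.ker ℂ => ih _ h1 K e.range rfl inferInstance (irr_range hi e1 e2 e3)
    (P.subgroupOf K) inferInstance ((Nat.card_congr (subgroupOfEquivOfLe hPK).toEquiv).trans hc)
    (fun h => hd (h.trans (relIndex_dvd_index_of_le hPK)))
    (fun x hx w hw => (hf x hx w (congrArg Subtype.val hw)).imp Subtype.ext Subtype.ext)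
    (stab L1 μ) ((φ.subgroupComap K).comp (stab L1 μ).subtype) fun l w => Subtype.ext (hφ _ _)
  have h3 := kap_split (L := L1) (W := W) ((AddMonoidHom.id W - e).codRestrict e.ker fun w => by
      simp [e1]) e.rangeRestrict (fun x w => Subtype.ext (by
      change x • w - e (x • w) = x • (w - e w)
      rw [smul_sub, a2])) (fun x w => Subtype.ext (a2 x w).symm) fun u m => by
    obtain ⟨_, w, rfl⟩ := m
    have : e u = 0 := u.2
    exact ⟨u + e w, Subtype.ext (by simp [e1, this]), Subtype.ext (by simp [e1, this])⟩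
  obtain ⟨s, hs1, hs2⟩ := exists_supp e0 e1 e2 e3
  have h4 : K.index ≤ Nat.card (MulAction.orbitRel.Quotient L1 e.ker) := by
    choose u hu hu' using hs2
    simpa using Nat.card_le_card_of_injective (fun i : Fin K.index =>
      (Quotient.mk _ ⟨u i i.2, hu _ _⟩ : MulAction.orbitRel.Quotient L1 e.ker)) fun i j e => by
        obtain ⟨x, hx⟩ := Quotient.exact e
        have : φ x • u j j.2 = u i i.2 := (hφ _ _).trans (congrArg Subtype.val hx)
        exact Fin.ext (by rw [← hu' i i.2, ← this, hs1, hu'])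
  have h5 : L1.index ≤ K.index := by
    rw [index_comap, ← relIndex_top_right]
    exact relIndex_le_of_le_right le_top (by rw [relIndex_top_right]; exact index_ne_zero_of_finite)
  calc _ ≤ p * ∑ μ : AddChar e.ker ℂ, Nat.card (stab L1 μ) := by
        rw [sum_stab, ← L1.index_mul_card]
        exact Nat.mul_le_mul_left _ (Nat.mul_le_mul_right _ (h5.trans h4))
    _ ≤ n * ∑ μ : AddChar e.ker ℂ, kap (stab L1 μ) e.range := by
        rw [mul_sum, mul_sum]
        exact sum_le_sum fun μ _ => h2 μ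
    _ ≤ _ := Nat.mul_le_mul_left _ (h3.trans (kap_sub L1))

theorem three_le {G : Type*} [Group G] [Finite G] {p : ℕ} [hp : Fact p.Prime]
    (h : p ∣ (fittingSubgroup G).index) : 3 ≤ kk G := by
  obtain ⟨q, hq, hd, hne⟩ : ∃ q : ℕ, q.Prime ∧ q ∣ Nat.card G ∧ q ≠ p := by
    by_contra hn
    push Not at hn
    have := (IsPGroup.of_card (Nat.eq_prime_pow_of_unique_prime_dvd Nat.card_pos.ne'
      fun hq hd => hn _ hq hd)).isNilpotent
    rw [H2.fitting_eq_top_of_isNilpotent, index_top] at h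
    exact hp.1.not_dvd_one h
  have := Fact.mk hq
  obtain ⟨x, hx⟩ := exists_prime_orderOf_dvd_card' p (h.trans (index_dvd_card _))
  obtain ⟨y, hy⟩ := exists_prime_orderOf_dvd_card' q hd
  have k : ∀ a b : G, ConjClasses.mk a = ConjClasses.mk b → orderOf a = orderOf b := fun a b e => by
    obtain ⟨c, rfl⟩ := isConj_iff.1 (ConjClasses.mk_eq_mk_iff_isConj.1 e)
    exact (MulAut.conj c).orderOf_eq a |>.symm
  have := Fintype.ofFinite (ConjClasses G)
  rw [kk, Nat.card_eq_fintype_card]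
  exact Fintype.two_lt_card_iff.2 ⟨.mk x, .mk y, .mk 1, fun e => hne (by rw [← hx, ← hy, k _ _ e]),
    fun e => hp.1.ne_one (by rw [← hx, k _ _ e, orderOf_one]),
    fun e => hq.ne_one (by rw [← hy, k _ _ e, orderOf_one])⟩

theorem km_bound {p n : ℕ} [hp : Fact p.Prime] (hn : 15 ≤ n) (hpn : p ^ 3 < 2 ^ (n + 1)) (m : ℕ) :
    ∀ (G : Type u) [Group G] [Finite G], Nat.card G = m → Group.IsSolvable G →
      p ∣ (fittingSubgroup G).index → p ≤ n * kk G := by
  induction m using Nat.strong_induction_on with | _ m ih => ?_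
  rintro G _ _ rfl hs hd
  by_cases h2 : p ^ 2 ∣ Nat.card G
  · have := hk_bound hs h2
    nlinarith
  have hG := hd.trans (index_dvd_card _)
  have : Nontrivial G := Finite.one_lt_card_iff_nontrivial.1
    (hp.1.one_lt.trans_le (Nat.le_of_dvd Nat.card_pos hG))
  obtain ⟨N, hN, hN0, hmin⟩ := H2.exists_minimal_normal G
  by_cases h3 : p ∣ (fittingSubgroup (G ⧸ N)).index
  · refine (ih _ ?_ (G ⧸ N) rfl inferInstance h3).trans
      (Nat.mul_le_mul_left _ (kk_le_of_surj _ (QuotientGroup.mk'_surjective N)))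
    have := (one_lt_card_iff_ne_bot N).2 hN0
    rw [← N.card_mul_index, index]
    exact lt_mul_of_one_lt_left Nat.card_pos this
  obtain ⟨P⟩ : Nonempty (Sylow p G) := inferInstance
  have hc := H2.isMulCommutative_of_minimal_normal hmin
  have hcm : ∀ a ∈ N, ∀ b ∈ N, a * b = b * a := fun a ha b hb =>
    congrArg Subtype.val (hc.is_comm.comm ⟨a, ha⟩ ⟨b, hb⟩)
  have hP : Nat.card P = p := by
    obtain ⟨k, hk⟩ := P.2.exists_card_eq
    have : k ≠ 0 := fun e => hp.1.not_dvd_one (by simpa [hk, e] using P.dvd_card_of_dvd_card hG)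
    have : ¬ 2 ≤ k := fun h => h2 ((Nat.pow_dvd_pow p h).trans (hk ▸ card_subgroup_dvd_card _))
    rw [hk, show k = 1 by omega, pow_one]
  have hM : (P.1.map (QuotientGroup.mk' N)).Normal := by
    have := H2.sylow_inf_fitting (P.mapSurjective (QuotientGroup.mk'_surjective N))
    rw [Sylow.coe_mapSurjective, inf_eq_left.2] at this
    · rw [this]; infer_instance
    rintro _ ⟨x, hx, rfl⟩
    refine zpowers_le.2 (pow_index_mem _ _) (mem_zpowers_pow_iff.2 ?_)
    exact ((Nat.Prime.coprime_iff_not_dvd hp.1).2 h3).symm.coprime_dvd_right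
      ((orderOf_map_dvd _ x).trans (hP ▸ orderOf_dvd_natCard _ hx))
  have := hM.comap (QuotientGroup.mk' N)
  rw [comap_map_eq, QuotientGroup.ker_mk'] at this
  have hT : normalizer (P.1 : Set G) ⊔ (P.1 ⊔ N) = ⊤ := P.normalizer_sup_eq_top' le_sup_left
  rw [← sup_assoc, sup_eq_left.2 le_normalizer, sup_comm] at hT
  have hD : N ⊓ normalizer (P.1 : Set G) = ⊥ := (hmin (N ⊓ normalizer (P.1 : Set G)) (normalizer_eq_top_iff.1 (top_unique
      (hT.ge.trans (sup_le (fun g hg => mem_normalizer_fintype fun a ha => by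
        rwa [hcm g hg a ha.1, mul_inv_cancel_right]) fun g hg => mem_normalizer_fintype fun a ha =>
          ⟨hN.conj_mem a ha.1 g, Subgroup.mul_mem _ (Subgroup.mul_mem _ hg ha.2) (Subgroup.inv_mem _ hg)⟩)))) inf_le_left).resolve_right
    fun e => by
      rw [sup_eq_right.2 (inf_eq_left.1 e), normalizer_eq_top_iff] at hT
      exact P.not_dvd_index (hd.trans (index_dvd_of_le (H2.le_fitting_of_isPGroup P.2)))
  have hH : N.IsComplement' (normalizer (P.1 : Set G)) :=
    isComplement'_of_disjoint_and_mul_eq_univ (disjoint_iff.2 hD) (by rw [← normal_mul, hT, coe_top])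
  obtain ⟨V, _, _, σ, θ, h, hσ⟩ := exists_spl hcm hH
  have hV : Nat.card V = Nat.card N := Nat.card_congr (Equiv.ofBijective
    (fun v => ⟨σ v, (hσ _).2 ⟨v, rfl⟩⟩) ⟨fun a b e => h.inj (congrArg Subtype.val e),
      fun a => let ⟨u, e⟩ := (hσ a).1 a.2; ⟨u, Subtype.ext e⟩⟩)
  have : Finite V := Finite.of_injective _ h.inj
  have : Nontrivial V := Finite.one_lt_card_iff_nontrivial.1 (hV ▸ (one_lt_card_iff_ne_bot N).2 hN0)
  let τ : Multiplicative V →* G := MonoidHom.mk' (fun u => σ u.toAdd) fun _ _ => h.add _ _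
  have k1 := kap_bound hp.1 hn hpn _ (normalizer (P.1 : Set G)) V rfl inferInstance (fun U hU => by
      rcases hmin (U.toSubgroup.map τ) ⟨by
          rintro _ ⟨u, hu, rfl⟩ g
          obtain ⟨⟨⟨a, ha⟩, b⟩, rfl⟩ := hH.2 g
          obtain ⟨w, rfl⟩ := (hσ a).1 ha
          exact ⟨_, hU b _ hu, (congrArg σ ((h.triv w _).symm.trans
            (mul_smul _ _ _).symm)).trans (h.conj _ _)⟩⟩
        (by rintro _ ⟨u, -, rfl⟩; exact (hσ _).2 ⟨_, rfl⟩) with e | e
      · exact Or.inl (eq_bot_iff.2 fun u hu => h.inj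
          ((mem_bot.1 (e.le ⟨.ofAdd u, hu, rfl⟩)).trans h.zero.symm))
      · refine Or.inr (eq_top_iff.2 fun u _ => ?_)
        obtain ⟨w, hw, e⟩ := e.ge ((hσ _).2 ⟨u, rfl⟩)
        exact h.inj e ▸ hw)
    (P.1.subgroupOf _) inferInstance
    ((Nat.card_congr (subgroupOfEquivOfLe le_normalizer).toEquiv).trans hP)
    (fun h => P.not_dvd_index (h.trans (relIndex_dvd_index_of_le le_normalizer)))
    (fun x hx v hv => or_iff_not_imp_left.2 fun x1 => h.inj (by
      rw [h.zero, ← mem_bot, ← hD]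
      refine ⟨(hσ _).2 ⟨v, rfl⟩, centralizer_le_normalizer _ fun y hy => ?_⟩
      obtain ⟨i, hi⟩ := mem_zpowers_of_prime_card hP (g := ⟨x, hx⟩) (g' := ⟨y, hy⟩)
        fun e => x1 (Subtype.ext (Subtype.ext_iff.1 e :))
      rw [← show x.1 ^ i = y from congrArg Subtype.val hi]
      exact (Commute.zpow_left (mul_inv_eq_iff_eq_mul.1
        ((h.conj x v).symm.trans (congrArg σ hv))) i).eq)) _ (MonoidHom.id _) fun _ _ => rfl
  have k2 := sd_core (L := normalizer (P.1 : Set G)) (U := V) (fun q => σ q.1 * q.2)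
    (fun a b e => by
      have := hH.1 (a₁ := (⟨σ a.1, (hσ _).2 ⟨_, rfl⟩⟩, a.2)) (a₂ := (⟨σ b.1, (hσ _).2 ⟨_, rfl⟩⟩, b.2)) e
      exact Prod.ext (h.inj (congrArg (·.1.1) this)) (congrArg (·.2) this))
    fun u x w y => by
      change σ u * x * (σ w * y) = σ (u + x.1 • w) * (x * y)
      rw [h.add, h.conj]; group
  rw [← hH.card_mul_card, ← hV, mul_left_comm] at k2
  replace k2 := Nat.le_of_mul_le_mul_left k2 Nat.card_pos
  refine Nat.le_of_mul_le_mul_right (k1.trans ?_) Nat.card_pos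
  rw [mul_assoc]
  exact Nat.mul_le_mul_left _ k2

theorem km_nat {G : Type u} [Group G] [Finite G] (hs : Group.IsSolvable G) {p : ℕ}
    [hp : Fact p.Prime] (h : p ∣ (fittingSubgroup G).index) : p ≤ Nat.log 2 (p ^ 3) * kk G := by
  rcases Nat.lt_or_ge p 32 with h32 | h32
  · refine le_trans ?_ (Nat.mul_le_mul_left _ (three_le h))
    have := hp.1.two_le
    clear h hp
    interval_cases p <;> decide
  exact km_bound (Nat.le_log_of_pow_le (by decide) ((Nat.pow_le_pow_left h32 3).trans' (by decide)))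
    (Nat.lt_pow_succ_log_self (by decide) _) _ G rfl hs h

end H10.Kg
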