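import Cfsg.Agent.H24.ClassCount

/-! Lower bounds for class numbers: counting kit. -/

set_option autoImplicit false
set_option linter.unusedSectionVars false

namespace H10.Kg

open Subgroup Finset
open scoped commutatorElement

/-- The class number. -/
noncomputable abbrev kk (G : Type*) [Group G] : ℕ := Nat.card (ConjClasses G)

/-- The order of the centraliser of an element. -/
noncomputable abbrev cz {G : Type*} [Group G] (x : G) : ℕ := Nat.card (centralizer ({x} : Set G))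

variable {G H : Type*} [Group G] [Group H]

theorem kk_le_of_surj [Finite G] (f : G →* H) (hf : Function.Surjective f) : kk H ≤ kk G :=
  Nat.card_le_card_of_surjective _ (ConjClasses.map_surjective hf)

theorem kk_congr [Finite G] (e : G ≃* H) : kk G = kk H :=
  have := Finite.of_equiv G e.toEquiv
  (kk_le_of_surj e.symm.toMonoidHom e.symm.surjective).antisymm
    (kk_le_of_surj e.toMonoidHom e.surjective)

theorem kk_mul [Fintype G] : kk G * Nat.card G = ∑ x : G, cz x := H24.card_conjClasses_mul_card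

theorem kk_sub [Finite G] (K : Subgroup G) : kk K * Nat.card K ≤ kk G * Nat.card G := by
  rw [← card_comm_eq_card_conjClasses_mul_card, ← card_comm_eq_card_conjClasses_mul_card]
  exact Nat.card_le_card_of_injective
    (fun p : {p : K × K // Commute p.1 p.2} =>
      (⟨(p.1.1, p.1.2), congrArg Subtype.val p.2.eq⟩ : {p : G × G // Commute p.1 p.2}))
    fun a b e => Subtype.ext (Prod.ext (Subtype.ext (congrArg (·.1.1) e))
      (Subtype.ext (congrArg (·.1.2) e)))

theorem kk_comm [Finite G] (h : ∀ a b : G, a * b = b * a) : kk G = Nat.card G :=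
  (Nat.card_congr (Equiv.ofBijective ConjClasses.mk ⟨fun a b e => by
    obtain ⟨c, hc⟩ := isConj_iff.1 (ConjClasses.mk_eq_mk_iff_isConj.1 e)
    rw [← hc, h c a, mul_inv_cancel_right], ConjClasses.mk_surjective⟩)).symm

theorem sq_le_kk [Finite G] {B : Subgroup G} (h : ∀ a ∈ B, ∀ b ∈ B, a * b = b * a) :
    Nat.card B * Nat.card B ≤ kk G * Nat.card G := by
  have := kk_sub B
  rwa [kk_comm fun a b : B => Subtype.ext (h a a.2 b b.2)] at this

theorem le_cz [Finite G] {x : G} {A : Subgroup G} (h : ∀ a ∈ A, a * x = x * a) :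
    Nat.card A ≤ cz x :=
  card_le_of_le fun a ha => mem_centralizer_singleton_iff.2 (h a ha)

theorem card_filter_mem [Fintype G] (A : Subgroup G) [DecidablePred (· ∈ A)] :
    #{x : G | x ∈ A} = Nat.card A := by
  rw [Nat.card_eq_fintype_card, Fintype.card_subtype]

/-- The classes of `G` inside an abelian kernel. -/
theorem exists_r [Finite G] (f : G →* H) (hf : Function.Surjective f)
    (hc : ∀ a ∈ f.ker, ∀ b ∈ f.ker, a * b = b * a) :
    ∃ r, kk H + r ≤ kk G ∧ Nat.card f.ker ≤ r * Nat.card H + 1 := by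
  classical
  have := Fintype.ofFinite G
  have := Fintype.ofFinite (ConjClasses G)
  let Q : ConjClasses G → Prop := fun C => ∃ x ∈ f.ker, x ≠ 1 ∧ ConjClasses.mk x = C
  have hQ : ∀ x, Q (ConjClasses.mk x) ↔ x ∈ f.ker ∧ x ≠ 1 := fun x =>
    ⟨fun ⟨y, hy, h1, e⟩ => by
      obtain ⟨c, rfl⟩ := isConj_iff.1 (ConjClasses.mk_eq_mk_iff_isConj.1 e)
      exact ⟨f.normal_ker.conj_mem y hy c, by simpa using h1⟩, fun h => ⟨x, h.1, h.2, rfl⟩⟩
  refine ⟨Nat.card {C // Q C}, ?_, ?_⟩
  · have h1 : kk H ≤ Nat.card {C // ¬ Q C} :=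
      Nat.card_le_card_of_surjective (fun C : {C // ¬ Q C} => ConjClasses.map f C.1) fun D => by
        obtain ⟨h, rfl⟩ := ConjClasses.mk_surjective D
        obtain ⟨g, rfl⟩ := hf h
        by_cases hg : g ∈ f.ker
        · exact ⟨⟨ConjClasses.mk 1, fun h => ((hQ 1).1 h).2 rfl⟩, by
            change ConjClasses.mk (f 1) = _
            rw [map_one, show f g = 1 from hg]⟩
        · exact ⟨⟨ConjClasses.mk g, fun h => hg ((hQ g).1 h).1⟩, rfl⟩
    have h2 := Fintype.card_subtype_compl Q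
    have h3 := Fintype.card_subtype_le Q
    simp only [← Nat.card_eq_fintype_card] at h2 h3
    unfold kk at *
    omega
  · have h1 := H24.card_classes_mul_card Q
    have h2 : (Nat.card f.ker - 1) * Nat.card f.ker ≤ Nat.card {C // Q C} * Nat.card G := by
      have e : #{x : G | Q (ConjClasses.mk x)} = Nat.card f.ker - 1 := by
        rw [← card_filter_mem, ← card_erase_of_mem (a := 1) (by simp)]
        congr 1; ext x; simp [hQ, and_comm]
      rw [h1, ← smul_eq_mul, ← e]
      convert card_nsmul_le_sum (univ.filter fun x : G => Q (ConjClasses.mk x)) cz _ fun x hx =>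
        le_cz fun a ha => hc a ha x ((hQ x).1 (mem_filter.1 hx).2).1
      rfl
    rw [← f.ker.card_mul_index, index_ker, MonoidHom.range_eq_top.2 hf, card_top, mul_left_comm,
      mul_comm] at h2
    have := Nat.le_of_mul_le_mul_left h2 Nat.card_pos
    omega

theorem amgm {p a r h S v : ℕ} (hh : 0 < h) (h1 : S ≤ a * h) (h2 : v ≤ r * h + 1)
    (h3 : 2401 * p ^ 2 * h ^ 2 ≤ 14400 * S * (v - 1)) : 49 * p ≤ 60 * (a + r) := by
  have h4 : 14400 * S * (v - 1) ≤ 14400 * (a * r) * h ^ 2 :=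
    calc _ ≤ 14400 * (a * h) * (r * h) := by gcongr; omega
      _ = _ := by ring
  have h5 := Nat.le_of_mul_le_mul_right (h3.trans h4) (pow_pos hh 2)
  refine Nat.le_of_not_lt fun hl => ?_
  have h6 : (60 * (a + r)) ^ 2 < (49 * p) ^ 2 := Nat.pow_lt_pow_left hl two_ne_zero
  have h7 : 4 * (a * r) ≤ (a + r) ^ 2 := by nlinarith [sq_nonneg ((a : ℤ) - r)]
  nlinarith

section central

variable [Finite G] {Z N : Subgroup G} (hZ : ∀ z ∈ Z, ∀ g : G, z * g = g * z)
include hZ

theorem normal_of : Z.Normal := ⟨fun z hz g => by rwa [← hZ z hz g, mul_inv_cancel_right]⟩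

theorem cz_eq (x : G) : ∃ j, cz x = Nat.card Z * j ∧ x ^ j ∈ Z ∧ 0 < j := by
  have := normal_of hZ
  have hle : Z ≤ centralizer {x} := fun z hz => mem_centralizer_singleton_iff.2 (hZ z hz x)
  refine ⟨Z.relIndex (centralizer {x}), ?_, ?_, Nat.pos_of_ne_zero index_ne_zero_of_finite⟩
  · rw [cz, ← relIndex_bot_left, ← relIndex_bot_left, relIndex_mul_relIndex _ _ _ bot_le hle]
  · exact pow_index_mem (Z.subgroupOf (centralizer {x})) ⟨x, mem_centralizer_singleton_iff.2 rfl⟩

theorem cz2 {x : G} (h : x ∉ Z) : 2 * Nat.card Z ≤ cz x := by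
  obtain ⟨j, e, hj, h0⟩ := cz_eq hZ x
  have : j ≠ 1 := fun e => h (by simpa [e] using hj)
  rw [e, mul_comm]; gcongr; omega

theorem cz3 {x : G} (h : x ∉ Z) (h2 : x ^ 2 ∉ Z) : 3 * Nat.card Z ≤ cz x := by
  obtain ⟨j, e, hj, h0⟩ := cz_eq hZ x
  have : j ≠ 1 := fun e => h (by simpa [e] using hj)
  have : j ≠ 2 := fun e => h2 (e ▸ hj)
  rw [e, mul_comm]; gcongr; omega

theorem cz4 {x : G} (h2 : x ^ 2 ∉ Z) (h4 : (x ^ 2) ^ 2 ∈ Z) : 4 * Nat.card Z ≤ cz x := by
  obtain ⟨j, e, hj, h0⟩ := cz_eq hZ x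
  have h : x ∉ Z := fun h => h2 (pow_mem h 2)
  have : j ≠ 1 := fun e => h (by simpa [e] using hj)
  have : j ≠ 2 := fun e => h2 (e ▸ hj)
  have : j ≠ 3 := fun e => h (by
    have := mul_mem h4 (inv_mem (e ▸ hj : x ^ 3 ∈ Z))
    rwa [show (x ^ 2) ^ 2 * (x ^ 3)⁻¹ = x by group] at this)
  rw [e, mul_comm]; gcongr; omega

open Classical in
theorem sum_Z [Fintype G] : ∑ x : G with x ∈ Z, cz x = Nat.card Z * Nat.card G := by
  rw [sum_congr rfl (g := fun _ => Nat.card G) fun x hx => by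
    rw [cz, centralizer_eq_top_iff_subset.2 (by
      rintro _ rfl
      exact mem_center_iff.2 fun g => (hZ _ (mem_filter.1 hx).2 g).symm), card_top],
    sum_const, card_filter_mem, smul_eq_mul]

/-- first estimate -/
theorem cS1 : Nat.card Z ^ 2 * (3 * Z.index - 2) ≤ kk G * Nat.card G := by
  classical
  have := Fintype.ofFinite G
  have h1 := card_nsmul_le_sum (univ.filter fun x : G => ¬ x ∈ Z) cz _ fun x hx =>
    cz2 hZ (mem_filter.1 hx).2
  have h2 := card_filter_add_card_filter_not (s := univ) (fun x : G => x ∈ Z)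
  rw [kk_mul, ← sum_filter_add_sum_filter_not univ (· ∈ Z), sum_Z hZ]
  rw [card_filter_mem, card_univ, ← Nat.card_eq_fintype_card, ← Z.card_mul_index] at h2
  rw [← Z.card_mul_index]
  obtain ⟨j, hj⟩ := Nat.exists_eq_succ_of_ne_zero (Z.index_ne_zero_of_finite)
  rw [hj] at h2 ⊢
  rw [show #{x : G | ¬ x ∈ Z} = Nat.card Z * j by rw [Nat.mul_succ] at h2; omega] at h1
  rw [show 3 * j.succ - 2 = 3 * j + 1 by omega]
  refine le_trans (le_of_eq ?_) (Nat.add_le_add_left h1 _)
  simp only [smul_eq_mul, Nat.succ_eq_add_one]; ring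

/-- second estimate, for a self-centralising elementary abelian `2`-section `N / Z` -/
theorem cS2 [IsCyclic Z] [hN : N.Normal] (hle : Z < N) (hsq : ∀ a ∈ N, a ^ 2 ∈ Z)
    (hc : ∀ a ∈ N, ∀ b ∈ N, ⁅a, b⁆ ∈ Z) (h3 : ∀ g, (∀ a ∈ N, ⁅g, a⁆ ∈ Z) → g ∈ N) :
    Nat.card Z ^ 2 * (9 * Z.index - 6 * Z.relIndex N) ≤ 2 * (kk G * Nat.card G) := by
  classical
  have := Fintype.ofFinite G
  have := normal_of hZ
  -- classes in `N - Z`
  have hA : Nat.card Z * Nat.card G ≤ 2 * ∑ x : G with x ∈ N ∧ x ∉ Z, cz x := by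
    obtain ⟨x, hx, hx'⟩ := SetLike.exists_of_lt hle
    let Q : ConjClasses G → Prop := fun C => ∃ y ∈ N, y ∉ Z ∧ ConjClasses.mk y = C
    have hQ : ∀ y, Q (ConjClasses.mk y) ↔ y ∈ N ∧ y ∉ Z := fun y =>
      ⟨fun ⟨w, hw, h1, e⟩ => by
        obtain ⟨c, rfl⟩ := isConj_iff.1 (ConjClasses.mk_eq_mk_iff_isConj.1 e)
        exact ⟨hN.conj_mem w hw c, fun h => h1 (by
          simpa [mul_assoc] using this.conj_mem _ h c⁻¹)⟩, fun h => ⟨y, h.1, h.2, rfl⟩⟩
    have h1 := H24.card_classes_mul_card Q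
    simp only [hQ] at h1
    rw [← h1, ← mul_assoc]
    gcongr
    have := Fintype.ofFinite {C // Q C}
    let φ : Z → {C // Q C} := fun z => ⟨ConjClasses.mk (x * z), (hQ _).2
      ⟨mul_mem hx (hle.le z.2), fun h => hx' ((mul_mem_cancel_right z.2).1 h)⟩⟩
    rw [Nat.card_eq_fintype_card, Nat.card_eq_fintype_card, ← card_univ, ← card_univ]
    refine card_le_mul_card_image_of_maps_to (f := φ) (fun _ _ => mem_univ _) 2 fun C _ => ?_
    rcases (univ.filter fun z => φ z = C).eq_empty_or_nonempty with e | ⟨z, hz⟩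
    · simp [e]
    refine le_trans (card_le_card_of_injOn (fun w => z⁻¹ * w) (fun w hw => ?_)
      fun _ _ _ _ e => mul_left_cancel e) (IsCyclic.card_pow_eq_one_le (α := Z) two_pos)
    obtain ⟨c, hc⟩ := isConj_iff.1 (ConjClasses.mk_eq_mk_iff_isConj.1 (congrArg Subtype.val
      ((mem_filter.1 hz).2.trans (mem_filter.1 hw).2.symm)))
    have e1 : ∀ y : Z, (x * y) ^ 2 = x ^ 2 * y ^ 2 := fun y =>
      Commute.mul_pow (hZ y y.2 x).symm 2
    have e2 : (x * z) ^ 2 = (x * w) ^ 2 := by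
      rw [← hc, conj_pow, ← hZ _ (hsq _ (mul_mem hx (hle.le z.2))) c, mul_inv_cancel_right]
    rw [e1, e1, mul_right_inj] at e2
    simp only [coe_filter, mem_univ, true_and, Set.mem_ofPred_eq]
    refine Subtype.ext ?_
    change ((z : G)⁻¹ * w) ^ 2 = 1
    rw [Commute.mul_pow (hZ _ (inv_mem z.2) w), inv_pow, e2, inv_mul_cancel]
  -- elements outside `N`
  have hB : #{x : G | ¬ x ∈ N} * (6 * Nat.card Z) ≤ 2 * ∑ x : G with ¬ x ∈ N, cz x := by
    have ex : ∀ c : G ⧸ N, ∃ a ∈ N, ∀ x : G, (x : G ⧸ N) = c → x ∉ N →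
        6 * Nat.card Z ≤ cz x + cz (x * a) := fun c => by
      obtain ⟨y, rfl⟩ := QuotientGroup.mk_surjective c
      by_cases hy : y ∈ N
      · exact ⟨1, one_mem N, fun x e hx => (hx ((QuotientGroup.eq_one_iff x).1
          (e.trans ((QuotientGroup.eq_one_iff y).2 hy)))).elim⟩
      have p2 : ∀ x : G, (x : G ⧸ N) = y → (x ^ 2 ∈ N ↔ y ^ 2 ∈ N) := fun x e => by
        rw [← QuotientGroup.eq_one_iff, ← QuotientGroup.eq_one_iff, QuotientGroup.mk_pow,
          QuotientGroup.mk_pow, e]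
      by_cases h2 : y ^ 2 ∈ N
      · obtain ⟨a, ha, hn⟩ : ∃ a ∈ N, ⁅y, a⁆ ∉ Z := by
          by_contra h; push Not at h; exact hy (h3 y h)
        refine ⟨a, ha, fun x e hx => ?_⟩
        have hxa : x * a ∉ N := fun h => hx ((mul_mem_cancel_right ha).1 h)
        have e' : ((x * a : G) : G ⧸ N) = y := by rw [QuotientGroup.mk_mul_of_mem x ha, e]
        have c1 := cz2 hZ fun h => hx (hle.le h)
        have c2 := cz2 hZ fun h => hxa (hle.le h)
        by_cases s1 : x ^ 2 ∈ Z
        · have := cz4 hZ (x := x * a) (fun s2 => hn ?_) (hsq _ ((p2 _ e').2 h2))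
          · omega
          have k1 : ⁅x, a⁆ ∈ Z := by
            have := mul_mem (mul_mem s2 (inv_mem (hsq a ha))) (inv_mem s1)
            rwa [show (x * a) ^ 2 * (a ^ 2)⁻¹ * (x ^ 2)⁻¹ = ⁅x, a⁆ by
              rw [← mul_left_inj (x ^ 2), inv_mul_cancel_right, commutatorElement_def, mul_assoc _ a⁻¹,
                ← hZ _ s1 a⁻¹]
              simp only [sq]; group] at this
          have k2 := hc _ (QuotientGroup.eq.1 e) a ha
          have := mul_mem (this.conj_mem _ k2 x) k1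
          rwa [show x * ⁅x⁻¹ * y, a⁆ * x⁻¹ * ⁅x, a⁆ = ⁅y, a⁆ by
            simp only [commutatorElement_def]; group] at this
        · have := cz4 hZ s1 (hsq _ ((p2 _ e).2 h2))
          omega
      · refine ⟨1, one_mem N, fun x e hx => ?_⟩
        have := cz3 hZ (fun h => hx (hle.le h)) fun h => h2 ((p2 x e).1 (hle.le h))
        rw [mul_one]; omega
    choose a ha hb using ex
    have e : ∑ x : G with ¬ x ∈ N, cz (x * a x) = ∑ x : G with ¬ x ∈ N, cz x := by
      refine sum_bij' (fun x _ => x * a x) (fun x _ => x * (a x)⁻¹) (fun x hx => ?_)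
        (fun x hx => ?_) (fun x _ => ?_) (fun x _ => ?_) fun _ _ => rfl
      · simpa [mul_mem_cancel_right (ha _)] using hx
      · simpa [mul_mem_cancel_right (inv_mem (ha _))] using hx
      · rw [QuotientGroup.mk_mul_of_mem x (ha _), mul_inv_cancel_right]
      · rw [QuotientGroup.mk_mul_of_mem x (inv_mem (ha _)), inv_mul_cancel_right]
    rw [two_mul]
    nth_rewrite 2 [← e]
    rw [← sum_add_distrib]
    exact card_nsmul_le_sum _ _ _ fun x hx => hb _ x rfl (mem_filter.1 hx).2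
  have h2 := card_filter_add_card_filter_not (s := univ) (fun x : G => x ∈ N)
  have h4 : Nat.card N = Nat.card Z * Z.relIndex N := by
    rw [← relIndex_bot_left, ← relIndex_bot_left, relIndex_mul_relIndex _ _ _ bot_le hle.le]
  rw [card_filter_mem, card_univ, ← Nat.card_eq_fintype_card, ← Z.card_mul_index, h4] at h2
  rw [kk_mul, ← sum_filter_add_sum_filter_not univ (· ∈ N),
    ← sum_filter_add_sum_filter_not (univ.filter (· ∈ N)) (· ∈ Z), filter_filter, filter_filter,
    show (univ.filter fun x : G => x ∈ N ∧ x ∈ Z) = univ.filter (· ∈ Z) from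
      filter_congr fun x _ => ⟨fun h => h.2, fun h => ⟨hle.le h, h⟩⟩, sum_Z hZ]
  rw [← Z.card_mul_index] at hA ⊢
  obtain ⟨j, hj⟩ : ∃ j, Z.index = Z.relIndex N + j := Nat.exists_eq_add_of_le
    (Nat.le_of_mul_le_mul_left (h2 ▸ Nat.le_add_right _ _) Nat.card_pos)
  rw [hj] at h2 hA ⊢
  rw [show #{x : G | ¬ x ∈ N} = Nat.card Z * j by rw [mul_add] at h2; omega] at hB
  rw [show 9 * (Z.relIndex N + j) - 6 * Z.relIndex N = 3 * Z.relIndex N + 9 * j by omega]
  nlinarith

end central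

end H10.Kg
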