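import Cfsg.Agent.H10.KgImp
import Cfsg.Agent.H3.AutP

/-! Lower bounds for class numbers: orders of small solvable linear groups. -/

set_option autoImplicit false
set_option linter.unusedSectionVars false

namespace H10.Kg

open Subgroup Finset H33.Solv Cfsg

universe u

theorem kk_index {G : Type*} [Group G] [Finite G] (K : Subgroup G) : kk G ≤ K.index * kk K := by
  classical
  have := Fintype.ofFinite G
  have h1 : ∀ x : G, cz x ≤ K.index * #{y : G | y ∈ K ∧ Commute x y} := fun x => by
    rw [show #{y : G | y ∈ K ∧ Commute x y} = Nat.card (K ⊓ centralizer {x} : Subgroup G) by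
      rw [← card_filter_mem]
      exact congrArg _ (filter_congr fun y _ => and_congr_right fun _ =>
        ⟨fun h => mem_centralizer_singleton_iff.2 h.symm, fun h =>
          (mem_centralizer_singleton_iff.1 h).symm⟩), cz, ← relIndex_bot_left, ← relIndex_bot_left,
      ← relIndex_mul_relIndex ⊥ (K ⊓ centralizer {x}) _ bot_le inf_le_right, mul_comm,
      inf_relIndex_right]
    exact Nat.mul_le_mul_right _ (relIndex_le_of_le_right le_top (by
      rw [relIndex_top_right]; exact index_ne_zero_of_finite) |>.trans_eq (relIndex_top_right K))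
  have h2 : ∑ x : G, #{y : G | y ∈ K ∧ Commute x y} = ∑ y : K, cz (y : G) := by
    rw [← sum_subtype (univ.filter (· ∈ K)) (by simp) cz]
    simp only [← filter_filter]
    refine (sum_card_bipartiteAbove_eq_sum_card_bipartiteBelow (s := univ)
      (t := univ.filter (· ∈ K)) fun x y : G => Commute x y).trans (sum_congr rfl fun y _ => ?_)
    rw [cz, H24.card_centralizer_eq_card_filter]
    exact congrArg _ (filter_congr fun x _ => Commute.symm_iff)
  have h3 : ∀ y : K, #{x : G | x ∈ K ∧ Commute (y : G) x} = cz y := fun y => by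
    rw [H24.card_filter_mem_commute, cz, H24.card_centralizer_eq_card_filter]
  refine Nat.le_of_mul_le_mul_right ?_ (Nat.card_pos (α := G))
  calc _ ≤ K.index * ∑ y : K, cz (y : G) := by
        rw [kk_mul, ← h2, mul_sum]; exact sum_le_sum fun x _ => h1 x
    _ ≤ K.index * (K.index * (kk K * Nat.card K)) := by
        refine Nat.mul_le_mul_left _ ?_
        rw [kk_mul, mul_sum]
        exact sum_le_sum fun y _ => h3 y ▸ h1 y
    _ = _ := by rw [← K.index_mul_card]; ring

theorem kk_inj {G H : Type*} [Group G] [Finite G] [Group H] (j : H →* G)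
    (hj : Function.Injective j) : kk G * Nat.card H ≤ kk H * Nat.card G := by
  have := Finite.of_injective j hj
  rw [kk_congr (MonoidHom.ofInjective hj), Nat.card_congr (MonoidHom.ofInjective hj).toEquiv,
    ← j.range.index_mul_card, ← mul_assoc]
  exact Nat.mul_le_mul_right _ ((kk_index j.range).trans_eq (mul_comm _ _))

theorem faith (G : Type*) (W : Type u) [Group G] [Finite G] [AddCommGroup W]
    [DistribMulAction G W] (hs : Group.IsSolvable G) :
    ∃ (X : Type u) (_ : Group X) (_ : Finite X) (_ : DistribMulAction X W) (_ : FaithfulSMul X W)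
      (f : G →* X), Group.IsSolvable X ∧ Function.Surjective f ∧ ∀ g (w : W), f g • w = g • w :=
  let ρ := MulAction.toPermHom G W
  let _ : DistribMulAction ρ.range W :=
    { smul_zero := by rintro ⟨_, g, rfl⟩; exact smul_zero g
      smul_add := by rintro ⟨_, g, rfl⟩; exact smul_add g }
  ⟨ρ.range, inferInstance, Finite.of_surjective _ ρ.rangeRestrict_surjective, inferInstance,
    ⟨fun e => Subtype.ext (Equiv.ext e)⟩, ρ.rangeRestrict,
    Group.isSolvable_of_surjective ρ.rangeRestrict_surjective, ρ.rangeRestrict_surjective,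
    fun _ _ => rfl⟩

variable {X : Type*} {W : Type u} [Group X] [Finite X] [AddCommGroup W] [Finite W]
  [DistribMulAction X W] [FaithfulSMul X W]

theorem bound3 (h : Nat.card W = 9) {a b : W} {A : AddSubgroup W} (ha : a ∈ A) (h0 : a ≠ 0)
    (hb : b ∉ A) (hk : ∀ k : X, k • a = a → k • b - b ∈ A) : Nat.card X ≤ 24 := by
  have d9 : ∀ U : AddSubgroup W, Nat.card U = 1 ∨ Nat.card U = 3 ∨ Nat.card U = 9 := fun U =>
    (by decide : ∀ n ∈ Nat.divisors 9, n = 1 ∨ n = 3 ∨ n = 9) _
      (Nat.mem_divisors.2 ⟨h ▸ U.card_addSubgroup_dvd_card, by decide⟩)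
  have le3 : ∀ U : AddSubgroup W, U ≠ ⊤ → Nat.card U ≤ 3 := fun U hU => by
    have : Nat.card U ≠ 9 := fun e => hU (AddSubgroup.eq_top_of_card_eq U (e.trans h.symm))
    have := d9 U
    omega
  have h1 : ∀ k : X, k • a = a → k • b = b → k = 1 := fun k e1 e2 =>
    eq_of_smul_eq_smul (α := W) fun w => by
      have : fix W k = ⊤ := by_contra fun hn => by
        have k1 : Nat.card (A ⊓ fix W k : AddSubgroup W) ≠ 1 := fun e =>
          h0 (AddSubgroup.mem_bot.1 (AddSubgroup.card_eq_one.1 e ▸ ⟨ha, e1⟩))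
        have k2 := d9 (A ⊓ fix W k)
        have k3 := le3 _ hn
        exact hb ((AddSubgroup.eq_of_le_of_card_ge (inf_le_right : A ⊓ fix W k ≤ _)
          (by omega)).ge e2).1
      rw [one_smul]
      exact this.ge (AddSubgroup.mem_top w)
  have h2 : Nat.card (MulAction.stabilizer X a) ≤ 3 :=
    (Nat.card_le_card_of_injective (fun k : MulAction.stabilizer X a => (⟨_, hk k k.2⟩ : A))
      fun k l e => Subtype.ext (inv_mul_eq_one.1 (h1 _ (mul_mem (inv_mem k.2) l.2) (by
        rw [mul_smul, inv_smul_eq_iff]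
        exact (sub_left_injective (congrArg Subtype.val e)).symm)))).trans
      (le3 A fun e => hb (e ▸ trivial))
  have h3 : (MulAction.stabilizer X a).index ≤ 8 := by
    rw [MulAction.index_stabilizer]
    refine (Set.ncard_le_ncard (t := Set.univ \ {0}) ?_).trans ?_
    · rintro _ ⟨g, rfl⟩
      exact ⟨trivial, fun e => h0 ((smul_eq_zero_iff_eq g).1 e)⟩
    · rw [Set.ncard_sdiff_singleton_of_mem (Set.mem_univ _), Set.ncard_univ, h]
  rw [← (MulAction.stabilizer X a).card_mul_index]
  exact Nat.mul_le_mul h2 h3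

theorem bound6 (hs : Group.IsSolvable X) (h : Nat.card W = 36) (h6 : ∀ w : W, 6 • w = 0) :
    Nat.card X ≤ 288 := by
  have key : ∀ r : ℕ, r.Prime → ∃ (Y : Type u) (_ : Group Y) (_ : Finite Y) (f : X →* Y) (s : ℕ),
      r ^ s ∣ 36 ∧ Nat.card Y ≤ ∏ i ∈ range s, (r ^ s - r ^ i) ∧
        ∀ g k, f g = f k → ∀ w : W, r • w = 0 → g • w = k • w := fun r hr => by
    let _ := subAct (G := X) (nsmulAddMonoidHom r : W →+ W).ker fun g v hv => by
      change r • g • v = 0
      rw [smul_comm, show r • v = 0 from hv, smul_zero]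
    obtain ⟨Y, _, _, _, _, f, -, -, hf⟩ := faith X (nsmulAddMonoidHom r : W →+ W).ker hs
    have hU : ∀ w : (nsmulAddMonoidHom r : W →+ W).ker, r • w = 0 := fun w => Subtype.ext w.2
    obtain ⟨s, e⟩ := card_eq_pow hr hU
    exact ⟨Y, inferInstance, inferInstance, f, s, e ▸ h ▸ AddSubgroup.card_addSubgroup_dvd_card _,
      Nat.le_of_dvd (gl_pos hr) (card_dvd_gl hr hU e), fun g k e w hw =>
        congrArg Subtype.val ((hf g ⟨w, hw⟩).symm.trans (e ▸ hf k ⟨w, hw⟩))⟩
  obtain ⟨Y, _, _, f, s, h1, h2, h3⟩ := key 2 Nat.prime_two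
  obtain ⟨Y', _, _, f', s', h1', h2', h3'⟩ := key 3 Nat.prime_three
  have := Nat.card_le_card_of_injective (fun g => (f g, f' g)) fun g k e =>
    eq_of_smul_eq_smul (α := W) fun w => by
      rw [show w = 3 • w - 2 • w by abel, smul_sub, smul_sub,
        h3 g k (congrArg Prod.fst e) _ (by rw [← mul_smul]; exact h6 w),
        h3' g k (congrArg Prod.snd e) _ (by rw [← mul_smul]; exact h6 w)]
  rw [Nat.card_prod] at this
  have a1 : s < 3 := by
    by_contra hn
    exact absurd ((Nat.pow_dvd_pow 2 (Nat.le_of_not_lt hn)).trans h1) (by decide)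
  have a2 : s' < 3 := by
    by_contra hn
    exact absurd ((Nat.pow_dvd_pow 3 (Nat.le_of_not_lt hn)).trans h1') (by decide)
  refine this.trans (show _ ≤ 6 * 48 from Nat.mul_le_mul (h2.trans ?_) (h2'.trans ?_))
  · interval_cases s <;> decide
  · interval_cases s' <;> decide

theorem bound4 (hs : Group.IsSolvable X) (hc : CR X W) (h : Nat.card W = 16)
    (h2 : ∀ w : W, 2 • w = 0) (nf : ∀ w : W, (∀ g : X, g • w = w) → w = 0) :
    Nat.card X ≤ 144 := by
  have hd : Nat.card X ∣ 20160 := card_dvd_gl (s := 4) Nat.prime_two h2 h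
  have d16 : ∀ U : AddSubgroup W, Nat.card U = 1 ∨ Nat.card U = 2 ∨ Nat.card U = 4 ∨
      Nat.card U = 8 ∨ Nat.card U = 16 := fun U =>
    (by decide : ∀ n ∈ Nat.divisors 16, n = 1 ∨ n = 2 ∨ n = 4 ∨ n = 8 ∨ n = 16) _
      (Nat.mem_divisors.2 ⟨h ▸ U.card_addSubgroup_dvd_card, by decide⟩)
  have top : ∀ g : X, Nat.card (fix W g) = 16 → g = 1 := fun g e =>
    eq_of_smul_eq_smul (α := W) fun w => by
      rw [one_smul]
      exact (AddSubgroup.eq_top_of_card_eq _ (e.trans h.symm)).ge (AddSubgroup.mem_top w)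
  have := Fact.mk Nat.prime_three
  by_cases h0 : pPrimeCore 3 X = ⊥
  · have hC := H2.centralizer_pCore_le h0
    obtain ⟨k, hk⟩ := H2.exists_card_pCore 3 X
    by_cases hcy : IsCyclic (pCore 3 X)
    · by_cases hb : pCore 3 X = ⊥
      · rw [hb] at hC
        have := card_le_of_le hC
        rw [coe_bot, centralizer_eq_top_iff_subset.2 (by simp), card_top, card_bot] at this
        omega
      have := card_le_cyclic hC hb
      have h9 : 3 ^ k ≤ 3 ^ 2 := Nat.pow_le_pow_right (by decide) (Nat.le_of_not_lt fun hn =>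
        absurd ((Nat.pow_dvd_pow 3 hn).trans (hk ▸ (card_subgroup_dvd_card _).trans hd)) (by decide))
      exact this.trans ((Nat.mul_le_mul (Nat.sub_le_sub_right (hk.le.trans h9) 1)
        (hk.le.trans h9)).trans (by decide))
    have hk2 : k = 2 := by
      have : ¬ 3 ≤ k := fun hn =>
        absurd ((Nat.pow_dvd_pow 3 hn).trans (hk ▸ (card_subgroup_dvd_card _).trans hd)) (by decide)
      have : k ≠ 0 := fun e => hcy (@isCyclic_of_subsingleton _ _ (Nat.card_eq_one_iff_unique.1
        (by rw [hk, e, pow_zero])).1)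
      have : k ≠ 1 := fun e => hcy (isCyclic_of_prime_card (p := 3) (by rw [hk, e, pow_one]))
      omega
    subst hk2
    have hcm := (IsPGroup.isMulCommutative_of_card_eq_prime_sq hk).is_comm.comm
    have h3 := H3.card_mulAut_of_elementary hcm (fun a => by
      have := Monoid.pow_exponent_eq_one a
      rwa [(not_isCyclic_iff_exponent_eq_prime Nat.prime_three hk).1 hcy] at this) hk
    have h4 : (MulAut.conjNormal (H := pCore 3 X)).ker = pCore 3 X :=
      le_antisymm (fun g hg => hC fun a ha => by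
        have := congrArg Subtype.val (DFunLike.congr_fun hg ⟨a, ha⟩)
        exact (mul_inv_eq_iff_eq_mul.1 this).symm) fun g hg => MulEquiv.ext fun a => Subtype.ext (by
          rw [MulAut.conjNormal_apply, mul_inv_eq_iff_eq_mul]
          exact congrArg Subtype.val (hcm ⟨g, hg⟩ a))
    have h5 : (pCore 3 X).index ∣ 48 := by
      rw [← h4, index_ker]
      exact (card_subgroup_dvd_card _).trans (h3.trans (by decide)).dvd
    rw [← (pCore 3 X).card_mul_index, hk] at hd ⊢
    have := Nat.le_of_dvd (by decide) (Nat.dvd_gcd h5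
      ((Nat.mul_dvd_mul_iff_left (c := 2240) (by decide)).1 hd))
    exact Nat.mul_le_mul_left 9 this
  obtain ⟨s, M, hs', hM, hle, hM0, hel, hp, -⟩ := H2.exists_elementaryAbelian_normal_le _ h0
  have := Fact.mk hs'
  obtain ⟨k, hk⟩ := hp.exists_card_eq
  have hk0 : k ≠ 0 := fun e => hM0 (card_eq_one.1 (by rw [hk, e, pow_zero]))
  have s3 : s ≠ 3 := fun e => H2.not_dvd_card_pPrimeCore 3 X
    (e.symm.dvd.trans ((dvd_pow_self s hk0).trans (hk ▸ card_dvd_of_le hle)))
  have s2 : s ≠ 2 := fun e => hM0 (eq_bot_iff.2 fun a ha => eq_of_smul_eq_smul (α := W) fun w => by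
    rw [one_smul]; exact hc.normal_p Nat.prime_two h2 hM (e ▸ hp) a ha w)
  have hd' : s ^ k ∣ 20160 := hk ▸ (card_subgroup_dvd_card M).trans hd
  have s57 : s = 5 ∨ s = 7 := by
    have := (dvd_pow_self s hk0).trans hd'
    rw [show 20160 = 2 ^ 6 * 3 ^ 2 * 5 * 7 by decide, hs'.dvd_mul, hs'.dvd_mul, hs'.dvd_mul,
      hs'.prime.dvd_pow_iff_dvd (by decide), hs'.prime.dvd_pow_iff_dvd (by decide),
      Nat.prime_dvd_prime_iff_eq hs' Nat.prime_two, Nat.prime_dvd_prime_iff_eq hs' Nat.prime_three,
      Nat.prime_dvd_prime_iff_eq hs' Nat.prime_five,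
      Nat.prime_dvd_prime_iff_eq hs' Nat.prime_seven] at this
    tauto
  have hk1 : k = 1 := by
    by_contra hn
    have := (Nat.pow_dvd_pow s (show 2 ≤ k by omega)).trans hd'
    rcases s57 with rfl | rfl <;> exact absurd this (by decide)
  rw [hk1, pow_one] at hk
  obtain ⟨a, ha, a1⟩ := (bot_or_exists_ne_one M).resolve_left hM0
  have gen : ∀ b ∈ M, b ≠ 1 → ∀ c ∈ M, c ∈ zpowers b := fun b hb b1 c hc =>
    let ⟨i, hi⟩ := mem_zpowers_of_prime_card hk (g := ⟨b, hb⟩) (g' := ⟨c, hc⟩)
      fun e => b1 (congrArg Subtype.val e)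
    ⟨i, congrArg Subtype.val hi⟩
  have as := hel.2 a ha
  rcases s57 with rfl | rfl
  · have h4 := card_le_index_mul (K := ⊤) (F := M) (a := a) (S := M \ {1})
      fun g _ => ⟨hM.conj_mem a ha g, by simpa using a1⟩
    rw [Set.ncard_sdiff_singleton_of_mem (one_mem M), card_top, top_inf_eq] at h4
    change _ ≤ (Nat.card M - 1) * _ at h4
    have h5 := card_dvd_pred (H := centralizer {a}) (W := W) fun g g1 w hw => by
      let _ := subAct (G := zpowers a) (fix W g.1) fun c v hv => by
        change g.1 • c.1 • v = c.1 • v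
        obtain ⟨i, hi⟩ := c.2
        rw [← mul_smul, ← hi, (Commute.zpow_right (mem_centralizer_singleton_iff.1 g.2) i).eq,
          mul_smul, show g.1 • v = v from hv]
      have e1 := card_fix_modEq (V := fix W g.1) (g := (⟨a, mem_zpowers a⟩ : zpowers a))
        Nat.prime_five (Subtype.ext as)
      have e2 := card_fix_modEq (V := W) Nat.prime_five as
      have e3 : Nat.card (fix W a) = 1 := by
        have := mt (top a) a1
        have h16 := d16 (fix W a)
        rw [h, Nat.ModEq] at e2
        omega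
      rw [show fix (fix W g.1) (⟨a, mem_zpowers a⟩ : zpowers a) = ⊥ from eq_bot_iff.2 fun v hv =>
        Subtype.ext (AddSubgroup.mem_bot.1 (AddSubgroup.card_eq_one.1 e3 ▸
          congrArg Subtype.val hv)), AddSubgroup.card_bot] at e1
      have := mt (top g.1) fun e => g1 (Subtype.ext e)
      have h16 := d16 (fix W g.1)
      rw [Nat.ModEq] at e1
      exact AddSubgroup.mem_bot.1 ((AddSubgroup.card_eq_one.1 (show Nat.card (fix W g.1) = 1 by
        omega)).le hw)
    rw [h] at h5
    have := Nat.le_of_dvd (by decide) h5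
    rw [hk] at h4
    omega
  · have e2 := card_fix_modEq (V := W) Nat.prime_seven as
    have e3 : Nat.card (fix W a) = 2 := by
      have := mt (top a) a1
      have h16 := d16 (fix W a)
      rw [h, Nat.ModEq] at e2
      omega
    obtain ⟨w, w0, hw⟩ := (Nat.card_eq_two_iff' (0 : fix W a)).1 e3
    refine (w0 (Subtype.ext (nf w fun g => congrArg Subtype.val (hw ⟨g • w, ?_⟩ fun e =>
      w0 (Subtype.ext ((smul_eq_zero_iff_eq g).1 (congrArg Subtype.val e))))))).elim
    have := fix_zpow w.2 (gen a ha a1 _ (hM.conj_mem a ha g⁻¹))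
    rwa [mul_smul, mul_smul, inv_smul_eq_iff, inv_inv] at this

end H10.Kg
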