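import Cfsg.Agent.H10.KgLin

/-! Lower bounds for class numbers: the structure of quasi-primitive solvable linear groups. -/

set_option autoImplicit false
set_option linter.unusedSectionVars false

namespace H10.Kg

open Subgroup Finset H33.Solv Cfsg
open scoped commutatorElement

universe u

section scal

variable {G K V : Type*} [Group G] [Finite G] [Field K] [AddCommGroup V] [Module K V]
  [DistribMulAction G V] [Nontrivial V] (s : Scal K G V)

theorem scal_index [Finite K] {p f : ℕ} (hp : p.Prime) (hV : ∀ v : V, p • v = 0)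
    (h : Nat.card K = p ^ f) : (centralizer (s.ι.range : Set G)).index ≤ f := by
  have := Fact.mk hp
  obtain ⟨v, hv⟩ := exists_ne (0 : V)
  have : CharP K p := (CharP.charP_iff_prime_eq_zero hp).2 (by
    have := hV v
    rw [← Nat.cast_smul_eq_nsmul K] at this
    exact (smul_eq_zero.1 this).resolve_right hv)
  let _ := ZMod.algebra K p
  have hf : Module.finrank (ZMod p) K = f := by
    rw [Module.natCard_eq_pow_finrank (K := ZMod p), Nat.card_zmod] at h
    exact Nat.pow_right_injective hp.two_le h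
  have ex : ∀ (g : G) (c : K), ∃ c' : K, ∀ v : V, g • c • v = c' • g • v := fun g c => by
    rcases eq_or_ne c 0 with rfl | hc
    · exact ⟨0, fun v => by rw [zero_smul, zero_smul, smul_zero]⟩
    · obtain ⟨c', -, e⟩ := s.semi g (Units.mk0 c hc)
      exact ⟨c', e⟩
  choose φ hφ using ex
  have uniq : ∀ (g : G) {a b : K}, a • g • v = b • g • v → a = b := fun g a b e =>
    smul_left_injective K (mt (smul_eq_zero_iff_eq g).1 hv) e
  let ψ : G → K →+* K := fun g =>
    { toFun := φ g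
      map_one' := uniq g (by rw [← hφ, one_smul, one_smul])
      map_mul' := fun a b => uniq g (by rw [← hφ, mul_smul, mul_smul, hφ, hφ])
      map_zero' := uniq g (by rw [← hφ, zero_smul, zero_smul, smul_zero])
      map_add' := fun a b => uniq g (by rw [← hφ, add_smul, add_smul, smul_add, hφ, hφ]) }
  refine le_trans (Nat.card_le_card_of_injective (fun ω => (⟨ψ ω.out, fun r => DFunLike.congr_fun
    (RingHom.ext_zmod ((ψ ω.out).comp (algebraMap _ K)) _) r⟩ : K →ₐ[ZMod p] K)) fun a b e => ?_)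
    ((card_algHom_le_finrank _ K K).trans hf.le)
  rw [← a.out_eq, ← b.out_eq, QuotientGroup.eq]
  obtain ⟨c, hc⟩ := IsCyclic.exists_generator (α := Kˣ)
  refine s.lin_of hc hv ?_
  have : φ a.out c = φ b.out c := DFunLike.congr_fun e (c : K)
  rw [mul_smul, mul_smul, hφ, ← this, inv_smul_eq_iff, hφ, smul_inv_smul]

theorem scal_sq [Module.Finite K V] {N : Subgroup G} (h : NS s.ι.range N) :
    s.ι.range.relIndex N ≤ Module.finrank K V ^ 2 := by
  have := Fintype.ofFinite (N ⧸ s.ι.range.subgroupOf N)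
  obtain ⟨v, hv⟩ := exists_ne (0 : V)
  choose χ hχ using fun (a b : N) => h.comm b b.2 a a.2
  have := (li_of_chars (K := K) (x := fun ω : N ⧸ s.ι.range.subgroupOf N => s.toLin (h.cent _ ω.out.2))
    (fun b : N => LinearMap.mulLeftRight K (s.toLin (h.cent _ b.2), s.toLin (h.cent _ b⁻¹.2)))
    (χ := fun ω b => χ ω.out b) (fun a b e => by
      rw [← a.out_eq, ← b.out_eq, QuotientGroup.eq]
      refine h.n2 _ fun c hc => comm_eq_iff.1 ?_
      rw [← hχ a.out ⟨c, hc⟩, ← hχ b.out ⟨c, hc⟩, Units.ext (congrFun e ⟨c, hc⟩)])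
    (fun ω e => hv ((smul_eq_zero_iff_eq ω.out.1).1 (LinearMap.congr_fun e v))) fun ω b =>
      LinearMap.ext fun w => by
        change b.1 • ω.out.1 • b.1⁻¹ • w = (χ ω.out b : K) • ω.out.1 • w
        rw [← s.smul, hχ, commutatorElement_def, mul_smul, mul_smul, mul_smul,
          inv_smul_smul]).fintype_card_le_finrank
  rwa [Module.finrank_linearMap, ← sq, ← Nat.card_eq_fintype_card] at this

end scal

theorem ns_bound {G : Type u} [Group G] [Finite G] (hs : Group.IsSolvable G) {Z N : Subgroup G}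
    (h : NS Z N) {e : ℕ} (he : Z.relIndex N = e * e) :
    N.relIndex (centralizer (Z : Set G)) ≤ (e * e) ^ 3 ∧ (∀ a ∈ N, a ^ e ∈ Z) ∧
      ((∀ z ∈ Z, ∀ g, z * g = g * z) → (e = 2 → N.index ∣ 6) ∧
        (e = 3 → N.index ≤ 24 ∧ 3 ∣ Nat.card Z) ∧ (e = 4 → N.index ≤ 144) ∧
        (e = 5 → N.index ≤ 480) ∧ (e = 6 → N.index ≤ 288) ∧ (e = 7 → N.index ≤ 2016)) := by
  have := h.zn
  have := h.nn
  obtain ⟨W, _, π, hπ⟩ := exists_sec h.comm fun a _ z hz => h.zn.conj_mem z hz a
  obtain ⟨_, hact⟩ := hπ.exists_act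
  have := hπ.finite
  have hW := hπ.card.trans he
  obtain ⟨X, _, _, _, _, f, hX, hf, hfa⟩ := faith G W hs
  have hcr : CR X W := fun U hU => by
    obtain ⟨U', h1, h2⟩ := h.cr h.nn h.le le_rfl hπ hact U fun g w hw => hfa g w ▸ hU _ w hw
    refine ⟨U', fun x w hw => ?_, h2⟩
    obtain ⟨g, rfl⟩ := hf x
    exact hfa g w ▸ h1 g w hw
  have hk : f.ker ⊓ centralizer (Z : Set G) = N := le_antisymm (fun g hg => h.n3 hg.2 fun a ha => by
      have := hfa g (π a)
      rw [show f g = 1 from hg.1, one_smul, hact g a ha, hπ.eq_iff ha (h.nn.conj_mem a ha g)] at this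
      have := h.zn.conj_mem _ this a
      rwa [show a * (a⁻¹ * (g * a * g⁻¹)) * a⁻¹ = ⁅g, a⁆ by rw [commutatorElement_def]; group] at this)
    fun g hg => ⟨eq_of_smul_eq_smul (α := W) fun w => by
      obtain ⟨a, ha, rfl⟩ := hπ.surj w
      rw [hfa, one_smul, hact g a ha, hπ.mul _ (mul_mem hg ha) _ (inv_mem hg), hπ.mul _ hg _ ha,
        hπ.inv hg]
      abel, h.cent g hg⟩
  have hi : f.ker.index = Nat.card X := by rw [index_ker, MonoidHom.range_eq_top.2 hf, card_top]
  have hp : ∀ a ∈ N, a ^ e ∈ Z := fun a ha =>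
    h.sqfree ha (he ▸ pow_index_mem (Z.subgroupOf N) ⟨a, ha⟩)
  have hr : ∀ {r : ℕ}, (∀ a ∈ N, a ^ r ∈ Z) → ∀ w : W, r • w = 0 := fun hr w => by
    obtain ⟨a, ha, rfl⟩ := hπ.surj w
    rw [← hπ.pow ha, (hπ.zero _ (pow_mem ha _)).2 (hr a ha)]
  refine ⟨?_, hp, fun hZ => ?_⟩
  · rw [← hk, inf_relIndex_right, ← hW]
    refine le_trans ?_ (card_le_of_base (seress hX hcr))
    rw [← hi, ← relIndex_top_right]
    exact relIndex_le_of_le_right le_top (by rw [relIndex_top_right]; exact index_ne_zero_of_finite)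
  rw [centralizer_eq_top_iff_subset.2 fun z hz => mem_center_iff.2 fun g => (hZ z hz g).symm,
    inf_top_eq] at hk
  rw [← hk, hi]
  refine ⟨?_, ?_, ?_, ?_, ?_, ?_⟩ <;> rintro rfl
  · exact card_dvd_gl (s := 2) Nat.prime_two (hr hp) hW
  · obtain ⟨a, ha, haZ⟩ := SetLike.exists_of_lt (h.le.lt_of_ne fun e => by simp [e] at he)
    obtain ⟨b, hb, hab⟩ : ∃ b ∈ N, b * a ≠ a * b := by
      by_contra hn; push Not at hn; exact haZ (h.n2 a hn)
    refine ⟨bound3 hW (a := π a) (b := π b) (A := hπ.im (centralizer {a}))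
      ⟨a, ha, mem_centralizer_singleton_iff.2 rfl, rfl⟩ (mt (hπ.zero a ha).1 haZ) ?_ ?_, ?_⟩
    · rintro ⟨c, hc, hca, e⟩
      have := hZ _ ((hπ.eq_iff hc hb).1 e) a
      rw [mul_assoc, ← mul_assoc a, (Commute.inv_right (mem_centralizer_singleton_iff.1 hca).symm).eq,
        mul_assoc, mul_right_inj] at this
      exact hab this
    · intro x hx
      obtain ⟨g, rfl⟩ := hf x
      have hb' := h.nn.conj_mem b hb g
      rw [hfa, hact g a ha, eq_comm, hπ.eq_iff ha (h.nn.conj_mem a ha g)] at hx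
      refine ⟨b⁻¹ * (g * b * g⁻¹), mul_mem (inv_mem hb) hb', mem_centralizer_singleton_iff.2
        (comm_eq_iff.1 ?_).symm, by rw [hπ.mul _ (inv_mem hb) _ hb', hπ.inv hb, hfa, hact g b hb]; abel⟩
      have e1 := conj_comm g a b
      rw [← hZ _ (h.comm a ha b hb) g, mul_inv_cancel_right,
        ← mul_inv_cancel_left a (g * a * g⁻¹)] at e1
      rw [← e1]
      simp only [commutatorElement_def, mul_assoc a (a⁻¹ * _), hZ _ hx]
      group
    · have := Fact.mk Nat.prime_three
      rw [← orderOf_eq_prime (h.comm_pow ha hb (hp a ha))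
        (mt commutatorElement_eq_one_iff_mul_comm.1 hab.symm)]
      exact orderOf_dvd_natCard _ (h.comm a ha b hb)
  · refine bound4 hX hcr hW (hr fun a ha => h.sqfree ha (hp a ha)) fun w hw => ?_
    obtain ⟨a, ha, rfl⟩ := hπ.surj w
    refine (hπ.zero a ha).2 (h.max (Z ⊔ zpowers a) ⟨fun x hx g => ?_⟩ (fun x hx y hy => ?_)
      le_sup_left (mem_sup_right (mem_zpowers a)))
    · obtain ⟨z, hz, _, ⟨i, rfl⟩, rfl⟩ := mem_sup_of_normal_left.1 hx
      have := hw (f g)
      rw [hfa, hact g a ha, eq_comm, hπ.eq_iff ha (h.nn.conj_mem a ha g)] at this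
      rw [← conj_mul, ← conj_zpow, ← mul_inv_cancel_left a (g * a * g⁻¹)]
      exact mul_mem (mem_sup_left (h.zn.conj_mem z hz g))
        (zpow_mem (mul_mem (mem_sup_right (mem_zpowers a)) (mem_sup_left this)) i)
    · obtain ⟨z, hz, _, ⟨i, rfl⟩, rfl⟩ := mem_sup_of_normal_left.1 hx
      obtain ⟨z', hz', _, ⟨j, rfl⟩, rfl⟩ := mem_sup_of_normal_left.1 hy
      exact (Commute.mul_left (hZ z hz _) (Commute.mul_right (hZ z' hz' _).symm
        ((Commute.refl a).zpow_zpow i j))).eq
  · exact Nat.le_of_dvd (by decide) (card_dvd_gl (s := 2) Nat.prime_five (hr hp) hW)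
  · exact bound6 hX hW (hr hp)
  · exact Nat.le_of_dvd (by decide) (card_dvd_gl (s := 2) Nat.prime_seven (hr hp) hW)

end H10.Kg
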