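import Cfsg.Agent.H10.KgKit

/-! Lower bounds for class numbers: small primes, by the class equation. -/

set_option autoImplicit false

namespace H10.Kg

open Subgroup Finset

theorem pad {ι : Type*} (U : ℚ → Prop) (h0 : U 0) (f : ι → ℚ) (n : ℕ) :
    ∀ s : Finset ι, #s ≤ n → (∀ i ∈ s, U (f i)) →
      ∃ v : Fin n → ℚ, (∀ i, U (v i)) ∧ ∑ i ∈ s, f i = ∑ i, v i := by
  classical
  induction n with
  | zero => exact fun s hs _ => ⟨0, fun i => i.elim0, by rw [card_eq_zero.1 (Nat.le_zero.1 hs)]; rfl⟩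
  | succ n ih =>
    intro s hs h
    rcases s.eq_empty_or_nonempty with rfl | ⟨a, ha⟩
    · exact ⟨0, fun _ => h0, by simp⟩
    obtain ⟨v, h1, h2⟩ := ih (s.erase a) (by rw [card_erase_of_mem ha]; omega)
      fun i hi => h i (mem_of_mem_erase hi)
    exact ⟨Fin.cons (f a) v, fun i => i.cases (h a ha) h1, by
      rw [Fin.sum_univ_succ, ← add_sum_erase s f ha, h2]; rfl⟩

variable {G : Type*} [Group G] [Finite G] {p : ℕ} [hp : Fact p.Prime]

theorem exists_central (h : p ^ 2 ∣ Nat.card G) (P : Sylow p G) :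
    p ^ 2 ≤ Nat.card P ∧ ∃ z ∈ P.1, z ≠ 1 ∧ ∀ a ∈ P.1, a * z = z * a := by
  have h1 : p ^ 2 ≤ Nat.card P := by
    rw [P.card_eq_multiplicity]
    exact Nat.pow_le_pow_right hp.1.pos
      ((hp.1.pow_dvd_iff_le_factorization Nat.card_pos.ne').1 h)
  have : Nontrivial P := Finite.one_lt_card_iff_nontrivial.1
    ((Nat.one_lt_pow two_ne_zero hp.1.one_lt).trans_le h1)
  have := P.2.center_nontrivial
  obtain ⟨⟨z, hz⟩, h0⟩ := exists_ne (1 : center P)
  exact ⟨h1, z, z.2, fun e => h0 (Subtype.ext (Subtype.ext e)), fun a ha =>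
    congrArg Subtype.val (mem_center_iff.1 hz ⟨a, ha⟩)⟩

theorem cz_ne (h : p ^ 2 ∣ Nat.card G) {x : G} (hx : x ≠ 1) : cz x ≠ p := fun e => by
  obtain ⟨P, hP⟩ := (IsPGroup.of_card (n := 1) (e.trans (pow_one p).symm)).exists_le_sylow
  obtain ⟨h1, z, hz, h0, hc⟩ := exists_central h P
  have hxP := hP (mem_centralizer_singleton_iff.2 rfl)
  have hzx : z ∈ centralizer {x} := mem_centralizer_singleton_iff.2 (hc x hxP).symm
  have h2 : x ∈ zpowers z := by
    have := mem_zpowers_of_prime_card e (g := ⟨z, hzx⟩) (g' := ⟨x, mem_centralizer_singleton_iff.2 rfl⟩)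
      fun e => h0 (congrArg Subtype.val e)
    obtain ⟨k, hk⟩ := this
    exact ⟨k, congrArg Subtype.val hk⟩
  have h3 := le_cz (x := x) (A := P.1) fun a ha => by
    obtain ⟨k, rfl⟩ := h2
    exact (Commute.zpow_right (hc a ha) k).eq
  have := hp.1.one_lt
  nlinarith

/-- The class equation without two large centralisers. -/
theorem exists_egypt (h : p ^ 2 ∣ Nat.card G) : 2 ≤ kk G ∧ ∀ (U : ℚ → Prop) (n : ℕ), U 0 →
    (∀ c : ℕ, 2 ≤ c → c ≠ p → U (1 / c)) → kk G ≤ n + 2 → ∃ v : Fin n → ℚ, (∀ i, U (v i)) ∧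
      ∑ i, v i < 1 ∧ 1 ≤ ∑ i, v i + 2 / p ^ 2 := by
  classical
  have := Fintype.ofFinite (ConjClasses G)
  obtain ⟨P⟩ : Nonempty (Sylow p G) := inferInstance
  obtain ⟨h1, z, hz, h0, hc⟩ := exists_central h P
  have hne : ∀ x : G, x ≠ 1 → ConjClasses.mk x ≠ ConjClasses.mk 1 := fun x hx e =>
    hx (isConj_one_left.1 (ConjClasses.mk_eq_mk_iff_isConj.1 e))
  let f : ConjClasses G → ℚ := fun C => Nat.card C.carrier / Nat.card G
  have hG : (0 : ℚ) < Nat.card G := Nat.cast_pos.2 Nat.card_pos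
  have hf : ∀ x, f (ConjClasses.mk x) = 1 / cz x := fun x => by
    have : (0 : ℚ) < cz x := Nat.cast_pos.2 Nat.card_pos
    simp only [f]
    rw [H24.card_carrier_eq_index, div_eq_div_iff hG.ne' this.ne', one_mul]
    exact_mod_cast index_mul_card _
  have hs : ∑ C, f C = 1 := by
    rw [← sum_div, div_eq_one_iff_eq hG.ne', ← Group.sum_card_conj_classes_eq_card,
      finsum_eq_sum_of_fintype]
    simp
  have hm : ConjClasses.mk z ∈ univ.erase (ConjClasses.mk 1) := by simp [hne z h0]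
  have hcard : #((univ.erase (ConjClasses.mk 1)).erase (ConjClasses.mk z)) + 2 = kk G := by
    rw [kk, Nat.card_eq_fintype_card, ← card_univ, ← card_erase_add_one (mem_univ _),
      ← card_erase_add_one hm]
  refine ⟨by omega, fun U n u0 u1 hn => ?_⟩
  obtain ⟨v, h2, h3⟩ := pad U u0 f n ((univ.erase (ConjClasses.mk 1)).erase (ConjClasses.mk z))
    (by omega) fun C hC => by
      obtain ⟨x, rfl⟩ := ConjClasses.mk_surjective C
      have hx : x ≠ 1 := fun e => by simp [e] at hC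
      rw [hf]
      exact u1 _ ((one_lt_card_iff_ne_bot _).2 fun e =>
        hx (mem_bot.1 (e ▸ mem_centralizer_singleton_iff.2 rfl))) (cz_ne h hx)
  rw [← add_sum_erase _ _ (mem_univ (ConjClasses.mk 1)), ← add_sum_erase _ _ hm, h3, hf, hf] at hs
  have b : ∀ x : G, (∀ a ∈ P.1, a * x = x * a) → (0 : ℚ) < 1 / cz x ∧ (1 : ℚ) / cz x ≤ 1 / p ^ 2 :=
    fun x hx => ⟨one_div_pos.2 (Nat.cast_pos.2 Nat.card_pos), one_div_le_one_div_of_le
      (pow_pos (Nat.cast_pos.2 hp.1.pos) 2) (by exact_mod_cast h1.trans (le_cz hx))⟩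
  have b1 := b 1 (by simp)
  have b2 := b z hc
  refine ⟨v, h2, by linarith, ?_⟩
  rw [show (2 : ℚ) / p ^ 2 = 1 / p ^ 2 + 1 / p ^ 2 by ring]
  linarith

theorem small (h : p ^ 2 ∣ Nat.card G) (h7 : p < 11) : 49 * p ≤ 60 * kk G := by
  obtain ⟨h2, H⟩ := exists_egypt h
  have hp' := hp.1
  by_contra hk
  have inv : ∀ c n : ℕ, 0 < n → n ≤ c → (1 : ℚ) / c ≤ 1 / n := fun c n h0 h =>
    one_div_le_one_div_of_le (Nat.cast_pos.2 h0) (Nat.cast_le.2 h)
  interval_cases p
  · omega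
  · omega
  · omega
  · obtain ⟨v, -, -, h3⟩ := H (fun _ => True) 0 trivial (fun _ _ _ => trivial) (by omega)
    norm_num at h3
  · exact absurd hp' (by norm_num)
  · obtain ⟨v, h1, h3, h4⟩ := H (fun x => x = 1 / 2 ∨ x ≤ 1 / 3) 2 (by norm_num) (fun c h _ => by
      rcases h.eq_or_lt with rfl | h
      · norm_num
      · exact Or.inr (by simpa using inv c 3 (by norm_num) h)) (by omega)
    rw [Fin.sum_univ_two] at h3 h4
    rcases h1 0 with a | a <;> rcases h1 1 with b | b <;> norm_num at h4 <;> linarith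
  · exact absurd hp' (by norm_num)
  · obtain ⟨v, h1, h3, h4⟩ := H (fun x => x = 1 / 2 ∨ x = 1 / 3 ∨ x = 1 / 4 ∨ x = 1 / 5 ∨
      x = 1 / 6 ∨ 0 ≤ x ∧ x ≤ 1 / 8) 3 (by norm_num) (fun c h h' => by
      rcases Nat.lt_or_ge c 8 with h8 | h8
      · interval_cases c <;> simp at h' ⊢
      · have := inv c 8 (by norm_num) h8
        have h0 : (0 : ℚ) ≤ 1 / c := by positivity
        push_cast at this
        tauto) (by omega)
    rw [Fin.sum_univ_three] at h3 h4
    norm_num at h4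
    rcases h1 0 with a | a | a | a | a | ⟨_, a⟩ <;> rcases h1 1 with b | b | b | b | b | ⟨_, b⟩ <;>
      rcases h1 2 with c | c | c | c | c | ⟨_, c⟩ <;> linarith
  all_goals exact absurd hp' (by norm_num)

end H10.Kg
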