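import Cfsg.Agent.H10.KgImp
import Cfsg.Agent.H10.KgSmall
import Cfsg.Agent.H3.FrattiniFitting
import Cfsg.Agent.H5.Supersolv
import Cfsg.Agent.H48.Maschke

/-! Lower bounds for class numbers: reduction to quasi-primitive modules. -/

set_option autoImplicit false

namespace H10.Kg

open Subgroup Finset H33.Solv Cfsg
open scoped commutatorElement

universe u

/-- A split extension of an abelian group, in coordinates. -/
structure Spl {G V : Type*} [Group G] [AddCommGroup V] [DistribMulAction G V] (σ : V → G)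
    (θ : G → V) : Prop where
  add : ∀ u w, σ (u + w) = σ u * σ w
  conj : ∀ g u, σ (g • u) = g * σ u * g⁻¹
  triv : ∀ u (w : V), σ u • w = w
  mul : ∀ x y, θ (x * y) = θ x + x • θ y
  inv : ∀ u, θ (σ u) = u

theorem exists_spl {G : Type u} [Group G] {N H : Subgroup G} [hN : N.Normal]
    (hc : ∀ a ∈ N, ∀ b ∈ N, a * b = b * a) (h : N.IsComplement' H) :
    ∃ (V : Type u) (_ : AddCommGroup V) (_ : DistribMulAction G V) (σ : V → G) (θ : G → V),
      Spl σ θ ∧ ∀ g, g ∈ N ↔ ∃ u, σ u = g := by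
  obtain ⟨V, _, π, hπ⟩ := exists_sec (Z := ⊥) (N := N)
    (fun a ha b hb => commutatorElement_eq_one_iff_mul_comm.2 (hc a ha b hb))
    (fun a _ z hz => by rw [mem_bot.1 hz]; simp)
  obtain ⟨_, hact⟩ := hπ.exists_act
  have hinj : ∀ a ∈ N, ∀ b ∈ N, π a = π b → a = b := fun a ha b hb e =>
    inv_mul_eq_one.1 ((hπ.eq_iff ha hb).1 e)
  choose σ hσ eσ using hπ.surj
  have hu : ∀ a ∈ N, ∀ b ∈ H, ((h.equiv (a * b)).1 : G) = a := fun a ha b hb =>
    congrArg (fun x : N × H => (x.1 : G)) (h.equiv.apply_symm_apply (⟨a, ha⟩, ⟨b, hb⟩))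
  refine ⟨V, inferInstance, inferInstance, σ, fun g => π (h.equiv g).1, ⟨fun u w => ?_,
    fun g u => ?_, fun u w => ?_, fun x y => ?_, fun u => ?_⟩, fun g =>
    ⟨fun hg => ⟨_, hinj _ (hσ _) _ hg (eσ _)⟩, fun ⟨u, e⟩ => e ▸ hσ u⟩⟩
  · exact hinj _ (hσ _) _ (mul_mem (hσ u) (hσ w)) (by rw [hπ.mul _ (hσ u) _ (hσ w), eσ, eσ, eσ])
  · exact hinj _ (hσ _) _ (hN.conj_mem _ (hσ u) g) (by rw [← hact g _ (hσ u), eσ, eσ])
  · rw [← eσ w, hact _ _ (hσ w), hc _ (hσ u) _ (hσ w), mul_inv_cancel_right]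
  · obtain ⟨⟨⟨a, ha⟩, b, hb⟩, rfl⟩ := h.equiv.symm.surjective x
    obtain ⟨⟨⟨c, hc'⟩, d, hd⟩, rfl⟩ := h.equiv.symm.surjective y
    change π (h.equiv (a * b * (c * d))).1 = π (h.equiv (a * b)).1 + (a * b) • π (h.equiv (c * d)).1
    have := hN.conj_mem c hc' (a * b)
    rw [show a * b * (c * d) = a * b * c * (a * b)⁻¹ * a * (b * d) by group,
      hu _ (mul_mem this ha) _ (mul_mem hb hd), hu a ha b hb, hu c hc' d hd, hact _ c hc',
      hπ.mul _ this a ha, add_comm]
  · rw [← mul_one (σ u), hu _ (hσ u) 1 (one_mem H), eσ]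

namespace Spl

variable {G V : Type*} [Group G] [AddCommGroup V] [DistribMulAction G V] {σ : V → G} {θ : G → V}
  (h : Spl σ θ)
include h

theorem zero : σ 0 = 1 := by simpa using h.add 0 0

theorem one : θ 1 = 0 := by rw [← h.zero, h.inv]

theorem inj : Function.Injective σ := Function.LeftInverse.injective h.inv

/-- Large blocks. -/
theorem imp [Finite G] [Finite V] {e : V →+ V} {K : Subgroup G} (hK : K ≠ ⊤) (h0 : e ≠ 0)
    (h1 : ∀ v, e (e v) = e v) (h2 : ∀ k ∈ K, ∀ v, k • e v = e (k • v))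
    (h3 : ∀ g ∉ K, ∀ v, e (g • e v) = 0) {b c : ℕ} (hb : ∀ (L : Subgroup G) (S : Subgroup L),
      L ≠ ⊤ → Nat.card e.range ∣ Nat.card S → b ≤ c * kk S) : b ≤ c * kk G := by
  let L : Subgroup G :=
    { carrier := {g | g ∈ K ∧ e (θ g) = θ g}
      one_mem' := ⟨one_mem K, by rw [h.one, map_zero]⟩
      mul_mem' := fun {x y} hx hy => ⟨mul_mem hx.1 hy.1, by
        rw [h.mul, map_add, ← h2 x hx.1, hx.2, hy.2]⟩
      inv_mem' := fun {x} hx => ⟨inv_mem hx.1, by
        have := h.mul x⁻¹ x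
        rw [inv_mul_cancel, h.one, eq_comm, add_eq_zero_iff_eq_neg] at this
        rw [this, map_neg, ← h2 _ (inv_mem hx.1), hx.2]⟩ }
  have hσ : ∀ u, σ u ∈ K := fun u => by_contra fun hn =>
    h0 (AddMonoidHom.ext fun v => by simpa [h.triv, h1] using h3 _ hn v)
  let _ := subAct (G := L) e.ker fun x v hv => by
    change e (x.1 • v) = 0
    rw [← h2 _ x.2.1, show e v = 0 from hv, smul_zero]
  obtain ⟨s, hs, hm⟩ := exists_supp h0 h1 h2 h3
  have hθ : ∀ u x, θ (σ u * x) = u + θ x := fun u x => by rw [h.mul, h.inv, h.triv]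
  have := sd (L := L) (U := e.ker) (fun p => σ p.1 * p.2) (fun p q hpq => by
      have k := congrArg θ hpq
      rw [hθ, hθ] at k
      have k2 := congrArg e k
      rw [map_add, map_add, p.2.2.2, q.2.2.2, show e p.1 = 0 from p.1.2, show e q.1 = 0 from q.1.2,
        add_right_inj] at k2
      rw [k2, add_left_inj] at k
      beta_reduce at hpq
      rw [k, mul_right_inj] at hpq
      exact Prod.ext (Subtype.ext k) (Subtype.ext hpq))
    (fun u x w y => by
      change σ u * x * (σ w * y) = σ (u + x.1 • w.1) * (x * y)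
      rw [h.add, h.conj]; group)
    (b := b) (c := c) (m := K.index) (fun S hS => hb L S (fun e => hK (top_unique fun g _ =>
      (e.ge (mem_top g)).1)) (card_dvd_of_injective (α := Multiplicative e.range) (MonoidHom.mk'
        (fun u : Multiplicative e.range => (⟨⟨σ u.toAdd, hσ _, by
          obtain ⟨v, hv⟩ := u.toAdd.2
          rw [h.inv, ← hv, h1]⟩, hS _ fun w => Subtype.ext (h.triv _ _)⟩ : S))
        fun u w => Subtype.ext (Subtype.ext (h.add _ _))) fun u w e =>
          Subtype.ext (h.inj (congrArg (·.1.1) e))))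
    (fun u => s u) (fun x u => hs x u) fun i hi => by
      obtain ⟨v, hv, e⟩ := hm i hi
      exact ⟨⟨v, hv⟩, e⟩
  have h4 : Nat.card K ≤ Nat.card e.ker * Nat.card L := by
    rw [← Nat.card_prod]
    exact Nat.card_le_card_of_surjective (fun p => ⟨σ p.1 * p.2, mul_mem (hσ _) p.2.2.1⟩)
      fun g => ⟨(⟨θ g - e (θ g), by simp [h1]⟩, ⟨σ (-(θ g - e (θ g))) * g, mul_mem (hσ _) g.2, by
        simp [hθ, h1]⟩), Subtype.ext (by simp only [← mul_assoc, ← h.add, add_neg_cancel, h.zero, one_mul])⟩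
  refine Nat.le_of_mul_le_mul_right (le_trans ?_ (this.trans_eq (mul_assoc _ _ _).symm)) Nat.card_pos
  rw [← K.index_mul_card]
  gcongr

end Spl

/-- The bound for a faithful quasi-primitive module. -/
def QBound (p : ℕ) : Prop :=
  ∀ (H V : Type u) [Group H] [Finite H] [AddCommGroup V] [Finite V] [DistribMulAction H V]
    [FaithfulSMul H V], Group.IsSolvable H → Irr H V → QPrim H V → (∀ v : V, p • v = 0) →
    p ^ 2 ≤ Nat.card V → ∀ r, Nat.card V ≤ r * Nat.card H + 1 → 49 * p ≤ 60 * (kk H + r)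

theorem of_abelian {G : Type*} [Group G] [Finite G] {P : Subgroup G} [P.Normal] {p : ℕ}
    (hp : 2 ≤ p) (hc : ∀ a ∈ P, ∀ b ∈ P, a * b = b * a) (h : p ^ 2 ≤ Nat.card P)
    (h' : commutator G ≤ P) : 49 * p ≤ 60 * kk G := by
  obtain ⟨r, h1, h2⟩ := exists_r (QuotientGroup.mk' P) (QuotientGroup.mk'_surjective P)
    (by rwa [QuotientGroup.ker_mk'])
  rw [QuotientGroup.ker_mk'] at h2
  have := (Normal.quotient_commutative_iff_commutator_le.2 h').is_comm.comm
  rw [kk_comm this] at h1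
  refine le_trans (amgm Nat.card_pos le_rfl (h.trans h2) ?_) (Nat.mul_le_mul_left _ h1)
  have := Nat.pow_le_pow_left hp 2
  rw [mul_right_comm 14400, ← sq]
  exact Nat.mul_le_mul_right _ (by omega)

theorem reduce {p : ℕ} [hp : Fact p.Prime] (hq : 11 ≤ p → QBound.{u} p) (n : ℕ) :
    ∀ (G : Type u) [Group G] [Finite G], Nat.card G = n → Group.IsSolvable G →
      p ^ 2 ∣ Nat.card G → 49 * p ≤ 60 * kk G := by
  induction n using Nat.strong_induction_on with | _ n ih => ?_
  rintro G _ _ rfl hs hd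
  rcases Nat.lt_or_ge p 11 with h11 | h11
  · exact small hd h11
  by_contra hn
  have h0 : ∀ S : Subgroup G, S.Normal → p ^ 2 ∣ S.index → S = ⊥ := fun S _ h => by_contra fun e =>
    hn ((ih _ (by
      have := (one_lt_card_iff_ne_bot S).2 e
      rw [← S.card_mul_index, index]
      exact lt_mul_of_one_lt_left Nat.card_pos this) (G ⧸ S) rfl inferInstance h).trans
      (Nat.mul_le_mul_left _ (kk_le_of_surj _ (QuotientGroup.mk'_surjective S))))
  have h1 : pPrimeCore p G = ⊥ := h0 _ inferInstance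
    (((H2.coprime_card_pPrimeCore p G).symm.pow_left 2).dvd_of_dvd_mul_left
      (by rwa [card_mul_index]))
  have hC := H2.centralizer_pCore_le h1
  have hF := H2.fitting_eq_pCore_of_pPrimeCore_eq_bot h1
  have hP := H2.pCore_isPGroup p G
  have : Nontrivial G := Finite.one_lt_card_iff_nontrivial.1
    ((Nat.one_lt_pow two_ne_zero hp.1.one_lt).trans_le (Nat.le_of_dvd Nat.card_pos hd))
  have hP0 := H2.fitting_ne_bot G
  rw [hF] at hP0
  obtain ⟨N, hN, hle, hN0, hmin⟩ := H2.exists_minimal_normal_le _ hP0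
  obtain ⟨hc, hexp⟩ := H2.isElementaryAbelian_of_minimal_normal (hP.to_le hle) hmin
  have hcm : ∀ a ∈ N, ∀ b ∈ N, a * b = b * a := fun a ha b hb =>
    congrArg Subtype.val (hc.is_comm.comm ⟨a, ha⟩ ⟨b, hb⟩)
  have hsq : ∀ {a b : ℕ}, p ∣ a → p ∣ b → p ^ 2 ∣ a * b := fun h h' => sq p ▸ mul_dvd_mul h h'
  rcases hle.eq_or_lt with e | hlt
  · -- the self-centralising case
    rw [← e] at hC hF hP
    obtain ⟨H, hH⟩ := H3.exists_isComplement'_of_disjoint_frattini N
      ((hmin _ inferInstance inf_le_left).resolve_right fun e => by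
        have k := H3.map_fitting_of_ker_le_frattini (QuotientGroup.mk' N)
          (QuotientGroup.mk'_surjective N) (by rw [QuotientGroup.ker_mk', ← e]; exact inf_le_right)
        rw [hF, (map_eq_bot_iff N).2 (QuotientGroup.ker_mk' N).ge] at k
        rcases subsingleton_or_nontrivial (G ⧸ N) with _ | _
        · have : N = ⊤ := QuotientGroup.subgroup_eq_top_of_subsingleton N inferInstance
          rw [this, top_inf_eq] at e
          exact bot_ne_top (frattini_nongenerating (K := (⊥ : Subgroup G)) (by rw [e, bot_sup_eq]))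
        · exact H2.fitting_ne_bot _ k.symm)
    obtain ⟨V, _, _, σ, θ, h, hσ⟩ := exists_spl hcm hH
    have hV : Nat.card V = Nat.card N := Nat.card_congr (Equiv.ofBijective
      (fun v => ⟨σ v, (hσ _).2 ⟨v, rfl⟩⟩) ⟨fun a b e => h.inj (congrArg Subtype.val e),
        fun a => let ⟨u, e⟩ := (hσ a).1 a.2; ⟨u, Subtype.ext e⟩⟩)
    have : Finite V := Finite.of_injective _ h.inj
    let ρ := MulAction.toPermHom G V
    have hk : ρ.rangeRestrict.ker = N := by
      rw [MonoidHom.ker_rangeRestrict]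
      refine le_antisymm (fun g hg => hC fun a ha => ?_) fun g hg => ?_
      · obtain ⟨u, rfl⟩ := (hσ a).1 ha
        rw [← eq_mul_inv_iff_mul_eq, ← h.conj]
        exact congrArg σ (Equiv.congr_fun hg u).symm
      · obtain ⟨u, rfl⟩ := (hσ g).1 hg
        exact Equiv.ext (h.triv u)
    let _ : DistribMulAction ρ.range V :=
      { smul_zero := by rintro ⟨_, g, rfl⟩; exact smul_zero g
        smul_add := by rintro ⟨_, g, rfl⟩; exact smul_add g }
    have : FaithfulSMul ρ.range V := ⟨fun e => Subtype.ext (Equiv.ext e)⟩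
    have hs' : Group.IsSolvable ρ.range := Group.isSolvable_of_surjective ρ.rangeRestrict_surjective
    let τ : Multiplicative V →* G := MonoidHom.mk' (fun u => σ u.toAdd) fun _ _ => h.add _ _
    have hpV : ∀ v : V, p • v = 0 := fun v => h.inj (by
      rw [h.zero, ← hexp _ ((hσ _).2 ⟨v, rfl⟩)]
      exact map_pow τ (.ofAdd v) p)
    have hi : Irr ρ.range V := fun U hU => by
      rcases hmin (U.toSubgroup.map τ) ⟨by
          rintro _ ⟨u, hu, rfl⟩ g
          exact ⟨_, hU (ρ.rangeRestrict g) _ hu, h.conj g _⟩⟩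
        (by rintro _ ⟨u, -, rfl⟩; exact (hσ _).2 ⟨_, rfl⟩) with e | e
      · exact Or.inl (eq_bot_iff.2 fun u hu => h.inj
          ((mem_bot.1 (e.le ⟨.ofAdd u, hu, rfl⟩)).trans h.zero.symm))
      · refine Or.inr (eq_top_iff.2 fun u _ => ?_)
        obtain ⟨w, hw, e⟩ := e.ge ((hσ _).2 ⟨u, rfl⟩)
        exact h.inj e ▸ hw
    obtain ⟨r, r1, r2⟩ := exists_r _ ρ.rangeRestrict_surjective (hk ▸ hcm)
    rw [hk, ← hV] at r2
    replace r1 := Nat.mul_le_mul_left 60 r1
    obtain ⟨k, hk'⟩ := card_eq_pow hp.1 hpV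
    by_cases hQ : QPrim ρ.range V
    · refine hn ((hq h11 _ V hs' hi hQ hpV (Nat.le_of_not_lt fun hl => ?_) r r2).trans r1)
      have h3 := card_dvd_gl (H := ρ.range) hp.1 hpV hk'
      rw [hk', Nat.pow_lt_pow_iff_right hp.1.one_lt] at hl
      rw [← N.card_mul_index, ← hV, ← hk, index_ker, MonoidHom.range_eq_top.2
        ρ.rangeRestrict_surjective, card_top, hk'] at hd
      have h4 : p ∣ Nat.card ρ.range := by
        refine (Nat.mul_dvd_mul_iff_left hp.1.pos).1 ((sq p ▸ hd).trans (mul_dvd_mul_right ?_ _))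
        simpa using Nat.pow_dvd_pow p (Nat.le_of_lt_succ hl)
      have := h4.trans h3
      interval_cases k
      · exact hp.1.one_lt.ne' (by simpa using this)
      · have := Nat.le_of_dvd (gl_pos hp.1) this
        simp at this
        omega
    obtain ⟨e, K, hK, e0, e1, e2, e3⟩ := coarsen hi hQ
    obtain ⟨j, hj⟩ := card_eq_pow (V := e.range) hp.1 fun w => Subtype.ext (hpV w)
    rcases Nat.lt_or_ge j 2 with h2 | h2
    · interval_cases j
      · exact e0 (AddMonoidHom.range_eq_bot_iff.1 (AddSubgroup.card_eq_one.1 hj))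
      · exact hn ((lin_imp hs' hi hK e0 e1 e2 e3 hp.1 h11 (hj.trans (pow_one p)) r2).trans r1)
    refine hn (h.imp (K := K.comap ρ.rangeRestrict) (fun e => hK.1 (by
      rw [← map_comap_eq_self_of_surjective ρ.rangeRestrict_surjective K, e,
        map_top_of_surjective _ ρ.rangeRestrict_surjective])) e0 e1 (fun k hk => e2 _ hk)
      (fun g hg => e3 _ hg) fun L S hL hS => ih _ ?_ S rfl inferInstance
        ((hj ▸ Nat.pow_dvd_pow p h2).trans hS))
    exact (card_le_card_group S).trans_lt ((card_le_card_group L).lt_of_ne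
      fun e => hL (eq_top_of_card_eq L e))
  -- the abelian case
  set P := pCore p G
  have := H2.pCore_isNilpotent p G
  have hcen := H2.le_centralizer_of_minimal_normal hmin P
  have i1 := relIndex_mul_index hle
  obtain ⟨k, hk⟩ := (hP.to_quotient (N.subgroupOf P)).exists_card_eq
  have hk0 : k ≠ 0 := fun e => hlt.not_ge (relIndex_eq_one.1 (by rw [e] at hk; exact hk))
  change N.relIndex P = _ at hk
  have hk1 : k = 1 := by
    by_contra h
    exact hN0 (h0 N hN (by
      rw [← i1, hk]; exact (Nat.pow_dvd_pow p (by omega)).mul_right _))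
  rw [hk1, pow_one] at hk
  have hnd : ¬ p ∣ P.index := fun h => hN0 (h0 N hN (i1 ▸ hsq hk.symm.dvd h))
  have hco := (Nat.Prime.coprime_iff_not_dvd hp.1).2 hnd
  have hgen : ∀ x ∈ P, x ∉ N → ∀ y ∈ P, ∃ i : ℤ, ∃ a ∈ N, y = x ^ i * a := fun x hx hx' y hy => by
    obtain ⟨i, hi⟩ := mem_zpowers_of_prime_card hk (g := ((⟨x, hx⟩ : P) : P ⧸ N.subgroupOf P))
      (g' := ((⟨y, hy⟩ : P) : P ⧸ N.subgroupOf P))
      fun e => hx' ((QuotientGroup.eq_one_iff (N := N.subgroupOf P) _).1 e)
    exact ⟨i, _, (QuotientGroup.eq (s := N.subgroupOf P)).1 ((QuotientGroup.mk_zpow _ _ i).trans hi),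
      (mul_inv_cancel_left _ _).symm⟩
  obtain ⟨x, hx, hx'⟩ := SetLike.exists_of_lt hlt
  have hab : ∀ a ∈ P, ∀ b ∈ P, a * b = b * a := fun a0 ha0 b0 hb0 => by
    obtain ⟨i, a, ha, rfl⟩ := hgen x hx hx' a0 ha0
    obtain ⟨j, b, hb, rfl⟩ := hgen x hx hx' b0 hb0
    have c : ∀ a ∈ N, Commute a x := fun a ha => hcen hx a ha
    exact ((((Commute.refl x).zpow_zpow i j).mul_right ((c b hb).symm.zpow_left i)).mul_left
      (((c a ha).zpow_right j).mul_right (hcm a ha b hb))).eq
  refine hn (of_abelian hp.1.two_le hab (Nat.le_of_dvd Nat.card_pos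
    ((hco.pow_left 2).dvd_of_dvd_mul_right (by rwa [card_mul_index]))) (le_trans ?_ hC))
  have : IsMulCommutative P := ⟨⟨fun a b => Subtype.ext (hab a a.2 b b.2)⟩⟩
  by_cases hel : ∀ y ∈ P, y ^ p = 1
  · obtain ⟨m, hm⟩ := hP.exists_card_eq
    obtain ⟨A, hA⟩ := exists_right_complement'_of_coprime (N := P) (hm ▸ hco.pow_left m)
    obtain ⟨W, w1, w2, w3, w4⟩ := H48.maschke_elemAb (V := P) (A := A) (U := N) ⟨this, hel⟩
      le_normalizer_of_normal (by rw [← hA.symm.index_eq_card]; exact hco.symm) hle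
      le_normalizer_of_normal
    have : W.Normal := normalizer_eq_top_iff.1 (top_unique (hA.sup_eq_top.ge.trans (sup_le
      (fun g hg => mem_normalizer_fintype fun w hw => by
        rwa [hab g hg w (w1 hw), mul_inv_cancel_right]) w2)))
    have c1 : Nat.card W = p := by
      rw [← hk, ← w4, relIndex_sup_left, ← inf_relIndex_right, w3, relIndex_bot_left]
    have c2 : Nat.card N = p := by
      obtain ⟨j, hj⟩ := (hP.to_le hle).exists_card_eq
      have i2 : W.relIndex P = p ^ j := by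
        rw [← hj, ← w4, relIndex_sup_right, ← inf_relIndex_right, inf_comm, w3, relIndex_bot_left]
      have : j ≠ 0 := fun e => hN0 (card_eq_one.1 (by rw [hj, e, pow_zero]))
      have : ¬ 2 ≤ j := fun h => hp.1.one_lt.ne' (by
        rw [← c1, h0 W inferInstance (by
          rw [← relIndex_mul_index w1, i2]; exact (Nat.pow_dvd_pow p h).mul_right _), card_bot])
      rw [hj, show j = 1 by omega, pow_one]
    have := isCyclic_of_prime_card c1
    have := isCyclic_of_prime_card c2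
    rw [← w4, le_centralizer_iff, sup_le_iff, le_centralizer_iff, le_centralizer_iff (H := W)]
    exact ⟨H5.commutator_le_centralizer_of_isCyclic N, H5.commutator_le_centralizer_of_isCyclic W⟩
  push Not at hel
  obtain ⟨y, hy, hy1⟩ := hel
  have hyN : y ∉ N := fun h => hy1 (hexp y h)
  have hpow : ∀ z ∈ P, z ^ p ∈ zpowers (y ^ p) := fun z hz => by
    obtain ⟨i, a, ha, rfl⟩ := hgen y hy hyN z hz
    rw [Commute.mul_pow (hab _ (zpow_mem hy i) a (hle ha)), hexp a ha, mul_one]
    exact ⟨i, by simp only [← zpow_natCast, ← zpow_mul, mul_comm]⟩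
  have hNy : zpowers (y ^ p) = N := (hmin _ ⟨by
      rintro _ ⟨i, rfl⟩ g
      rw [← conj_zpow, ← conj_pow]
      exact zpow_mem (hpow _ (Normal.conj_mem inferInstance y hy g)) i⟩
    (zpowers_le.2 (hk ▸ pow_index_mem (N.subgroupOf P) ⟨y, hy⟩))).resolve_left
      (mt zpowers_eq_bot.1 hy1)
  have : IsCyclic P := by
    rw [show P = zpowers y from le_antisymm (fun z hz => by
      obtain ⟨i, a, ha, rfl⟩ := hgen y hy hyN z hz
      exact mul_mem ⟨i, rfl⟩ (zpowers_le.2 (pow_mem (mem_zpowers y) p) (hNy ▸ ha)))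
      (zpowers_le.2 hy)]
    infer_instance
  exact H5.commutator_le_centralizer_of_isCyclic P

end H10.Kg
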