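import Cfsg.Agent.H10.KgNS
import Cfsg.Agent.H10.KgRed

/-! Lower bounds for class numbers: quasi-primitive modules. -/

set_option autoImplicit false
set_option linter.unusedSectionVars false

namespace H10.Kg

open Subgroup Finset H33.Solv Cfsg
open scoped commutatorElement

universe u

/-- The condition on the commuting probability. -/
def AM (G : Type*) [Group G] (p v : ℕ) : Prop :=
  2401 * p ^ 2 * Nat.card G ≤ 14400 * kk G * (v - 1)

section am

variable {G H : Type*} [Group G] [Finite G] [Group H] {p v : ℕ}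

theorem AM.bound (h : AM G p v) {r : ℕ} (hr : v ≤ r * Nat.card G + 1) :
    49 * p ≤ 60 * (kk G + r) :=
  amgm Nat.card_pos le_rfl hr (by
    rw [sq (Nat.card G), ← mul_assoc, ← mul_assoc, mul_right_comm _ _ (v - 1)]
    exact Nat.mul_le_mul_right _ h)

theorem AM.sub (h : AM G p v) (j : H →* G) (hj : Function.Injective j) : AM H p v := by
  refine Nat.le_of_mul_le_mul_right ?_ (Nat.card_pos (α := G))
  calc _ = 2401 * p ^ 2 * Nat.card G * Nat.card H := by ring
    _ ≤ 14400 * kk G * (v - 1) * Nat.card H := Nat.mul_le_mul_right _ h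
    _ = 14400 * (kk G * Nat.card H) * (v - 1) := by ring
    _ ≤ 14400 * (kk H * Nat.card G) * (v - 1) :=
      Nat.mul_le_mul_right _ (Nat.mul_le_mul_left _ (kk_inj j hj))
    _ = _ := by ring

theorem am_of {z n c T : ℕ} (hc : 0 < c) (h1 : z ^ 2 * T ≤ c * (kk G * Nat.card G))
    (h2 : Nat.card G = z * n) (h3 : c * (2401 * p ^ 2 * n ^ 2) ≤ 14400 * T * (v - 1)) :
    AM G p v := by
  refine Nat.le_of_mul_le_mul_right ?_ (Nat.mul_pos hc (Nat.card_pos (α := G)))
  calc _ = z ^ 2 * (c * (2401 * p ^ 2 * n ^ 2)) := by rw [h2]; ring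
    _ ≤ z ^ 2 * (14400 * T * (v - 1)) := Nat.mul_le_mul_left _ h3
    _ = 14400 * (z ^ 2 * T) * (v - 1) := by ring
    _ ≤ 14400 * (c * (kk G * Nat.card G)) * (v - 1) := by gcongr
    _ = _ := by ring

end am

theorem arithA {p n t T : ℕ} (hp : 11 ≤ p) (h : 2 * t ≤ 11 * T * 11 ^ n) :
    1 * (2401 * p ^ 2 * t) ≤ 14400 * T * (p ^ (n + 2) - 1) := by
  have h1 := Nat.pow_le_pow_left hp n
  have h2 := Nat.pow_le_pow_left hp 2
  have h3 : 1 * 121 ≤ p ^ n * p ^ 2 := Nat.mul_le_mul (Nat.one_le_pow _ _ (by omega)) h2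
  have h4 : p ^ 2 * (2 * t) ≤ p ^ 2 * (11 * T * p ^ n) :=
    Nat.mul_le_mul_left _ (h.trans (Nat.mul_le_mul_left _ h1))
  have h5 : T * (2401 * 11 * (p ^ n * p ^ 2)) ≤ T * (2 * 14400 * (p ^ n * p ^ 2 - 1)) :=
    Nat.mul_le_mul_left _ (by omega)
  rw [pow_add]
  nlinarith

theorem arithB {f : ℕ} (h : 2 ≤ f) : f ^ 2 * 121 ≤ 4 * 11 ^ f := by
  have := pow_bound (n := 2) (a := 2) (b := 121) (c := 4) (by decide) (by decide) f h (by decide)
  omega

theorem arithC {e : ℕ} (h : 2 ≤ e) : 44 * e ^ 8 ≤ 11 ^ (2 * e) := by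
  rcases Nat.lt_or_ge e 3 with h3 | h3
  · obtain rfl : e = 2 := by omega
    decide
  have := pow_bound (n := 8) (a := 3) (b := 1) (c := 5) (by decide) (by decide) e h3 (by decide)
  have := Nat.pow_le_pow_right (show 0 < 11 by decide) h3
  rw [two_mul, pow_add]
  nlinarith

theorem arithD {e : ℕ} (h : 8 ≤ e) : 11 * e ^ 8 ≤ 1 * 11 ^ e :=
  pow_bound (n := 8) (a := 8) (by decide) (by decide) e h (by decide)

theorem arithE {p z k r : ℕ} (hp : 11 ≤ p) (hz : z ∣ p - 1) (hk : 4 * z ≤ k)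
    (hr : p ^ 2 ≤ r * (z * 24) + 1) : 49 * p ≤ 60 * (k + r) := by
  obtain ⟨D, hD⟩ := hz
  obtain rfl : p = z * D + 1 := by omega
  have h0 : 0 < z := Nat.pos_of_ne_zero fun e => by simp [e] at hp
  have h1 : D * (z * D + 2) ≤ 24 * r := Nat.le_of_mul_le_mul_left (by nlinarith) h0
  rcases Nat.lt_or_ge D 10 with h | h
  · rcases eq_or_ne z 2 with rfl | h2 <;> interval_cases D <;> omega
  · obtain ⟨D, rfl⟩ := Nat.exists_eq_add_of_le h
    nlinarith [Nat.zero_le (z * D), Nat.zero_le (z * D * D)]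

theorem arithF {P J : ℕ} (hP : 121 ≤ P) (h1 : 1 ≤ J) (h2 : J ≤ 12) :
    1 * (2401 * P * J ^ 2) ≤ 14400 * (3 * J - 2) * (P - 1) := by
  interval_cases J <;> omega

theorem arithG {P v x : ℕ} (hP : 121 ≤ P) (hv : P * 13 ≤ v) (h1 : 1 ≤ x) (h2 : x ≤ 24) :
    1 * (2401 * P * (3 * 3 * x) ^ 2) ≤ 14400 * (3 * (3 * 3 * x) - 2) * (v - 1) := by
  interval_cases x <;> omega

theorem arithH {P v x : ℕ} (hv : P * 121 ≤ v) (h1 : 1 ≤ x) (h2 : x ≤ 144) :
    2 * (2401 * P * (4 * 4 * x) ^ 2) ≤ 14400 * (9 * (4 * 4 * x) - 6 * (4 * 4)) * (v - 1) := by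
  have h3 : x ^ 2 + 144 ≤ 145 * x := by nlinarith
  have h4 : 2 * 2401 * (4 * 4 * x) ^ 2 ≤ 14400 * (9 * (4 * 4 * x) - 6 * (4 * 4)) * 120 := by
    rw [mul_pow]; omega
  calc _ = 2 * 2401 * (4 * 4 * x) ^ 2 * P := by ring
    _ ≤ 14400 * (9 * (4 * 4 * x) - 6 * (4 * 4)) * 120 * P := Nat.mul_le_mul_right _ h4
    _ ≤ _ := by rw [mul_assoc _ 120]; exact Nat.mul_le_mul_left _ (by omega)

set_option maxHeartbeats 1600000 in
theorem qbound {p : ℕ} (hp : p.Prime) (h11 : 11 ≤ p) : QBound.{u} p := by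
  intro H V _ _ _ _ _ _ hs hi hq hV hv r hr
  have : Nontrivial V := Finite.one_lt_card_iff_nontrivial.1
    ((Nat.one_lt_pow two_ne_zero hp.one_lt).trans_le hv)
  obtain ⟨K, G, _, _, _, _, _, _, _, hG, ⟨s⟩, hj, -⟩ := exists_scal hs hi hq
  choose j0 hj using hj
  let j : H →* G := MonoidHom.mk' j0 fun a b => eq_of_smul_eq_smul (α := V) fun v => by
    rw [mul_smul, ← hj, ← hj, ← hj, mul_smul]
  have hinj : Function.Injective j := fun a b e => eq_of_smul_eq_smul (α := V) fun v => by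
    rw [hj, hj, show j0 a = j0 b from e]
  obtain ⟨N, h⟩ := s.exists_ns hG
  obtain ⟨e, he⟩ := h.sq_index h.le le_rfl fun a _ hc => h.n2 a fun b hb => (hc b hb).symm
  obtain ⟨b1, b2, b3⟩ := ns_bound hG h he
  obtain ⟨f, hf⟩ := card_eq_pow (V := K) hp fun c => by
    obtain ⟨v, h0⟩ := exists_ne (0 : V)
    exact smul_left_injective K h0 (by beta_reduce; rw [smul_assoc, hV, zero_smul])
  have i1 := scal_index s hp hV hf
  have i2 := Nat.mul_self_le_mul_self_iff.1 ((he ▸ scal_sq s h).trans_eq (sq _))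
  have i3 : Nat.card V = p ^ (f * Module.finrank K V) := by
    rw [Module.natCard_eq_pow_finrank (K := K), hf, pow_mul]
  have i4 : Nat.card s.ι.range = p ^ f - 1 := by
    rw [← hf, ← Nat.card_units, Nat.card_congr (MonoidHom.ofInjective s.inj).toEquiv]
  generalize Module.finrank K V = d at i2 i3
  generalize s.ι.range = Z at *
  have := h.zn
  have := h.cyc
  have hle : N ≤ centralizer (Z : Set G) := fun a ha => h.cent a ha
  have i5 := relIndex_mul_relIndex Z N _ h.le hle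
  have i6 := relIndex_mul_index (h.le.trans hle)
  have i7 : 0 < N.relIndex (centralizer (Z : Set G)) := Nat.pos_of_ne_zero index_ne_zero_of_finite
  have i8 : 0 < (centralizer (Z : Set G)).index := Nat.pos_of_ne_zero index_ne_zero_of_finite
  have e0 : 0 < e := Nat.pos_of_ne_zero fun h0 =>
    (index_ne_zero_of_finite : Z.relIndex N ≠ 0) (he.trans (by rw [h0]))
  have c1 := (cS1 (Z := Z.subgroupOf (centralizer (Z : Set G))) fun z hz g =>
    Subtype.ext (g.2 _ hz)).trans ((kk_sub _).trans_eq (one_mul _).symm)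
  rw [Nat.card_congr (subgroupOfEquivOfLe (h.le.trans hle)).toEquiv] at c1
  change _ * (3 * Z.relIndex _ - 2) ≤ _ at c1
  rw [he] at i5
  rw [i3, Nat.pow_le_pow_iff_right hp.one_lt] at hv
  obtain ⟨n, hn⟩ := Nat.exists_eq_add_of_le' hv
  rw [i3] at hr
  generalize hx : N.relIndex (centralizer (Z : Set G)) = x at *
  have A : 2 * (e * e * x * (centralizer (Z : Set G)).index) ^ 2 ≤
      11 * (3 * (e * e * x) - 2) * 11 ^ n → 49 * p ≤ 60 * (kk H + r) := fun h =>
    ((am_of one_pos c1 Z.card_mul_index.symm (by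
      rw [← i6, ← i5, hn]; exact arithA h11 h)).sub j hinj).bound hr
  have A' : 2 ≤ e → (centralizer (Z : Set G)).index ^ 2 * (e * e * x) ≤ 11 * 11 ^ n →
      49 * p ≤ 60 * (kk H + r) := fun h2 h => A (by
    have : 2 * 2 * 1 ≤ e * e * x := Nat.mul_le_mul (Nat.mul_le_mul h2 h2) i7
    calc _ = 2 * (e * e * x) * ((centralizer (Z : Set G)).index ^ 2 * (e * e * x)) := by ring
      _ ≤ (3 * (e * e * x) - 2) * (11 * 11 ^ n) := by gcongr; omega
      _ = _ := by ring)
  have hY : ∀ k, k + 2 ≤ f * d → 11 ^ k ≤ 11 ^ n := fun k hk =>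
    Nat.pow_le_pow_right (by decide) (by omega)
  have b4 : e * e * x ≤ e ^ 8 := (Nat.mul_le_mul_left _ b1).trans_eq (by ring)
  have i9 := Nat.pow_le_pow_left i1 2
  rcases Nat.lt_or_ge f 2 with h2 | h2
  swap
  · have := arithB h2
    obtain ⟨f, rfl⟩ := Nat.exists_eq_add_of_le' h2
    rw [pow_add] at this
    rcases Nat.lt_or_ge e 2 with h3 | h3
    · obtain rfl : e = 1 := by omega
      obtain rfl : x = 1 := by omega
      have := hY f (Nat.le_mul_of_pos_right _ i2)
      exact A (by simp only [one_mul]; omega)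
    refine A' h3 ?_
    have k1 := arithC h3
    have k2 := Nat.pow_le_pow_right (show 0 < 11 by decide) (show f + 2 * e ≤ n + 2 by nlinarith)
    rw [pow_add, pow_add] at k2
    calc _ ≤ (4 * 11 ^ f) * e ^ 8 := by gcongr; omega
      _ ≤ _ := by nlinarith
  obtain rfl : f = 1 := by
    rcases f with _ | f
    · omega
    · omega
  have hC : (centralizer (Z : Set G)).index = 1 := by omega
  have hZ : ∀ z ∈ Z, ∀ g, z * g = g * z := fun z hz g => (index_eq_one.1 hC).ge (mem_top g) z hz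
  obtain ⟨d2, d3, d4, d5, d6, d7⟩ := b3 hZ
  rw [index_eq_one.1 hC, relIndex_top_right] at hx i5 c1
  rw [hx] at d2 d3 d4 d5 d6 d7
  rw [hC, one_pow, one_mul] at A'
  rw [one_mul] at hY hr hn
  rw [pow_one] at i4
  have P2 := Nat.pow_le_pow_left h11 2
  have cS := fun (hN : Z < N) hsq => cS2 hZ (hN := h.nn) hN hsq h.comm fun g => h.n3 fun z hz => hZ z hz g
  have hlt : 2 ≤ e → Z < N := fun h2 => h.le.lt_of_ne fun e => by
    rw [e, relIndex_self] at he; nlinarith
  rcases Nat.lt_or_ge e 8 with h8 | h8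
  swap
  · have := arithD h8
    obtain ⟨e, rfl⟩ := Nat.exists_eq_add_of_le' (show 2 ≤ e by omega)
    have := hY e i2
    rw [pow_add 11] at *
    exact A' (by omega) (by omega)
  interval_cases e
  · obtain rfl : x = 1 := by omega
    have := Nat.one_le_pow n 11 (by decide)
    exact A (by rw [hC]; omega)
  · have := Nat.le_of_dvd (by decide) (d2 rfl)
    rcases i2.eq_or_lt with rfl | h3
    swap
    · exact A' le_rfl (by have := hY 1 h3; omega)
    have k1 : (Z.comap j).index ∣ Z.index := index_comap Z j ▸ relIndex_dvd_index_of_normal Z _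
    have k2 : Z.index ∣ 24 := i5 ▸ mul_dvd_mul_left 4 (d2 rfl)
    by_cases k3 : (Z.comap j).index = 24
    · have k4 : Z.index = 24 := Nat.dvd_antisymm k2 (k3 ▸ k1)
      have k5 := cS (hlt le_rfl) b2
      have k6 := kk_inj j hinj
      rw [← Z.card_mul_index, k4] at k5 k6
      rw [← (Z.comap j).card_mul_index, k3] at k6 hr
      rw [he] at k5
      have z0 : 0 < Nat.card Z := Nat.card_pos
      have k7 : 4 * Nat.card Z ≤ kk G := by nlinarith
      exact arithE h11 (i4 ▸ card_comap_dvd_of_injective Z j hinj) (by nlinarith) hr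
    have k4 := (by decide : ∀ n ∈ Nat.divisors 24, n ≠ 24 → 1 ≤ n ∧ n ≤ 12) _
      (Nat.mem_divisors.2 ⟨k1.trans k2, by decide⟩) k3
    exact (am_of one_pos ((cS1 (Z := Z.comap j) fun z hz g => hinj (by
      rw [map_mul, map_mul, hZ _ hz])).trans_eq (one_mul _).symm)
      (Z.comap j).card_mul_index.symm (arithF P2 k4.1 k4.2)).bound hr
  · obtain ⟨k1, k2⟩ := d3 rfl
    have k3 : 13 ≤ p := by
      have : p ≠ 12 := fun e => absurd (e ▸ hp) (by decide)
      omega
    refine ((am_of one_pos c1 Z.card_mul_index.symm ?_).sub j hinj).bound hr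
    have k4 : p ^ 2 * 13 ≤ p ^ d := (Nat.mul_le_mul_left _ k3).trans
      (pow_succ p 2 ▸ Nat.pow_le_pow_right hp.pos i2)
    rw [← i5]
    exact arithG P2 k4 i7 k1
  · have k1 := d4 rfl
    have k2 := cS (hlt (by decide)) fun a ha => h.sqfree ha (b2 a ha)
    refine ((am_of two_pos k2 Z.card_mul_index.symm ?_).sub j hinj).bound hr
    have k4 : p ^ 2 * 121 ≤ p ^ d := (Nat.mul_le_mul_left _ P2).trans
      (pow_add p 2 2 ▸ Nat.pow_le_pow_right hp.pos i2)
    rw [← i5, he]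
    exact arithH k4 i7 k1
  · exact A' (by decide) (by have := hY 3 i2; have := d5 rfl; omega)
  · exact A' (by decide) (by have := hY 4 i2; have := d6 rfl; omega)
  · exact A' (by decide) (by have := hY 5 i2; have := d7 rfl; omega)

theorem hk_bound {G : Type u} [Group G] [Finite G] (hs : Group.IsSolvable G) {p : ℕ}
    [hp : Fact p.Prime] (h : p ^ 2 ∣ Nat.card G) : 49 * p ≤ 60 * kk G :=
  reduce (qbound hp.1) _ G rfl hs h

end H10.Kg
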