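import Cfsg.Agent.H10.KgKit

/-! Lower bounds for class numbers: split extensions of abelian groups. -/

set_option autoImplicit false

namespace H10.Kg

open Subgroup Finset

open Classical in
theorem ker_count {A U : Type*} [AddCommGroup A] [Fintype A] [AddCommGroup U] [Fintype U]
    (f : A →+ U) : #{a | f a = 0} * Nat.card U =
      Nat.card A * #{ψ : AddChar U ℂ | ∀ a, ψ (f a) = 1} := by
  have h1 : ∑ a, ∑ ψ : AddChar U ℂ, ψ (f a) = ∑ ψ : AddChar U ℂ, ∑ a, ψ.compAddMonoidHom f a :=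
    sum_comm
  simp only [AddChar.sum_apply_eq_ite, AddChar.sum_eq_ite, ← sum_filter, sum_const,
    nsmul_eq_mul] at h1
  rw [Nat.card_eq_fintype_card, Nat.card_eq_fintype_card, mul_comm (Fintype.card A)]
  have e : (univ.filter fun ψ : AddChar U ℂ => ∀ a, ψ (f a) = 1) =
      univ.filter fun ψ : AddChar U ℂ => ψ.compAddMonoidHom f = 0 :=
    filter_congr fun ψ _ => by rw [DFunLike.ext_iff]; rfl
  rw [e]
  exact_mod_cast h1

variable {G L U : Type*} [Group G] [Group L] [AddCommGroup U] [DistribMulAction L U]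

variable (L) in
/-- The stabiliser of a character. -/
def stab (ψ : AddChar U ℂ) : Subgroup L where
  carrier := {x | ∀ u, ψ (x • u) = ψ u}
  one_mem' := fun u => by rw [one_smul]
  mul_mem' := fun {a b} ha hb u => by rw [mul_smul, ha, hb]
  inv_mem' := fun {a} ha u => by rw [← ha, smul_inv_smul]

theorem mem_stab {ψ : AddChar U ℂ} {x : L} : x ∈ stab L ψ ↔ ∀ u, ψ (x • u - u) = 1 :=
  forall_congr' fun u => by
    rw [AddChar.map_sub_eq_div, div_eq_one_iff_eq (ψ.val_isUnit u).ne_zero]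

variable [Finite U] [Finite L]

theorem sum_stab : ∑ ψ : AddChar U ℂ, Nat.card (stab L ψ) =
    Nat.card (MulAction.orbitRel.Quotient L U) * Nat.card L := by
  classical
  have := Fintype.ofFinite U
  have := Fintype.ofFinite L
  have h := MulAction.sum_card_fixedBy_eq_card_orbits_mul_card_group L U
  rw [Nat.card_eq_fintype_card, Nat.card_eq_fintype_card (α := L)]
  refine Eq.trans ?_ h
  simp only [← card_filter_mem]
  refine (sum_card_bipartiteAbove_eq_sum_card_bipartiteBelow (s := univ) (t := univ)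
    fun (ψ : AddChar U ℂ) (x : L) => x ∈ stab L ψ).trans (sum_congr rfl fun x _ => ?_)
  have := ker_count (DistribSMul.toAddMonoidHom U x - AddMonoidHom.id U)
  rw [mul_comm] at this
  rw [Fintype.card_subtype]
  convert (Nat.eq_of_mul_eq_mul_left Nat.card_pos this).symm using 2
  · ext ψ; simp [mem_stab]
  · ext u; simp [sub_eq_zero]

theorem sd_core [Finite G] (Φ : U × L → G) (hinj : Function.Injective Φ)
    (hmul : ∀ u x w y, Φ (u, x) * Φ (w, y) = Φ (u + x • w, x * y)) :
    Nat.card U * ∑ ψ : AddChar U ℂ, kk (stab L ψ) * Nat.card (stab L ψ) ≤ kk G * Nat.card G := by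
  classical
  have := Fintype.ofFinite U
  have := Fintype.ofFinite L
  have := Fintype.ofFinite G
  let C : Finset (L × L) := {p | Commute p.1 p.2}
  have h1 : ∀ ψ : AddChar U ℂ, kk (stab L ψ) * Nat.card (stab L ψ) =
      #{p ∈ C | p.1 ∈ stab L ψ ∧ p.2 ∈ stab L ψ} := fun ψ => by
    rw [← card_comm_eq_card_conjClasses_mul_card, Nat.card_eq_fintype_card, Fintype.card_subtype]
    exact card_bij (fun p _ => (p.1.1, p.2.1))
      (fun p hp => mem_filter.2 ⟨mem_filter.2 ⟨mem_univ _,
        congrArg Subtype.val (mem_filter.1 hp).2.eq⟩, p.1.2, p.2.2⟩)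
      (fun a _ b _ e => Prod.ext (Subtype.ext (congrArg Prod.fst e))
        (Subtype.ext (congrArg Prod.snd e))) fun p hp =>
      ⟨(⟨p.1, (mem_filter.1 hp).2.1⟩, ⟨p.2, (mem_filter.1 hp).2.2⟩), mem_filter.2
        ⟨mem_univ _, Subtype.ext (mem_filter.1 (mem_filter.1 hp).1).2.eq⟩, rfl⟩
  have h2 : ∀ p : L × L, Nat.card U * #{ψ : AddChar U ℂ | p.1 ∈ stab L ψ ∧ p.2 ∈ stab L ψ} =
      #{q : U × U | q.1 + p.1 • q.2 = q.2 + p.2 • q.1} := fun p => by
    have := ker_count ((AddMonoidHom.id U - DistribSMul.toAddMonoidHom U p.2).coprod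
      (DistribSMul.toAddMonoidHom U p.1 - AddMonoidHom.id U))
    rw [Nat.card_prod, mul_assoc, mul_comm] at this
    convert (Nat.eq_of_mul_eq_mul_left Nat.card_pos this).symm using 3
    · ext ψ
      simp only [mem_filter, mem_univ, true_and, mem_stab, Prod.forall, AddMonoidHom.coprod_apply,
        AddMonoidHom.sub_apply, AddMonoidHom.id_apply, DistribSMul.toAddMonoidHom_apply]
      refine ⟨fun h a b => ?_, fun h => ⟨fun u => by simpa using h 0 u, fun u => by
        simpa [sub_eq_add_neg, add_comm] using h (-u) 0⟩⟩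
      have := h.2 (-a)
      rw [smul_neg, sub_neg_eq_add, neg_add_eq_sub] at this
      rw [AddChar.map_add_eq_mul, h.1, this, mul_one]
    · simp only [AddMonoidHom.coprod_apply, AddMonoidHom.sub_apply, AddMonoidHom.id_apply,
        DistribSMul.toAddMonoidHom_apply]
      rw [← sub_eq_zero]
      exact Eq.congr_left (by abel)
  simp only [h1]
  rw [show ∑ ψ : AddChar U ℂ, #{p ∈ C | p.1 ∈ stab L ψ ∧ p.2 ∈ stab L ψ} =
    ∑ p ∈ C, #{ψ : AddChar U ℂ | p.1 ∈ stab L ψ ∧ p.2 ∈ stab L ψ} from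
    sum_card_bipartiteAbove_eq_sum_card_bipartiteBelow (s := univ) (t := C)
      fun (ψ : AddChar U ℂ) (p : L × L) => p.1 ∈ stab L ψ ∧ p.2 ∈ stab L ψ, mul_sum]
  simp only [h2]
  rw [← card_sigma, ← card_comm_eq_card_conjClasses_mul_card, Nat.card_eq_fintype_card,
    Fintype.card_subtype]
  refine card_le_card_of_injOn (fun t => (Φ (t.2.1, t.1.1), Φ (t.2.2, t.1.2))) (fun t ht => ?_)
    fun a _ b _ e => ?_
  · obtain ⟨k1, k2⟩ := mem_sigma.1 ht
    refine mem_filter.2 ⟨mem_univ _, ?_⟩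
    rw [Commute, SemiconjBy, hmul, hmul, (mem_filter.1 k1).2.eq, (mem_filter.1 k2).2]
  · have e1 := hinj (congrArg Prod.fst e)
    have e2 := hinj (congrArg Prod.snd e)
    rw [Prod.ext_iff] at e1 e2
    exact Sigma.ext (Prod.ext e1.2 e2.2) (heq_of_eq (Prod.ext e1.1 e2.1))

theorem sd [Finite G] (Φ : U × L → G) (hinj : Function.Injective Φ)
    (hmul : ∀ u x w y, Φ (u, x) * Φ (w, y) = Φ (u + x • w, x * y)) {b c m : ℕ}
    (hb : ∀ S : Subgroup L, (∀ x, (∀ u : U, x • u = u) → x ∈ S) → b ≤ c * kk S)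
    (s : U → ℕ) (hs : ∀ (x : L) u, s (x • u) = s u) (hm : ∀ i < m, ∃ u, s u = i) :
    b * (m * (Nat.card U * Nat.card L)) ≤ c * (kk G * Nat.card G) := by
  have h1 : m ≤ Nat.card (MulAction.orbitRel.Quotient L U) := by
    choose u hu using hm
    simpa using Nat.card_le_card_of_injective
      (fun i : Fin m => (Quotient.mk _ (u i i.2) : MulAction.orbitRel.Quotient L U)) fun i j e => by
        obtain ⟨x, hx⟩ := Quotient.exact e
        exact Fin.ext (by rw [← hu i i.2, ← hx, hs, hu])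
  calc _ ≤ b * (Nat.card (MulAction.orbitRel.Quotient L U) * (Nat.card U * Nat.card L)) := by
        gcongr
    _ = Nat.card U * ∑ ψ : AddChar U ℂ, b * Nat.card (stab L ψ) := by
        rw [← mul_sum, sum_stab]; ring
    _ ≤ Nat.card U * ∑ ψ : AddChar U ℂ, c * (kk (stab L ψ) * Nat.card (stab L ψ)) := by
        refine Nat.mul_le_mul_left _ (sum_le_sum fun ψ _ => ?_)
        rw [← mul_assoc]
        exact Nat.mul_le_mul_right _ (hb _ fun x hx u => congrArg ψ (hx u))
    _ ≤ _ := by
        rw [← mul_sum, mul_left_comm]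
        exact Nat.mul_le_mul_left _ (sd_core Φ hinj hmul)

end H10.Kg
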