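import Cfsg.Agent.H63.KgvSpec

/-! # Tower KGV: the semilinear case -/

set_option autoImplicit false

namespace H10.KgvI2

open Finset Cfsg H63.Kgv

universe u

theorem exists_w (eg : EgSt.{u}) {K : Type} [Field K] [Fintype K] (θ : Kˣ →* ℂˣ)
    (hθ : Function.Injective θ) {H : Type u} [Group H] [Fintype H] {φ : H → ℂ}
    (hc : IsCharacter H φ) (h1 : φ 1 = 1) (h : H) (hh : h ^ (Fintype.card K - 1) = 1) :
    ∃ w : Kˣ, φ h = θ w ∧ ∀ {p : ℕ} (Hf : ZMod p → Kˣ → ℂ) (d : ℕ) (t : ZMod p),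
      gam θ Hf d φ t h = Hf t w ^ d := by
  classical
  have e := (eg K θ H hθ).2 φ h hc hh
  have e0 := e 0
  have e1 := e 1
  simp only [pow_zero, h1, mul_one] at e0
  have e0' : ∑ x : Kˣ, em θ φ h x = 1 := by exact_mod_cast e0.symm
  obtain ⟨w, hw, hw'⟩ : ∃ w, em θ φ h w = 1 ∧ ∀ b ∈ (univ : Finset Kˣ), b ≠ w → em θ φ h b = 0 := by
    obtain ⟨w, -, hw⟩ := Finset.exists_ne_zero_of_sum_ne_zero (e0'.trans_ne one_ne_zero)
    rw [← Finset.add_sum_erase _ _ (mem_univ w)] at e0'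
    refine ⟨w, by omega, fun b _ hb => ?_⟩
    have := Finset.single_le_sum (f := em θ φ h) (s := univ.erase w) (fun _ _ => Nat.zero_le _)
      (mem_erase.2 ⟨hb, mem_univ b⟩)
    omega
  refine ⟨w, ?_, fun Hf d t => ?_⟩
  · rw [pow_one] at e1
    rw [e1, Finset.sum_eq_single w (fun b _ hb => by simp [hw' b (mem_univ _) hb]) (by simp), hw]
    simp
  · unfold gam
    convert Finset.prod_eq_single (s := univ) (f := fun x => Hf t x ^ (d * em θ φ h x)) w
      (fun b _ hb => by simp [hw' b (mem_univ _) hb]) (by simp) using 1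
    simp [hw]

theorem job : JI2.{u} := by
  intro eg sm vl gl p _ M K _ _ θ a Hf hs E _ _ hE H _ d x χ φ id hd hχ hmul h1 hq ⟨h0, hh0⟩
  classical
  have hp : p.Prime := Fact.out
  have hd0 : 0 < d := Nat.pos_of_dvd_of_pos hd hs.pos
  have hM1 : 1 ≤ p ^ M := Nat.one_le_pow _ _ hp.pos
  have h2 : 2 ∣ p ^ M - 1 := (id.idx ▸ H.index_dvd_card).trans hE
  have hp2 : p ≠ 2 := by
    rintro rfl
    have : 2 ∣ 2 ^ M := dvd_pow_self 2 hs.pos.ne'
    omega
  have hodd : Odd p := hp.odd_of_ne_two hp2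
  have h2d : 2 ∣ p ^ d - 1 := by
    obtain ⟨k, hk⟩ := hodd.pow (n := d)
    exact ⟨k, by omega⟩
  have hK2 : (2 : K) ≠ 0 := by
    intro h
    have h3 : (Fintype.card K : K) = 0 := FiniteField.cast_card_eq_zero K
    obtain ⟨k, hk⟩ := hodd.pow (n := M)
    rw [hs.card, hk] at h3
    push_cast at h3
    rw [h] at h3
    simp at h3
  have hω : orderOf (-1 : Kˣ) = 2 := by
    refine orderOf_eq_prime (by simp) fun h => hK2 ?_
    have : ((-1 : Kˣ) : K) = 1 := by rw [h]; rfl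
    simp only [Units.val_neg, Units.val_one] at this
    linear_combination -this
  have hZ2 : (2 : ZMod p) ≠ 0 := by
    intro h
    have : ((2 : ℕ) : ZMod p) = 0 := by exact_mod_cast h
    rw [ZMod.natCast_eq_zero_iff] at this
    exact hp2 ((Nat.prime_dvd_prime_iff_eq hp Nat.prime_two).1 this)
  have hpow : ∀ (h : H) (j : ℕ), φ (h ^ j) = φ h ^ j := fun h j => by
    induction j with
    | zero => simp [h1]
    | succ j ih => rw [pow_succ, hmul, ih, pow_succ]
  have hcj : ∀ (k h : H), φ (k * h * k⁻¹) = φ h := fun k h => by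
    rw [hmul, hmul, mul_comm (φ k), mul_assoc, ← hmul, mul_inv_cancel, h1, mul_one]
  have hw : ∀ h : H, ∃ w : Kˣ, φ h = θ w ∧ ∀ {p : ℕ} (Hf : ZMod p → Kˣ → ℂ) (d : ℕ) (t : ZMod p),
      gam θ Hf d φ t h = Hf t w ^ d := fun h => exists_w eg θ hs.inj id.ch h1 h (by
    rw [hs.card, ← orderOf_dvd_iff_pow_eq_one]
    exact ((orderOf_dvd_natCard h).trans H.card_subgroup_dvd_card).trans hE)
  choose w hw1 hw2 using hw
  have hinj : ∀ u v : Kˣ, ((θ u : ℂˣ) : ℂ) = θ v → u = v := fun u v h => hs.inj (Units.ext h)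
  have hx : ∀ h : H, w (MulAut.conjNormal x h) = w h ^ p ^ d := fun h => hinj _ _ (by
    rw [← hw1, ← hq, hpow, hw1, map_pow, Units.val_pow_eq_pow_val])
  have hxx : x * x ∈ H := Subgroup.mul_self_mem_of_index_two id.idx x
  have hww : ∀ h : H, w h ^ p ^ (d * 2) = w h := fun h => by
    rw [pow_mul, sq, pow_mul, ← hx, ← hx]
    refine hinj _ _ ?_
    rw [← hw1, ← hw1, ← hcj ⟨x * x, hxx⟩ h]
    congr 1
    apply Subtype.ext
    simp [mul_assoc]
  have hfr : ∀ (t : ZMod p) (v : Kˣ) (k : ℕ), t ≠ 0 → Hf t (v ^ p ^ k) = Hf t v := fun t v k ht => by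
    induction k with
    | zero => simp
    | succ k ih => rw [pow_succ, pow_mul, hs.frob t _ ht, ih]
  have hd2 : d * 2 ∣ M := by
    obtain ⟨k, hk⟩ := hd
    rcases Nat.even_or_odd' k with ⟨j, rfl | rfl⟩
    · exact ⟨j, by rw [hk]; ring⟩
    · exfalso
      apply hh0
      have hj : ∀ j : ℕ, w h0 ^ p ^ (d * 2 * j) = w h0 := fun j => by
        induction j with
        | zero => simp
        | succ j ih => rw [mul_add, mul_one, pow_add, pow_mul, ih, hww]
      have hM : w h0 ^ p ^ M = w h0 := by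
        apply Units.ext
        rw [Units.val_pow_eq_pow_val, ← hs.card, FiniteField.pow_card]
      rw [hk, show d * (2 * j + 1) = d * 2 * j + d by ring, pow_add, pow_mul, hj] at hM
      rw [hpow, hw1, ← Units.val_pow_eq_pow_val, ← map_pow, hM]
  have hsq : ∀ y : E, y ^ 2 ∈ H := fun y => Subgroup.sq_mem_of_index_two id.idx y
  obtain ⟨n, hn, hv⟩ := vl p M K θ a Hf hs E hE H 2 d x χ φ (-1) id hd h2d hω hχ
  have hn1 : n = 1 := by rw [h1] at hn; exact_mod_cast hn.symm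
  obtain ⟨m, hm⟩ := hs.cong 2 d (-1) Nat.prime_two hd h2d hω
  let Γ : ZMod p → E → ℂ := fun t y => if hy : y ∈ H then
    -∑ j ∈ range ((p ^ d) ^ 2 - 1), ee p (t * a (d * 2) j) * φ ⟨y, hy⟩ ^ j else
    -∑ i ∈ range (p ^ d - 1), ee p (2 * t * a d i) * φ ⟨y ^ 2, hsq y⟩ ^ i
  have hΓ : Good p E Γ := sm p E H (p ^ d) x φ (a (d * 2)) (a d) Γ
    (le_trans hp.two_le (Nat.le_self_pow hd0.ne' p)) id.idx id.out hmul h1
    (fun h => by rw [← hpow, hq]) (fun j => by rw [← pow_mul]; exact hs.s1 d j hd2)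
    (fun i => hs.s2 d i hd2) (fun t h => by simp [Γ])
    (fun t y h hy e => by
      have : h = ⟨y ^ 2, hsq y⟩ := Subtype.ext e
      simp only [Γ, dif_neg hy, this])
  refine gl p E H 2 1 m Γ _ id.idx hΓ fun t ht => ⟨fun y hy => ?_, fun y hy => ?_⟩
  · have := (hv t ht).1 ⟨y, hy⟩
    simp only [prod_range_succ, range_zero, prod_empty, one_mul, pow_zero, pow_one, map_one,
      MulAut.one_apply, hw2, hx, hfr t _ _ ht] at this
    rw [this, ← pow_add, ← mul_two, hs.lin t _ _ ht hd2 (hww _)]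
    simp only [Γ, dif_pos hy, hw1, pow_mul]
  · have := (hv t ht).2 y ⟨y ^ 2, hsq y⟩ hy rfl
    have hyx : y * x⁻¹ ∈ H := (Subgroup.mul_mem_iff_of_index_two id.idx).2
      (by simp [hy, id.out])
    have hf : w ⟨y ^ 2, hsq y⟩ ^ p ^ d = w ⟨y ^ 2, hsq y⟩ := by
      rw [← hx]
      refine hinj _ _ ?_
      rw [← hw1, ← hw1, ← hcj ⟨y * x⁻¹, hyx⟩]
      congr 1
      apply Subtype.ext
      simp only [Subgroup.coe_mul, Subgroup.coe_inv, MulAut.conjNormal_apply]
      group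
    have ht2 : ((2 : ℕ) : ZMod p) * t ≠ 0 := mul_ne_zero (by exact_mod_cast hZ2) ht
    rw [this, hn1, hm t ht, hw2, hs.lin _ _ _ ht2 hd hf]
    simp only [Γ, dif_neg hy, hw1, Nat.cast_ofNat]

end H10.KgvI2
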