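import Cfsg.Agent.H63.KgvSpec

/-! # Tower KGV: power sums by the logarithmic derivative -/

set_option autoImplicit false

namespace H10.KgvPW1

open Polynomial H63.Kgv

variable {F : Type} [Field F]

theorem cc {f : F[X]} (hf : f.Monic) :
    PowerSeries.constantCoeff ((f.reverse : F[X]) : PowerSeries F) = 1 := by
  rw [← PowerSeries.coeff_zero_eq_constantCoeff_apply, Polynomial.coeff_coe, coeff_zero_reverse,
    hf.leadingCoeff]

theorem mi {f : F[X]} (hf : f.Monic) :
    ((f.reverse : F[X]) : PowerSeries F) * ((f.reverse : F[X]) : PowerSeries F)⁻¹ = 1 :=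
  PowerSeries.mul_inv_cancel _ (by rw [cc hf]; exact one_ne_zero)

theorem pw_mul (r : ℕ) (f g : F[X]) (hf : f.Monic) (hg : g.Monic) :
    pw r (f * g) = pw r f + pw r g := by
  unfold pw
  rw [← map_add, reverse_mul_of_domain, derivative_mul]
  congr 1
  push_cast
  rw [PowerSeries.mul_inv_rev]
  have h1 := mi hf
  have h2 := mi hg
  linear_combination (-(PowerSeries.X * ((derivative f.reverse : F[X]) : PowerSeries F)) *
    ((f.reverse : F[X]) : PowerSeries F)⁻¹) * h2 +
    (-(PowerSeries.X * ((derivative g.reverse : F[X]) : PowerSeries F)) *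
    ((g.reverse : F[X]) : PowerSeries F)⁻¹) * h1

theorem pw_one (r : ℕ) : pw r (1 : F[X]) = 0 := by
  have := pw_mul r (1 : F[X]) 1 monic_one monic_one
  rw [mul_one] at this
  linear_combination -this

theorem pw_add (r : ℕ) (f : F[X]) (c : F) (hr : 0 < r) (hf : f.Monic) (hd : f.natDegree = r) :
    pw r (f + C c) = pw r f - r * c := by
  have hm : (f + C c).Monic := hf.add_of_left (by
    refine lt_of_le_of_lt degree_C_le ?_
    rw [degree_eq_natDegree hf.ne_zero, hd]
    exact_mod_cast hr)
  have hrev : (f + C c).reverse = f.reverse + C c * X ^ r := by rw [reverse_add_C, hd]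
  obtain ⟨s, rfl⟩ : ∃ s, r = s + 1 := ⟨r - 1, by omega⟩
  have h1 := mi hf
  have h2 := mi hm
  have h3 := cc hm
  unfold pw
  generalize hB : (((f + C c).reverse : F[X]) : PowerSeries F)⁻¹ = B at h2
  have h4 : PowerSeries.constantCoeff B = 1 := by
    have := congrArg PowerSeries.constantCoeff h2
    rwa [map_mul, h3, one_mul, map_one] at this
  rw [hrev] at h2 ⊢
  have e : -(PowerSeries.X * ((derivative (f.reverse + C c * X ^ (s + 1)) : F[X]) : PowerSeries F)) * B =
      -(PowerSeries.X * ((derivative f.reverse : F[X]) : PowerSeries F)) *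
        ((f.reverse : F[X]) : PowerSeries F)⁻¹ +
      PowerSeries.X ^ (s + 1 + 1) * (PowerSeries.C c * ((derivative f.reverse : F[X]) : PowerSeries F) *
        ((f.reverse : F[X]) : PowerSeries F)⁻¹ * B) -
      PowerSeries.X ^ (s + 1) * (PowerSeries.C (((s + 1 : ℕ) : F) * c) * B) := by
    rw [derivative_add, derivative_C_mul_X_pow, Nat.add_sub_cancel]
    push_cast at h2 ⊢
    simp only [map_mul, map_add, map_natCast, map_one]
    linear_combination (PowerSeries.X * ((derivative f.reverse : F[X]) : PowerSeries F) * B) * h1 -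
      (PowerSeries.X * ((derivative f.reverse : F[X]) : PowerSeries F) *
        ((f.reverse : F[X]) : PowerSeries F)⁻¹) * h2
  rw [e, map_sub, map_add, PowerSeries.coeff_X_pow_mul', PowerSeries.coeff_X_pow_mul',
    if_neg (by omega), if_pos le_rfl, Nat.sub_self, PowerSeries.coeff_zero_eq_constantCoeff_apply,
    map_mul (PowerSeries.constantCoeff (R := F)), h4, PowerSeries.constantCoeff_C, add_zero, mul_one]

theorem pw_1 (f : F[X]) (hf : f.Monic) : pw 1 f = -f.nextCoeff := by
  unfold pw
  have h4 : PowerSeries.constantCoeff ((f.reverse : F[X]) : PowerSeries F)⁻¹ = 1 := by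
    rw [PowerSeries.constantCoeff_inv, cc hf, inv_one]
  rw [neg_mul, map_neg, mul_assoc, PowerSeries.coeff_succ_X_mul,
    PowerSeries.coeff_zero_eq_constantCoeff_apply, map_mul, h4, mul_one,
    ← PowerSeries.coeff_zero_eq_constantCoeff_apply, Polynomial.coeff_coe, coeff_derivative,
    zero_add, coeff_one_reverse]
  simp

theorem pw_lin (r : ℕ) (a : F) (hr : 0 < r) : pw r (X - C a) = a ^ r := by
  obtain ⟨s, rfl⟩ : ∃ s, r = s + 1 := ⟨r - 1, by omega⟩
  have hrev : (X - C a : F[X]).reverse = 1 - C a * X := by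
    have hX : (X : F[X]).reverse = 1 := by
      rw [← one_mul (X : F[X]), reverse_mul_X, ← C_1, reverse_C]
    rw [sub_eq_add_neg, ← C_neg, reverse_add_C, natDegree_X, hX, pow_one, C_neg]
    ring
  have h1 := mi (monic_X_sub_C a)
  unfold pw
  rw [hrev] at h1 ⊢
  have h2 : ((1 - C a * X : F[X]) : PowerSeries F) * PowerSeries.mk (fun n => a ^ n) = 1 := by
    push_cast
    ext n
    rw [sub_mul, one_mul, mul_assoc, map_sub, PowerSeries.coeff_C_mul]
    cases n with
    | zero => simp
    | succ n => simp [PowerSeries.coeff_succ_X_mul, PowerSeries.coeff_one, pow_succ']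
  have h3 : ((1 - C a * X : F[X]) : PowerSeries F)⁻¹ = PowerSeries.mk (fun n => a ^ n) := by
    linear_combination (-((1 - C a * X : F[X]) : PowerSeries F)⁻¹) * h2 +
      PowerSeries.mk (fun n => a ^ n) * h1
  rw [h3]
  have h4 : derivative (1 - C a * X : F[X]) = -C a := by simp
  rw [h4]
  push_cast
  rw [mul_neg, neg_neg, mul_assoc, PowerSeries.coeff_succ_X_mul, PowerSeries.coeff_C_mul,
    PowerSeries.coeff_mk, pow_succ']

theorem job : JPW1 := fun F _ =>
  ⟨pw_mul, fun ψ χ r => ⟨by simp [lam, pw_one], fun f g hf hg => by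
    unfold lam
    rw [pw_mul r f g hf hg, AddChar.map_add_eq_mul, hf.natDegree_mul hg, mul_coeff_zero, pow_add,
      mul_mul_mul_comm ((-1 : F) ^ _), map_mul]
    ring⟩, pw_add, pw_1, pw_lin⟩

end H10.KgvPW1
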