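import Cfsg.Agent.H10.O7TL
import Cfsg.Agent.H72.O7W4

/-! O7, chapter B: groups of `(2, 3, 7)` type fix a spinor (`JobH`, `JobH28`). -/

set_option autoImplicit false
set_option linter.unusedSectionVars false

namespace H10.O7H

open H56 QuadraticMap Module Cfsg Subgroup H31.O7 H10.O7TL Polynomial
open H20.LD (cp)

universe u

section lin

variable {K : Type u} [Field K] {V : Type u} [AddCommGroup V] [Module K V] [FiniteDimensional K V]

theorem charpoly_cyc (d : finrank K V = 7) {f : V →ₗ[K] V} (h7 : f ^ 7 = 1) {v : V}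
    (li : LinearIndependent K fun j : Fin 7 => (f ^ j.val) v) : f.charpoly = X ^ 7 - C 1 := by
  rw [← sub_eq_zero]
  set P := f.charpoly - (X ^ 7 - C 1) with hP
  have dg : P.degree < 7 := by
    have e1 : f.charpoly.degree = 7 := by
      rw [degree_eq_natDegree f.charpoly_monic.ne_zero, f.charpoly_natDegree, d]; rfl
    have := degree_sub_lt_left (p := f.charpoly) (q := X ^ 7 - C 1)
      (by rw [e1, degree_X_pow_sub_C (by norm_num)]; rfl) f.charpoly_monic.ne_zero
      (by rw [f.charpoly_monic, monic_X_pow_sub_C _ (by norm_num)])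
    rwa [e1] at this
  by_contra P0
  have nd : P.natDegree < 7 := (natDegree_lt_iff_degree_lt P0).2 dg
  have z : aeval f P = 0 := by
    rw [hP, map_sub, f.aeval_self_charpoly]; simp [h7]
  rw [aeval_eq_sum_range' nd, ← Fin.sum_univ_eq_sum_range (fun i => P.coeff i • f ^ i)] at z
  have z' := LinearMap.congr_fun z v
  simp only [LinearMap.sum_apply, LinearMap.smul_apply, LinearMap.zero_apply] at z'
  have := Fintype.linearIndependent_iff.1 li _ z' ⟨P.natDegree, nd⟩
  exact P0 (leadingCoeff_eq_zero.1 this)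

variable {Q : QuadraticForm K V}

theorem lin_pow (g : O Q) (n : ℕ) : (g ^ n).lin = g.lin ^ n := by
  induction n with
  | zero => rfl
  | succ n ih => rw [pow_succ, pow_succ, O.lin_mul, ih]; rfl

theorem charpoly_pow (d : finrank K V = 7) {g : O Q} (h7 : g ^ 7 = 1) {v : V}
    (li : LinearIndependent K fun j : Fin 7 => (g ^ j.val) v) {k : ℕ} (hk : ¬ 7 ∣ k) :
    (g ^ k).lin.charpoly = X ^ 7 - C 1 := by
  refine charpoly_cyc d (by rw [← lin_pow, ← pow_mul, mul_comm, pow_mul, h7, one_pow]; rfl)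
    (v := v) ?_
  have inj : ∀ r : Fin 7, r.val ≠ 0 → Function.Injective fun j : Fin 7 => r * j := by decide
  have := li.comp _ (inj ⟨k % 7, Nat.mod_lt _ (by norm_num)⟩ (by simp only; omega))
  convert this using 2 with j
  rw [← lin_pow, O.lin_apply, ← pow_mul, pow_eq_pow_mod _ h7]
  simp [Fin.val_mul]

end lin

section grp

variable {Γ : Type*} [Group Γ]

theorem comm_of {x y : Γ} (gen : closure {x, y} = ⊤) (c : Commute x y) : IsMulCommutative Γ := by
  have := isMulCommutative_closure (k := {x, y}) (by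
    rintro _ (rfl | rfl) _ (rfl | rfl)
    exacts [rfl, c.eq, c.eq.symm, rfl])
  exact ⟨⟨fun a b => setLike_mul_comm (s := closure {x, y}) (gen ▸ mem_top a) (gen ▸ mem_top b)⟩⟩

theorem g3_of [IsSimpleGroup Γ] {x y : Γ} (gen : closure {x, y} = ⊤) (h1 : x ≠ 1)
    (y3 : y ^ 3 = 1) : G3 x := by
  refine ⟨x, cp y 1 x, cp y 2 x, IsConj.refl x, isConj_cp _ _ _, isConj_cp _ _ _, ?_⟩
  set N := closure {x, cp y 1 x, cp y 2 x} with hN
  have m : ∀ a ∈ ({x, cp y 1 x, cp y 2 x} : Set Γ), a ∈ N := fun a h => subset_closure h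
  have a1 : ∀ a ∈ N, cp y 1 a ∈ N := fun a ha => by
    have : N ≤ N.comap (MulAut.conj y).toMonoidHom := (closure_le _).2 (by
      have e : ∀ a, (MulAut.conj y).toMonoidHom a = cp y 1 a := fun a => by rw [cp_one]; rfl
      rintro _ (rfl | rfl | rfl) <;> rw [SetLike.mem_coe, mem_comap, e]
      · exact m _ (by simp)
      · rw [cp_cp]; exact m _ (by simp)
      · rw [cp_cp, cp, y3]; simpa using m _ (by simp))
    rw [cp_one]; exact this ha
  have nz : normalizer (N : Set Γ) = ⊤ := by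
    rw [eq_top_iff, ← gen, closure_le]
    rintro _ (rfl | rfl)
    · exact le_normalizer (m _ (by simp))
    · refine mem_normalizer_iff.2 fun a => ⟨fun h => cp_one _ a ▸ a1 a h, fun h => ?_⟩
      have := a1 _ (a1 _ h)
      rwa [← cp_one, cp_cp, cp_cp, cp, y3, one_mul, inv_one, mul_one] at this
  exact (normalizer_eq_top_iff.1 nz).eq_bot_or_eq_top.resolve_left fun e =>
    h1 (mem_bot.1 (e ▸ m x (by simp)))

end grp

section spin

variable {K : Type u} [Field K] {V : Type u} [AddCommGroup V] [Module K V] {Q : QuadraticForm K V}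
  {S : Type u} [AddCommGroup S] [Module K S] {β : QuadraticForm K S} {γ : V →ₗ[K] S →ₗ[K] S}
  {e : V} {v v' : Fin 3 → V} {b : Basis (Finset (Fin 3)) K S}

theorem conj_eig {G Z : O β} {x : S} {c d : K} (hG : G x = d • x) (hZ : Z x = c • x) :
    (G * Z * G⁻¹) x = c • x := by
  by_cases x0 : x = 0
  · simp [x0]
  have d0 : d ≠ 0 := fun e => x0 (by rwa [e, zero_smul, O.apply_eq_zero] at hG)
  have : G⁻¹ x = d⁻¹ • x := by
    rw [O.inv_apply_eq, map_smul, hG, smul_smul, inv_mul_cancel₀ d0, one_smul]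
  rw [O.mul_apply, O.mul_apply, this, map_smul, hZ, map_smul, map_smul, hG, smul_smul, smul_smul]
  congr 1; field_simp

theorem sc_apply' {G : O β} {c : K} (h : Sc b G c) {x : S}
    (hx : ∀ I, I ≠ ∅ → I ≠ Finset.univ → b.repr x I = 0) : G x = c • x := by
  have : x = b.repr x ∅ • b ∅ + b.repr x Finset.univ • b Finset.univ := b.ext_elem fun I => by
    have n : (Finset.univ : Finset (Fin 3)) ≠ ∅ := by decide
    by_cases c : I = ∅
    · simp [c, n]
    by_cases c' : I = Finset.univ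
    · simp [c', n.symm]
    simp [hx I c c', Ne.symm c, Ne.symm c']
  rw [this, map_add, map_smul, map_smul, h.1, h.2, smul_add, smul_comm c, smul_comm c]

theorem exists_Z' (k : Kit Q β γ) (h2 : (2 : K) ≠ 0) (sb : SB (Q := Q) β γ e v v' b) {z : O Q}
    (hd : LinearMap.det z.lin = 1) {j : Fin 3}
    (d : Dg z e v v' fun i => if i = j then 1 else -1) :
    ∃ Z : O β, Lf γ z Z.1 ∧ Z (b ∅) = b ∅ ∧ ∀ x, Z x = x → ∀ I ∉ A j, b.repr x I = 0 := by
  obtain ⟨Z, a, h⟩ := exists_nl k sb hd d (by fin_cases j <;> simp)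
  have p : ∀ I : Finset (Fin 3), ∏ i ∈ I, (if i = j then (1 : K) else -1)⁻¹ =
      (-1) ^ (I.erase j).card := fun I => by
    rw [← Finset.prod_erase I (a := j) (by simp), ← Finset.prod_const]
    exact Finset.prod_congr rfl fun i hi => by simp [(Finset.mem_erase.1 hi).1]
  simp only [p] at h
  refine ⟨Z, a, by rw [h]; simp, fun x c I hI => ?_⟩
  have := repr_diag h x I
  rw [c, (Nat.not_even_iff_odd.1 (mt (even_A j I).2 hI)).neg_one_pow] at this
  exact (mul_eq_zero.1 (by linear_combination this)).resolve_left h2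

end spin

theorem sp_z7 (sps : SPs.{u}) {K : Type u} [Field K] [IsAlgClosed K] {V : Type u} [AddCommGroup V]
    [Module K V] [FiniteDimensional K V] {Q : QuadraticForm K V} {S : Type u} [AddCommGroup S]
    [Module K S] [FiniteDimensional K S] {β : QuadraticForm K S} {γ : V →ₗ[K] S →ₗ[K] S}
    (sp : Spin Q β γ) {Γ : Type} [Group Γ] {p : ℕ} {ρ : Γ →* O Q} (h : Rp p ρ) {x y : Γ}
    (z : Z7 (x * y)) : Sp1 β γ (ρ x * ρ y) := by
  rw [← map_mul]
  obtain ⟨-, -, a, c⟩ := sps K V Q S β γ sp _ (h.det (x * y))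
  rcases z with ⟨e, f⟩ | ⟨e, f⟩
  · exact a (by rw [← map_pow, e, map_one]) (map_pow ρ _ 2 ▸ charpoly_conj (ρ.map_isConj f))
  · exact c (by rw [← map_pow, e, map_one]) (map_pow ρ _ 3 ▸ charpoly_conj (ρ.map_isConj f))

theorem jobH : JobH.{u} := by
  intro sk w4 c7 tl0 sps scs p K _ V _ _ _ Q Γ _ _ ρ h ac S _ _ _ β γ sp C
  have k : Kit Q β γ := sk K V Q S β γ sp
  have h2 := h.two
  have fr := (w4 p K V Q Γ ρ h).2.1
  have := h.simple
  rcases C with ⟨x, y, gen, x2, y3, z7, c⟩ | ⟨x, w, t, t3, ft, cx, z7, tm, gen⟩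
  · have x1 : x ≠ 1 := fun e => h.nab (comm_of gen (e ▸ Commute.one_left y))
    have rx := fr x ⟨x1, x2, .inr (.inr (g3_of gen x1 y3))⟩
    obtain ⟨s, s0, a, b⟩ := scs K V Q S β γ sp (ρ x) (ρ y) (by rw [← map_mul, x2, map_one]) rx
      (by rw [← map_pow, y3, map_one]) (c.imp h.three.2 fun ⟨t, c1, c2⟩ =>
        (c7 p K V Q Γ ρ h t y c2 ((Rp.rk_conj c1).symm.trans rx)).1) (sp_z7 sps sp h z7)
    exact FixS.of_closure gen s0 (by rintro _ (rfl | rfl); exacts [a, b])
  · have a4 : A4 (t * t) w := A4.of_T3 t3 (sq t) ft.1 ft.2.1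
    have rz := fr _ ft
    obtain ⟨s, s0, fx, fw⟩ := scs K V Q S β γ sp (ρ x) (ρ w) (by
      obtain ⟨c, hc⟩ := isConj_iff.1 cx.symm
      rw [← map_mul, ← hc, conj_mul, ft.2.1]; simp) ((Rp.rk_conj cx).trans rz)
      (by rw [← map_pow, t3.w3, map_one]) (.inr (c7 p K V Q Γ ρ h _ w a4 rz).1)
      (sp_z7 sps sp h z7)
    have fz : ρ (t * t) ∈ Fix γ s := (closure_le ((Fix γ s).comap ρ)).2
      (by rintro _ (rfl | rfl); exacts [fx, fw]) tm
    obtain ⟨e, v, v', hb, cy, dz, -, dx⟩ := tl0 p K V Q Γ ρ h ac _ w a4 rz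
    obtain ⟨b, sb⟩ := k.bas e v v' hb
    have d0 : Dg (ρ (t * t)) e v v' fun i => if i = 0 then 1 else -1 := by
      convert dz using 2 with i
      fin_cases i <;> simp
    have d1 : Dg (ρ w * ρ (t * t) * (ρ w)⁻¹) e v v' fun i => if i = 1 then 1 else -1 := by
      convert dg_cy d0 cy using 2 with i
      fin_cases i <;> simp
    have e1 : ρ w * ρ (t * t) * (ρ w)⁻¹ = ρ (cp w 1 (t * t)) := by simp [cp_one]
    obtain ⟨Z, lZ, bZ, mZ⟩ := exists_Z' k h2 sb (h.det _) d0
    obtain ⟨Z', lZ', bZ', mZ'⟩ := exists_Z' k h2 sb (e1 ▸ h.det _) d1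
    obtain ⟨G, lG⟩ := k.lift _ (h.det w)
    obtain ⟨μ, bG, -⟩ := sb.cyc _ cy G lG
    obtain ⟨c, hc⟩ := k.eig fz lZ
    obtain ⟨d, hd⟩ := k.eig fw lG
    have b1 := conj_eig bG (bZ.trans (one_smul K _).symm)
    have b2 := conj_eig bG b1
    have s1 := conj_eig (G := G) (Z := Z) hd hc
    have s2 := conj_eig (G := G) hd s1
    rw [one_smul] at b1 b2
    have one : ∀ H : O β, Lf γ (1 : O Q) H.1 → H (b ∅) = b ∅ → H = 1 := fun H l f =>
      lf_uniq k h2 (G := 1) (Lf.one γ) l (b.ne_zero ∅) rfl f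
    have q2 : Z * Z = 1 := one _ (by
      have := lZ.mul lZ
      rwa [← map_mul, a4.sq, map_one] at this) (by rw [O.mul_apply, bZ, bZ])
    have q3 : Z * (G * Z * G⁻¹) * (G * (G * Z * G⁻¹) * G⁻¹) = 1 := one _ (by
      have := (lZ.mul (lf_conj lG lZ)).mul (lf_conj lG (lf_conj lG lZ))
      rwa [← cp_one, ← cp_one, cp_cp, ← map_cp, ← map_cp, ← map_mul, ← map_mul, a4.prod,
        map_one] at this) (by rw [O.mul_apply, b2, O.mul_apply, b1, bZ])
    have c2 : c * c = 1 := smul_left_injective K s0 (by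
      have := DFunLike.congr_fun q2 s
      change Z.1 (Z.1 s) = s at this
      rw [hc, map_smul, hc, smul_smul] at this
      simpa using this)
    have c3 : c * c * c = 1 := smul_left_injective K s0 (by
      have := DFunLike.congr_fun q3 s
      rw [O.mul_apply, s2, map_smul, O.mul_apply, s1, map_smul] at this
      change c • c • Z.1 s = s at this
      rw [hc, smul_smul, smul_smul] at this
      simpa using this)
    rw [c2, one_mul] at c3
    rw [c3, one_smul] at hc s1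
    have zz : Z' = G * Z * G⁻¹ := lf_uniq k h2 (lf_conj lG lZ) lZ' (b.ne_zero ∅) b1 bZ'
    obtain ⟨T, lT⟩ := k.lift _ (h.det t)
    obtain ⟨ν, hν⟩ := (ds_diag sb (g := ρ t) (dx t 2 (sq t) t3) lT).1
    have ft : ρ t ∈ Fix γ s := mem_Fix_of_eig lT s0 (sc_apply' hν fun I a a' => by
      rcases (by decide : ∀ I : Finset (Fin 3), I ≠ ∅ → I ≠ Finset.univ → I ∉ A 0 ∨ I ∉ A 1)
        I a a' with r | r
      exacts [mZ s hc I r, mZ' s (zz ▸ s1) I r])
    exact FixS.of_closure gen s0 (by rintro _ (rfl | rfl | rfl); exacts [fx, fw, ft])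

theorem jobH28 : JobH28.{u} := by
  intro w4 sct sps scs p K _ V _ _ _ Q Γ _ _ ρ h ac S _ _ _ β γ sp ⟨a, g, n, x, y, c, hy⟩
  have rx : (ρ x).rk = 4 := (Rp.rk_conj c.cx).symm.trans ((w4 p K V Q Γ ρ h).2.1 a c.toE7.fr)
  have x2 : ρ x * ρ x = 1 := by
    obtain ⟨u, hu⟩ := isConj_iff.1 c.cx
    rw [← map_mul, ← hu, conj_mul, c.sq]; simp
  have y3 : ρ y ^ 3 = 1 := by
    obtain ⟨u, hu⟩ := isConj_iff.1 c.cy
    rw [← map_pow, ← hu, conj_pow, c.na]; simp
  have ry : (3 : K) = 0 ∨ (ρ y).rk = 4 := hy.imp h.three.2 fun r => by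
    by_contra r'
    obtain ⟨m, hm⟩ := h.rk_even y
    have a1 := h.rk_le y
    have a2 := h.rk_le (x * y)
    obtain ⟨s, s0, f1, f2⟩ := sct K V Q h.nd (ρ x) (ρ y) (by rw [← map_mul, h.dim]; omega)
    exact s0 (h.no_fix c.gen (by rintro _ (rfl | rfl); exacts [f1, f2]))
  obtain ⟨k, hk, ck⟩ := c.cz
  have g7 : ρ g ^ 7 = 1 := by rw [← map_pow, c.g7, map_one]
  obtain ⟨v, t, a1, -, -, a4, a5, -⟩ := H72.W4.e7_vec h (H72.W4.E7.map c.toE7 h.inj)
  have li : LinearIndependent K fun j : Fin 7 => (ρ g ^ j.val) v :=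
    H72.W4.li_of h.two (fun l => by simpa using a1)
      (H72.W4.sep h.two (c := 1) a4 a5 fun _ => Commute.one_left _)
  have ck' : IsConj (ρ g ^ k) (ρ x * ρ y) := by rw [← map_pow, ← map_mul]; exact ρ.map_isConj ck
  have s1 : Sp1 β γ (ρ x * ρ y) :=
    (sps K V Q S β γ sp _ (map_mul ρ x y ▸ h.det _)).2.2.1 (by
      obtain ⟨u, hu⟩ := isConj_iff.1 ck'
      rw [← hu, conj_pow, ← pow_mul, mul_comm k, pow_mul, g7]; simp) (by
      rw [← charpoly_conj ck', ← charpoly_conj (ck'.pow 2), ← pow_mul,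
        charpoly_pow h.dim g7 li hk, charpoly_pow h.dim g7 li (by omega)])
  obtain ⟨s, s0, f1, f2⟩ := scs K V Q S β γ sp (ρ x) (ρ y) x2 rx y3 ry s1
  exact FixS.of_closure c.gen s0 (by rintro _ (rfl | rfl); exacts [f1, f2])

end H10.O7H
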