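import Cfsg.Agent.H31.O7K

/-! O7, chapter B: the torus argument on the spin module (`JobTL`). -/

set_option autoImplicit false
set_option linter.unusedSectionVars false
set_option linter.unusedSimpArgs false

namespace H10.O7TL

open H56 QuadraticMap Module Cfsg Subgroup H31.O7
open H20.LD (cp)
open H56.SL2M (xx yy hh)
open scoped MatrixGroups

universe u

section sl2

variable {F : Type*} [Field F]

theorem sl2_ind (H : Subgroup SL(2, F)) (hx : ∀ a, xx a ∈ H) (hy : ∀ a, yy a ∈ H)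
    (g : SL(2, F)) : g ∈ H := by
  have key : ∀ g : SL(2, F), g 1 0 ≠ 0 → g ∈ H := fun g h => by
    have hd : g 0 0 * g 1 1 - g 0 1 * g 1 0 = 1 := by
      have := g.2; rwa [Matrix.det_fin_two] at this
    have : g = xx ((g 0 0 - 1) / g 1 0) * yy (g 1 0) * xx ((g 1 1 - 1) / g 1 0) := by
      ext i j
      fin_cases i <;> fin_cases j <;>
        simp [H56.SL2M.xx_coe, H56.SL2M.yy_coe, Matrix.mul_apply, Fin.sum_univ_two] <;>
        field_simp
      · ring
      · linear_combination -hd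
      · ring
    rw [this]
    exact H.mul_mem (H.mul_mem (hx _) (hy _)) (hx _)
  by_cases h : g 1 0 = 0
  · have hd : g 0 0 * g 1 1 - g 0 1 * g 1 0 = 1 := by
      have := g.2; rwa [Matrix.det_fin_two] at this
    have h0 : g 0 0 ≠ 0 := fun e => by rw [e, h] at hd; simp at hd
    have := key (yy 1 * g) (by
      simpa [H56.SL2M.yy_coe, Matrix.mul_apply, Fin.sum_univ_two, h] using h0)
    exact (H.mul_mem_cancel_left (hy 1)).1 this
  · exact key g h

theorem yy_pow (t : F) (n : ℕ) : yy t ^ n = yy (n * t) := by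
  induction n with
  | zero => rw [pow_zero]; ext i j; fin_cases i <;> fin_cases j <;> simp [yy]
  | succ n ih =>
    rw [pow_succ, ih]
    ext i j
    fin_cases i <;> fin_cases j <;>
      simp [H56.SL2M.yy_coe, Matrix.mul_apply, Fin.sum_univ_two]
    ring

theorem xx_pow_char (p : ℕ) [CharP F p] (t : F) : xx t ^ p = 1 := by
  rw [H56.SL2M.xx_pow, CharP.cast_eq_zero, zero_mul, H56.SL2M.xx_zero]

theorem yy_pow_char (p : ℕ) [CharP F p] (t : F) : yy t ^ p = 1 := by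
  rw [yy_pow, CharP.cast_eq_zero, zero_mul]
  ext i j; fin_cases i <;> fin_cases j <;> simp [yy]

/-- The torus as a homomorphism. -/
def hhH : Fˣ →* SL(2, F) := MonoidHom.mk' hh H56.SL2M.hh_mul

end sl2

section res

variable {K : Type u} [Field K] {S : Type u} [AddCommGroup S] [Module K S]
  {β : QuadraticForm K S} {A : Type*} [Group A]

/-- Restriction of a group of isometries to an invariant subspace. -/
def res (f : A →* O β) (W : Submodule K S) (h : ∀ a, ∀ x ∈ W, f a x ∈ W) :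
    A →* O (β.comp W.subtype) :=
  MonoidHom.mk' (fun a => O.ofInv ((f a).lin.restrict (h a)) ((f a⁻¹).lin.restrict (h a⁻¹))
      (fun x => (f a).map_Q x)
      (fun x => Subtype.ext (by
        change f a (f a⁻¹ x) = x
        rw [map_inv, O.apply_inv_apply]))
      (fun x => Subtype.ext (by
        change f a⁻¹ (f a x) = x
        rw [map_inv, O.inv_apply_apply])))
    fun a b => O.ext fun x => Subtype.ext (by
      change f (a * b) x = f a (f b x)
      rw [map_mul, O.mul_apply])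

theorem res_coe (f : A →* O β) (W : Submodule K S) (h : ∀ a, ∀ x ∈ W, f a x ∈ W) (a : A)
    (x : W) : (res f W h a x : S) = f a x := rfl

theorem polar_res (W : Submodule K S) (x y : W) :
    polar (β.comp W.subtype) x y = polar β (x : S) (y : S) := by
  simp [polar]

theorem exists_char (t : A →* O β) {b : S} (hb : b ≠ 0) (h : ∀ s, ∃ c : K, t s b = c • b) :
    ∃ ξ : A →* Kˣ, ∀ s, t s b = (ξ s : K) • b := by
  choose c hc using h
  have c0 : ∀ s, c s ≠ 0 := fun s e => hb (by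
    have := hc s
    rwa [e, zero_smul, O.apply_eq_zero] at this)
  refine ⟨MonoidHom.mk' (fun s => Units.mk0 (c s) (c0 s)) fun s s' => Units.ext ?_, hc⟩
  refine smul_left_injective K hb ?_
  change c (s * s') • b = (c s * c s') • b
  rw [← hc, map_mul, O.mul_apply, hc, map_smul, hc, smul_smul, mul_comm]

end res

section spin

variable {K : Type u} [Field K] {V : Type u} [AddCommGroup V] [Module K V] {Q : QuadraticForm K V}
  {S : Type u} [AddCommGroup S] [Module K S] {β : QuadraticForm K S} {γ : V →ₗ[K] S →ₗ[K] S}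
  {e : V} {v v' : Fin 3 → V} {b : Basis (Finset (Fin 3)) K S}

theorem lf_conj {g h : O Q} {G H : O β} (a : Lf γ g G.1) (c : Lf γ h H.1) :
    Lf γ (g * h * g⁻¹) (G * H * G⁻¹).1 := (a.mul c).mul a.inv

theorem conj_odd (k : Kit Q β γ) {p : ℕ} (hp : Odd p) {g h h' : O Q} {G H H' : O β}
    (a : Lf γ g G.1) (c : Lf γ h H.1) (c' : Lf γ h' H'.1) (e : g * h * g⁻¹ = h')
    (n : H ^ p = 1) (n' : H' ^ p = 1) : G * H * G⁻¹ = H' :=
  k.odd' h' H' _ p p hp hp n' (by rw [conj_pow, n]; simp) c' (e ▸ lf_conj a c)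

theorem comm_sl2 (k : Kit Q β γ) {p : ℕ} (hp : Odd p) {F : Type*} [Field F] [CharP F p]
    {φ : SL(2, F) →* O Q} {φ' : SL(2, F) →* O β} (hφ : ∀ a, Lf γ (φ a) (φ' a).1) {g : O Q}
    {G : O β} (a : Lf γ g G.1) (c : ∀ a, Commute g (φ a)) (x : SL(2, F)) : Commute G (φ' x) := by
  have key : ∀ x : SL(2, F), x ^ p = 1 → x ∈ (centralizer {G}).comap φ' := fun x hx => by
    have n : φ' x ^ p = 1 := by rw [← map_pow, hx, map_one]
    have := conj_odd k hp a (hφ x) (hφ x) (by rw [(c x).eq]; simp) n n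
    rw [mem_comap, mem_centralizer_singleton_iff]
    exact (mul_inv_eq_iff_eq_mul.1 this).symm
  have := sl2_ind _ (fun a => key _ (xx_pow_char p a)) (fun a => key _ (yy_pow_char p a)) x
  rw [mem_comap, mem_centralizer_singleton_iff] at this
  exact this.symm

theorem lf_uniq (k : Kit Q β γ) (h2 : (2 : K) ≠ 0) {g : O Q} {G G' : O β} (a : Lf γ g G.1)
    (a' : Lf γ g G'.1) {s : S} (hs : s ≠ 0) (c : G s = s) (c' : G' s = s) : G' = G := by
  refine (k.pm g G G' a a').resolve_right fun h => hs ?_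
  rw [h, O.mul_apply, c, O.negOne_apply, neg_eq_iff_add_eq_zero, ← two_smul K s] at c'
  exact (smul_eq_zero.1 c').resolve_left h2

/-- Diagonal with product one. -/
def D1 (g : O Q) (e : V) (v v' : Fin 3 → V) : Prop :=
  ∃ l, Dg g e v v' l ∧ l 0 * l 1 * l 2 = 1

theorem prod_univ_inv {l : Fin 3 → K} (h : l 0 * l 1 * l 2 = 1) :
    ∏ i ∈ (Finset.univ : Finset (Fin 3)), (l i)⁻¹ = 1 := by
  rw [Fin.prod_univ_three, ← mul_inv, ← mul_inv, h, inv_one]

theorem exists_nl (k : Kit Q β γ) (sb : SB (Q := Q) β γ e v v' b) {g : O Q} {l : Fin 3 → K}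
    (hd : LinearMap.det g.lin = 1) (d : Dg g e v v' l) (h : l 0 * l 1 * l 2 = 1) :
    ∃ G : O β, Lf γ g G.1 ∧ ∀ I, G (b I) = (∏ i ∈ I, (l i)⁻¹) • b I := by
  obtain ⟨G, a⟩ := k.lift g hd
  obtain ⟨μ, m, c⟩ := sb.diag g l d G a
  rw [h, sq_eq_one_iff] at m
  rcases m with rfl | rfl
  · exact ⟨G, a, fun I => by rw [c, one_mul]⟩
  · exact ⟨_, a.neg, fun I => by rw [O.mul_apply, c, O.negOne_apply]; simp⟩

theorem dg_mul {g h : O Q} {l m : Fin 3 → K} (a : Dg g e v v' l) (c : Dg h e v v' m) :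
    Dg (g * h) e v v' fun i => l i * m i :=
  ⟨by rw [O.mul_apply, c.1, a.1], fun i => ⟨mul_ne_zero (a.2 i).1 (c.2 i).1,
    by rw [O.mul_apply, (c.2 i).2.1, map_smul, (a.2 i).2.1, smul_smul, mul_comm],
    by rw [O.mul_apply, (c.2 i).2.2, map_smul, (a.2 i).2.2, smul_smul, mul_inv, mul_comm]⟩⟩

theorem dg_inv {g : O Q} {l : Fin 3 → K} (a : Dg g e v v' l) : Dg g⁻¹ e v v' fun i => (l i)⁻¹ :=
  ⟨by rw [O.inv_apply_eq, a.1], fun i => ⟨inv_ne_zero (a.2 i).1,
    by rw [O.inv_apply_eq, map_smul, (a.2 i).2.1, smul_smul, inv_mul_cancel₀ (a.2 i).1, one_smul],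
    by rw [O.inv_apply_eq, map_smul, (a.2 i).2.2, smul_smul, inv_inv,
      mul_inv_cancel₀ (a.2 i).1, one_smul]⟩⟩

theorem dg_cy {g w : O Q} {l : Fin 3 → K} (a : Dg g e v v' l) (c : Cy w e v v') :
    Dg (w * g * w⁻¹) e v v' fun i => l (i - 1) := by
  have e0 : w⁻¹ e = e := by rw [O.inv_apply_eq, c.1]
  refine ⟨by rw [O.mul_apply, O.mul_apply, e0, a.1, c.1], fun i => ?_⟩
  obtain ⟨i, rfl⟩ : ∃ j, i = j + 1 := ⟨i - 1, by simp⟩
  have e1 : w⁻¹ (v (i + 1)) = v i := by rw [O.inv_apply_eq, (c.2 i).1]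
  have e2 : w⁻¹ (v' (i + 1)) = v' i := by rw [O.inv_apply_eq, (c.2 i).2]
  simp only [add_sub_cancel_right]
  exact ⟨(a.2 i).1, by rw [O.mul_apply, O.mul_apply, e1, (a.2 i).2.1, map_smul, (c.2 i).1],
    by rw [O.mul_apply, O.mul_apply, e2, (a.2 i).2.2, map_smul, (c.2 i).2]⟩

variable (Q e v v') in
/-- The torus of `SL₃`. -/
def DS : Subgroup (O Q) where
  carrier := {g | D1 g e v v'}
  one_mem' := ⟨fun _ => 1, ⟨rfl, fun _ => by simp⟩, by simp⟩
  mul_mem' := fun ⟨l, a, h⟩ ⟨m, c, h'⟩ => ⟨_, dg_mul a c, by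
    linear_combination (m 0 * m 1 * m 2) * h + h'⟩
  inv_mem' := fun ⟨l, a, h⟩ => ⟨_, dg_inv a, by rw [← mul_inv, ← mul_inv, h, inv_one]⟩

theorem ds_cy {g w : O Q} (a : g ∈ DS Q e v v') (c : Cy w e v v') : w * g * w⁻¹ ∈ DS Q e v v' := by
  obtain ⟨l, a, h⟩ := a
  refine ⟨_, dg_cy a c, ?_⟩
  change l 2 * l 0 * l 1 = 1
  linear_combination h

/-- Scalar on the plane `S₀`. -/
def Sc (b : Basis (Finset (Fin 3)) K S) (G : O β) (c : K) : Prop :=
  G (b ∅) = c • b ∅ ∧ G (b Finset.univ) = c • b Finset.univ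

theorem ds_diag (sb : SB (Q := Q) β γ e v v' b) {g : O Q} (a : g ∈ DS Q e v v') {G : O β}
    (c : Lf γ g G.1) : (∃ μ, Sc b G μ) ∧ ∀ I, ∃ c : K, G (b I) = c • b I := by
  obtain ⟨l, a, h⟩ := a
  obtain ⟨μ, -, m⟩ := sb.diag g l a G c
  exact ⟨⟨μ, by rw [m]; simp, by rw [m, prod_univ_inv h, mul_one]⟩, fun I => ⟨_, m I⟩⟩

theorem repr_diag {G : O β} {d : Finset (Fin 3) → K} (h : ∀ I, G (b I) = d I • b I) (x : S)
    (I : Finset (Fin 3)) : b.repr (G x) I = d I * b.repr x I := by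
  have : b.coord I ∘ₗ G.lin = d I • b.coord I := b.ext fun J => by
    by_cases e : J = I
    · subst e; simp [h]
    · simp [h, e]
  simpa using LinearMap.congr_fun this x

theorem polar_b (sb : SB (Q := Q) β γ e v v' b) (x : S) (I : Finset (Fin 3)) :
    polar β x (b Iᶜ) = b.repr x I * polar β (b I) (b Iᶜ) := by
  have : β.polarBilin.flip (b Iᶜ) = polar β (b I) (b Iᶜ) • b.coord I := b.ext fun J => by
    by_cases e : J = I
    · subst e; simp
    · have : polar β (b J) (b Iᶜ) = 0 := by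
        by_contra c
        exact e (compl_injective ((sb.pol J Iᶜ).1 c)).symm
      simp [this, e]
  simpa [mul_comm] using LinearMap.congr_fun this x

theorem repr_zero (sb : SB (Q := Q) β γ e v v' b) {x : S} {I : Finset (Fin 3)}
    (h : polar β x (b Iᶜ) = 0) : b.repr x I = 0 := by
  rw [polar_b sb] at h
  exact (mul_eq_zero.1 h).resolve_right ((sb.pol I Iᶜ).2 rfl)

/-- The index set of the four dimensional space. -/
def A (j : Fin 3) : Finset (Finset (Fin 3)) := {∅, Finset.univ, {j}, {j}ᶜ}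

theorem card_A : ∀ j, (A j).card = 4 := by decide
theorem compl_A : ∀ j, ∀ I ∈ A j, Iᶜ ∈ A j := by decide
theorem even_A : ∀ j I, I ∈ A j ↔ Even (I.erase j).card := by decide
theorem mem_A : ∀ j, ∀ I ∈ A j, I = ∅ ∨ I = Finset.univ ∨ I = {j} ∨ I = {j}ᶜ := by decide
theorem A1 : ∀ j, {j} ∈ A j := by decide
theorem A2 : ∀ j, {j}ᶜ ∈ A j := by decide
theorem A0 : ∀ j, ∅ ∈ A j := by decide

/-- The four dimensional space. -/
def W (b : Basis (Finset (Fin 3)) K S) (j : Fin 3) : Submodule K S :=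
  Submodule.span K (b '' (A j : Set (Finset (Fin 3))))

theorem mem_W {j : Fin 3} {x : S} : x ∈ W b j ↔ ∀ I ∉ A j, b.repr x I = 0 := by
  rw [W, b.mem_span_image]
  exact ⟨fun h I c => by_contra fun d => c (h (Finsupp.mem_support_iff.2 d)),
    fun h I c => by_contra fun d => Finsupp.mem_support_iff.1 c (h I d)⟩

theorem b_mem {j : Fin 3} {I : Finset (Fin 3)} (h : I ∈ A j) : b I ∈ W b j :=
  Submodule.subset_span ⟨I, h, rfl⟩

theorem finrank_W (j : Fin 3) : finrank K (W b j) = 4 := by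
  have : b '' (A j : Set (Finset (Fin 3))) = Set.range (b ∘ (Subtype.val : A j → _)) := by
    ext x; simp
  rw [W, this, finrank_span_eq_card (b.linearIndependent.comp _ Subtype.val_injective),
    Fintype.card_coe, card_A]

theorem o4 (h2 : (2 : K) ≠ 0) (sb : SB (Q := Q) β γ e v v' b) (j : Fin 3) :
    O4 (β.comp (W b j).subtype) ⟨b {j}, b_mem (A1 j)⟩ ⟨b {j}ᶜ, b_mem (A2 j)⟩ := by
  have z : ∀ I, β (b I) = 0 := fun I => by
    have : polar β (b I) (b I) = 0 := by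
      by_contra c
      exact (by decide : ∀ I : Finset (Fin 3), I ≠ Iᶜ) I ((sb.pol I I).1 c)
    rw [polar_self'] at this
    exact (mul_eq_zero.1 this).resolve_left h2
  have nd : ∀ x : W b j, (∀ y : W b j, polar β (x : S) y = 0) → x = 0 := fun x hx =>
    Subtype.ext (b.ext_elem fun I => by
      by_cases c : I ∈ A j
      · simpa using repr_zero sb (hx ⟨_, b_mem (compl_A j I c)⟩)
      · simpa using mem_W.1 x.2 I c)
  refine ⟨h2, finrank_W j, ⟨fun x hx => nd x fun y => ?_, fun x hx => nd x fun y => ?_⟩, z _, z _,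
    by rw [polar_res]; exact (sb.pol _ _).2 rfl⟩
  · rw [← polar_res]; exact hx y
  · rw [polar_comm, ← polar_res]; exact hx y

theorem sc_apply (sb : SB (Q := Q) β γ e v v' b) {j : Fin 3} {G : O β} {c : K} (h : Sc b G c)
    {x : W b j} (h1 : polar (β.comp (W b j).subtype) x ⟨b {j}, b_mem (A1 j)⟩ = 0)
    (h2 : polar (β.comp (W b j).subtype) x ⟨b {j}ᶜ, b_mem (A2 j)⟩ = 0) : G x = c • (x : S) := by
  rw [polar_res] at h1 h2
  have a1 : b.repr x {j}ᶜ = 0 := repr_zero sb (by rwa [compl_compl])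
  have a2 : b.repr x {j} = 0 := repr_zero sb h2
  have : (x : S) = b.repr x ∅ • b ∅ + b.repr x Finset.univ • b Finset.univ := b.ext_elem fun I => by
    by_cases c : I ∈ A j
    · have n : (Finset.univ : Finset (Fin 3)) ≠ ∅ := by decide
      rcases mem_A j I c with rfl | rfl | rfl | rfl
      · simp [n]
      · simp [n.symm]
      · have : ∀ j : Fin 3, (∅ : Finset (Fin 3)) ≠ {j} ∧ (Finset.univ : Finset (Fin 3)) ≠ {j} := by
          decide
        simp [a2, (this j).1, (this j).2]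
      · have : ∀ j : Fin 3, (∅ : Finset (Fin 3)) ≠ {j}ᶜ ∧ (Finset.univ : Finset (Fin 3)) ≠ {j}ᶜ := by
          decide
        simp [a1, (this j).1, (this j).2]
    · have : ∀ j, ∀ I ∉ A j, ∅ ≠ I ∧ Finset.univ ≠ I := by decide
      simp [mem_W.1 x.2 I c, this j I c]
  rw [this, map_add, map_smul, map_smul, h.1, h.2, smul_add, smul_comm c, smul_comm c]

theorem diag_mem {j : Fin 3} {G : O β} (h : ∀ I, ∃ c : K, G (b I) = c • b I) {x : S}
    (hx : x ∈ W b j) : G x ∈ W b j := by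
  choose d hd using h
  exact mem_W.2 fun I c => by rw [repr_diag hd, mem_W.1 hx I c, mul_zero]

/-- The lift of the central involution. -/
theorem exists_Z (k : Kit Q β γ) (h2 : (2 : K) ≠ 0) (sb : SB (Q := Q) β γ e v v' b) {z : O Q}
    (hd : LinearMap.det z.lin = 1) {j : Fin 3}
    (d : Dg z e v v' fun i => if i = j then 1 else -1) :
    ∃ Z : O β, Lf γ z Z.1 ∧ ∀ G, Commute Z G → ∀ x ∈ W b j, G x ∈ W b j := by
  obtain ⟨Z, a, h⟩ := exists_nl k sb hd d (by fin_cases j <;> simp)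
  have p : ∀ I : Finset (Fin 3), ∏ i ∈ I, (if i = j then (1 : K) else -1)⁻¹ =
      (-1) ^ (I.erase j).card := fun I => by
    rw [← Finset.prod_erase I (a := j) (by simp), ← Finset.prod_const]
    exact Finset.prod_congr rfl fun i hi => by simp [(Finset.mem_erase.1 hi).1]
  simp only [p] at h
  have m : ∀ x, x ∈ W b j ↔ x ∈ Z.fix := fun x => by
    rw [mem_W, O.mem_fix]
    refine ⟨fun c => b.ext_elem fun I => ?_, fun c I hI => ?_⟩
    · rw [repr_diag h]
      by_cases hI : I ∈ A j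
      · rw [((even_A j I).1 hI).neg_one_pow, one_mul]
      · rw [c I hI, mul_zero]
    · have := repr_diag h x I
      rw [c, (Nat.not_even_iff_odd.1 (mt (even_A j I).2 hI)).neg_one_pow] at this
      exact (mul_eq_zero.1 (by linear_combination this)).resolve_left h2
  exact ⟨Z, a, fun G c x hx => (m _).2 (comm_mem_fix c.symm ((m x).1 hx))⟩

theorem fix_w (k : Kit Q β γ) (sb : SB (Q := Q) β γ e v v' b) {w : O Q}
    (hd : LinearMap.det w.lin = 1) (c : Cy w e v v') {j : Fin 3} {x : W b j} (x0 : x ≠ 0)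
    (h1 : polar (β.comp (W b j).subtype) x ⟨b {j}, b_mem (A1 j)⟩ = 0)
    (h2 : polar (β.comp (W b j).subtype) x ⟨b {j}ᶜ, b_mem (A2 j)⟩ = 0) : w ∈ Fix γ (x : S) := by
  obtain ⟨G, a⟩ := k.lift w hd
  obtain ⟨μ, m⟩ := sb.cyc w c G a
  exact mem_Fix_of_eig a (fun e => x0 (Subtype.ext e)) (sc_apply sb m h1 h2)

/-- Normalised lifts of a group of diagonal elements. -/
theorem exists_tor (k : Kit Q β γ) (h2 : (2 : K) ≠ 0) (sb : SB (Q := Q) β γ e v v' b)
    {A : Type*} [Group A] (τ : A →* O Q) (hd : ∀ s, LinearMap.det (τ s).lin = 1)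
    (d : ∀ s, τ s ∈ DS Q e v v') :
    ∃ t : A →* O β, ∀ s, Lf γ (τ s) (t s).1 ∧ Sc b (t s) 1 := by
  have : ∀ s, ∃ G : O β, Lf γ (τ s) G.1 ∧ Sc b G 1 := fun s => by
    obtain ⟨l, a, h⟩ := d s
    obtain ⟨G, c, m⟩ := exists_nl k sb (hd s) a h
    exact ⟨G, c, by rw [m]; simp, by rw [m, prod_univ_inv h]⟩
  choose t ht using this
  refine ⟨MonoidHom.mk' t fun s s' => ?_, ht⟩
  refine lf_uniq k h2 (g := τ (s * s')) ?_ (ht _).1 (b.ne_zero ∅) ?_ (by simpa using (ht _).2.1)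
  · rw [map_mul]; exact (ht s).1.mul (ht s').1
  · rw [O.mul_apply, (ht s').2.1, one_smul, (ht s).2.1, one_smul]

end spin

section main

variable {K : Type u} [Field K] {V : Type u} [AddCommGroup V] [Module K V] {Q : QuadraticForm K V}
  {S : Type u} [AddCommGroup S] [Module K S] {β : QuadraticForm K S} {γ : V →ₗ[K] S →ₗ[K] S}
  {Γ : Type} [Group Γ] {p : ℕ} {ρ : Γ →* O Q}

theorem fixS_of {s : S} (hs : s ≠ 0) {H : Subgroup Γ} (hH : H = ⊤)
    (h : H ≤ (Fix γ s).comap ρ) : FixS γ ρ :=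
  ⟨s, hs, fun x => h (hH ▸ mem_top x)⟩

theorem dg_cp {e : V} {v v' : Fin 3 → V} {z w : Γ} (c : Cy (ρ w) e v v')
    (d : Dg (ρ z) e v v' ![1, -1, -1]) (k : ℕ) :
    ∃ j : Fin 3, Dg (ρ (cp w k z)) e v v' fun i => if i = j then 1 else -1 := by
  induction k with
  | zero =>
    refine ⟨0, ?_⟩
    rw [cp_zero]
    convert d using 2 with i
    fin_cases i <;> simp
  | succ k ih =>
    obtain ⟨j, h⟩ := ih
    refine ⟨j + 1, ?_⟩
    rw [add_comm k, ← cp_cp, cp_one, map_mul, map_mul, map_inv]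
    convert dg_cy h c using 2 with i
    simp [sub_eq_iff_eq_add]

end main

theorem jobTL : JobTL.{u} := by
  intro sk lf w4 tl0 o4s o4n p K _ V _ _ _ Q Γ _ _ ρ h ac S _ _ _ β γ sp C
  have k : Kit Q β γ := sk K V Q S β γ sp
  have hp : Odd p := h.prime.odd_of_ne_two h.odd
  have h2 := h.two
  rcases C with ⟨F, _, _, cF, c5, φ, ψ, w, z1, t3, fφ, fψ, cm, hψ, gen⟩ |
    ⟨F, _, _, cF, c5, φ, y, w, m, n, oy, t3, fr, cm, gen⟩
  · have fr := fr_sl2 φ z1
    obtain ⟨e, v, v', hb, cy, dz, -, dx⟩ := tl0 p K V Q Γ ρ h ac (φ (-1)) w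
      ⟨hh_neg_one (F := F) ▸ t3 (-1), fr.1, fr.2.1⟩ ((w4 p K V Q Γ ρ h).2.1 _ fr)
    obtain ⟨b, sb⟩ := k.bas e v v' hb
    obtain ⟨φ', hφ⟩ := lf K V Q S β γ sp p F h.char cF (ρ.comp φ)
    obtain ⟨ψ', hψ'⟩ := lf K V Q S β γ sp p F h.char cF (ρ.comp ψ)
    have d0 : ∀ s, ρ (φ (hh s)) ∈ DS Q e v v' := fun s => by
      obtain ⟨g, hg⟩ := IsCyclic.exists_monoid_generator (α := Fˣ)
      obtain ⟨m, hm⟩ := hg (-1)
      obtain ⟨n, rfl⟩ := hg s
      have a : ∀ n : ℕ, hh (g ^ n) = hh g ^ n := fun n => map_pow hhH g n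
      simp only at hm ⊢
      rw [a, map_pow, map_pow]
      exact pow_mem (dx _ m (by rw [← map_pow, ← a, hm, hh_neg_one]) (t3 g)) n
    have d1 : ∀ s, ρ (cp w 1 (φ (hh s))) ∈ DS Q e v v' := fun s => by
      rw [cp_one, map_mul, map_mul, map_inv]; exact ds_cy (d0 s) cy
    have d2 : ∀ s, ρ (ψ (hh s)) ∈ DS Q e v v' := fun s =>
      (closure_le ((DS Q e v v').comap ρ)).2 (by
        rintro _ ⟨s, rfl | rfl⟩
        exacts [d0 s, d1 s]) (hψ s)
    obtain ⟨j, dj⟩ := dg_cp cy dz 0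
    rw [cp_zero] at dj
    obtain ⟨Z, lZ, hZ⟩ := exists_Z k h2 sb (h.det _) dj
    have wφ : ∀ g, ∀ x ∈ W b j, φ' g x ∈ W b j := fun g => hZ _ (comm_sl2 k hp hφ lZ
      (fun a => ((Commute.neg_one_left a).map φ).map ρ) g)
    have wψ : ∀ g, ∀ x ∈ W b j, ψ' g x ∈ W b j := fun g => hZ _ (comm_sl2 k hp hψ' lZ
      (fun a => (cm _ a).map ρ) g)
    let τ : Fˣ →* O Q := ρ.comp ((MulAut.conj w).toMonoidHom.comp (φ.comp hhH))
    have hτ : ∀ s, τ s = ρ (cp w 1 (φ (hh s))) := fun s => by rw [cp_one]; rfl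
    obtain ⟨t, ht⟩ := exists_tor k h2 sb τ (fun s => h.det _) fun s => hτ s ▸ d1 s
    have td := fun s => (ds_diag sb (hτ s ▸ d1 s) (ht s).1).2
    have wt : ∀ s, ∀ x ∈ W b j, t s x ∈ W b j := fun s x => diag_mem (td s)
    obtain ⟨ξ, hξ⟩ := exists_char t (b.ne_zero {j}) fun s => td s {j}
    have hξ' : ∀ s, t s (b {j}ᶜ) = ((ξ s)⁻¹ : Kˣ) • b {j}ᶜ := fun s => by
      obtain ⟨c, hc⟩ := td s {j}ᶜ
      have := (t s).map_polar (b {j}) (b {j}ᶜ)
      rw [hξ, hc, polar_smul_left, polar_smul_right, smul_eq_mul, smul_eq_mul, ← mul_assoc,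
        mul_eq_right₀ ((sb.pol _ _).2 rfl)] at this
      rw [hc, Units.smul_def, Units.val_inv_eq_inv_val, eq_inv_of_mul_eq_one_right this]
    have main : ∀ (χ : SL(2, F) →* Γ) (χ' : SL(2, F) →* O β)
        (wχ : ∀ g, ∀ x ∈ W b j, χ' g x ∈ W b j), (∀ g, Lf γ (ρ (χ g)) (χ' g).1) →
        Fac χ (fun s => cp w 1 (φ (hh s))) → (∀ s, ρ (χ (hh s)) ∈ DS Q e v v') → _ :=
      fun χ χ' wχ hχ fχ dχ => o4s K (W b j) _ _ _ (o4 h2 sb j) p F h.char cF c5 (res χ' _ wχ)
        (res t _ wt) ξ (fun s a => by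
          have f : ∀ x x' : SL(2, F), x ^ p = 1 → x' ^ p = 1 →
              cp w 1 (φ (hh s)) * χ x * (cp w 1 (φ (hh s)))⁻¹ = χ x' →
              res t _ wt s * res χ' _ wχ x * (res t _ wt s)⁻¹ = res χ' _ wχ x' :=
            fun x x' n n' c => by
              have := conj_odd k hp (ht s).1 (hχ x) (hχ x')
                (by rw [hτ, ← map_inv, ← map_mul, ← map_mul, c])
                (by rw [← map_pow, n, map_one]) (by rw [← map_pow, n', map_one])
              rw [← map_inv]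
              refine O.ext fun u => Subtype.ext ?_
              change t s (χ' x (t s⁻¹ u)) = χ' x' u
              rw [← this, map_inv]; rfl
          exact ⟨f _ _ (xx_pow_char p _) (xx_pow_char p _) (fχ s a).1,
            f _ _ (yy_pow_char p _) (yy_pow_char p _) (fχ s a).2⟩)
        (fun s => ⟨Subtype.ext (hξ s), Subtype.ext (hξ' s), fun x a c =>
          Subtype.ext ((sc_apply sb (ht s).2 a c).trans (one_smul _ _))⟩)
        (fun s => by
          obtain ⟨μ, m⟩ := (ds_diag sb (dχ s) (hχ _)).1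
          exact ⟨μ, fun x a c => Subtype.ext (sc_apply sb m a c)⟩)
    have fin : ∀ x : W b j, x ≠ 0 →
        polar (β.comp (W b j).subtype) x ⟨b {j}, b_mem (A1 j)⟩ = 0 →
        polar (β.comp (W b j).subtype) x ⟨b {j}ᶜ, b_mem (A2 j)⟩ = 0 →
        (∀ g, φ' g x = x) → (∀ g, ∃ c : K, ψ' g x = c • (x : S)) → FixS γ ρ :=
      fun x x0 a c f1 f2 => by
        have x1 : (x : S) ≠ 0 := fun e => x0 (Subtype.ext e)
        refine fixS_of x1 gen (sup_le (sup_le ?_ ?_) ?_)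
        · rintro _ ⟨g, rfl⟩; exact ⟨_, hφ g, f1 g⟩
        · rintro _ ⟨g, rfl⟩
          obtain ⟨c, hc⟩ := f2 g
          exact mem_Fix_of_eig (hψ' g) x1 hc
        · exact zpowers_le.2 (fix_w k sb (h.det w) cy x0 a c)
    rcases main φ φ' wφ hφ fφ d0 with t1 | ⟨x, x0, a, c, hx⟩
    · have t1' : ∀ g (x : W b j), φ' g x = x := fun g x =>
        congrArg Subtype.val (DFunLike.congr_fun (t1 g) x)
      rcases main ψ ψ' wψ hψ' fψ d2 with t2 | ⟨x, x0, a, c, hx⟩
      · refine fin ⟨b ∅, b_mem (A0 j)⟩ (fun e => b.ne_zero ∅ (congrArg Subtype.val e)) ?_ ?_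
          (fun g => t1' g _) fun g => ⟨1, ?_⟩
        · rw [polar_res]
          by_contra c
          exact (by decide : ∀ j : Fin 3, ({j} : Finset (Fin 3)) ≠ ∅ᶜ) j ((sb.pol _ _).1 c)
        · rw [polar_res]
          by_contra c
          exact (by decide : ∀ j : Fin 3, ({j}ᶜ : Finset (Fin 3)) ≠ ∅ᶜ) j ((sb.pol _ _).1 c)
        · rw [one_smul]
          exact congrArg Subtype.val (DFunLike.congr_fun (t2 g) ⟨b ∅, b_mem (A0 j)⟩)
      · exact fin x x0 a c (fun g => t1' g x) fun g => ⟨1, by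
          rw [one_smul]
          exact congrArg Subtype.val ((hx x).2 ⟨1, (one_smul _ _).symm⟩ g)⟩
    · have f1 : ∀ g, φ' g x = x := fun g =>
        congrArg Subtype.val ((hx x).2 ⟨1, (one_smul _ _).symm⟩ g)
      refine fin x x0 a c f1 fun g => ?_
      obtain ⟨c, hc⟩ := (hx ⟨ψ' g x, wψ g x x.2⟩).1 fun g' => Subtype.ext (by
        change φ' g' (ψ' g x) = ψ' g x
        rw [← O.mul_apply, ← (comm_sl2 k hp hφ (hψ' g) (fun a => (cm a g).symm.map ρ) g').eq,
          O.mul_apply, f1])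
      exact ⟨c, congrArg Subtype.val hc⟩
  · obtain ⟨e, v, v', hb, cy, dz, -, dx⟩ := tl0 p K V Q Γ ρ h ac (φ y ^ m) w
      (A4.of_T3 t3 rfl fr.1 fr.2.1) ((w4 p K V Q Γ ρ h).2.1 _ fr)
    obtain ⟨b, sb⟩ := k.bas e v v' hb
    obtain ⟨φ', hφ⟩ := lf K V Q S β γ sp p F h.char cF (ρ.comp φ)
    obtain ⟨j, dj⟩ := dg_cp cy dz n
    obtain ⟨Z, lZ, hZ⟩ := exists_Z k h2 sb (h.det _) dj
    have wφ : ∀ g, ∀ x ∈ W b j, φ' g x ∈ W b j := fun g => hZ _ (comm_sl2 k hp hφ lZ
      (fun a => (cm a).symm.map ρ) g)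
    obtain ⟨⟨μ, hμ⟩, dy⟩ := ds_diag sb (g := ρ (φ y)) (dx _ m rfl t3) (hφ y)
    obtain ⟨l, hl⟩ := dy {j}
    obtain ⟨l', hl'⟩ := dy {j}ᶜ
    obtain ⟨x, x0, a, c, hx⟩ := o4n K (W b j) _ ac _ _ (o4 h2 sb j) p F h.char cF c5
      (res φ' _ wφ) y μ l oy (Subtype.ext hl) ⟨l', Subtype.ext hl'⟩
      fun x a c => Subtype.ext (sc_apply sb hμ a c)
    refine fixS_of (fun e => x0 (Subtype.ext e)) gen (sup_le ?_ ?_)
    · rintro _ ⟨g, rfl⟩; exact ⟨_, hφ g, congrArg Subtype.val (hx g)⟩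
    · exact zpowers_le.2 (fix_w k sb (h.det w) cy x0 a c)

end H10.O7TL
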