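/- S3101, chapter REC, job C6: combinatorics, actions, frames. -/
import Cfsg.Agent.H27.R7Spec
import Cfsg.Agent.H12.OWFA
import Cfsg.Agent.H59.UField

set_option autoImplicit false
set_option linter.unusedSectionVars false

namespace H10.R7C
open Subgroup Cfsg H1.Gold H56 H58 H12.OW H27.R7 Module QuadraticMap Finset

universe u

/-- the number of separated ordered pairs -/
def sep (u : Fin 6 → ZMod 2) : ℕ := ∑ k, ∑ l, if u k + u l ≠ 0 then 1 else 0

/-- the weight -/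
def wt (w : Fin 6 → ZMod 2) : ℕ := (univ.filter fun j => w j ≠ 0).card

abbrev dl (k : Fin 6) : Fin 6 → ZMod 2 := Pi.single k 1

theorem comb1 : ∀ u : Fin 6 → ZMod 2, ∑ k, u k = 1 →
    (sep u = 10 ∧ ∃ κ, ∀ k l, u k + u l = dl k κ + dl l κ) ∨ sep u = 18 := by decide +kernel

theorem comb2 : ∀ w : Fin 6 → ZMod 2,
    (∀ k, wt (w + (dl 0 + dl k)) = wt w ∨ wt (1 + (w + (dl 0 + dl k))) = wt w) →
    Even (wt w) ∨ w = dl 0 ∨ w = 1 + dl 0 := by decide +kernel

theorem comb3 : ∀ k l m : Fin 6, k ≠ l → (m = k ∨ m = l) → dl k m + dl l m ≠ 0 := by decide +kernel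

theorem comb4 : ∀ a k : Fin 6, ∃ l, k ≠ l ∧ (a = k ∨ a = l) := by decide +kernel

theorem comb (ε : Fin 6 → Fin 6 → ZMod 2) (r : ℕ) (h1 : ∀ j, ∑ k, ε k j = 1)
    (h2 : ∀ k l, k ≠ l → wt (ε k + ε l) = r) :
    ∃ π : Equiv.Perm (Fin 6), ∀ k l, ε k + ε l = dl (π k) + dl (π l) := by
  have hs : ∑ j, sep (fun k => ε k j) = 30 * r := by
    have : ∀ k l, (∑ j, if ε k j + ε l j ≠ 0 then 1 else 0) = if k = l then 0 else r := fun k l => by
      split_ifs with e
      · simp [e, z2_add_self]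
      · rw [← h2 k l e, wt, card_filter]; rfl
    simp only [sep]
    rw [sum_comm, sum_congr rfl fun k _ => sum_comm]
    simp only [this]
    simp [Fin.sum_univ_six]; omega
  have h3 := fun j => comb1 (fun k => ε k j) (h1 j)
  have h4 := fun j => (h3 j).imp_left And.left
  have h5 : r = 2 ∧ ∀ j, sep (fun k => ε k j) ≠ 18 := by
    have := h4 0; have := h4 1; have := h4 2; have := h4 3; have := h4 4; have := h4 5
    rw [Fin.sum_univ_six] at hs
    refine ⟨by omega, fun j => ?_⟩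
    fin_cases j <;> simp only [Fin.zero_eta, Fin.mk_one, Fin.reduceFinMk] <;> omega
  choose κ hκ using fun j => ((h3 j).resolve_right (h5.2 j)).2
  have inj : Function.Injective κ := fun j j' e => by
    by_contra n
    obtain ⟨j'', h, h'⟩ : ∃ j'', j ≠ j'' ∧ j' ≠ j'' := by clear e n; revert j j'; decide
    obtain ⟨l, hl, hl'⟩ := comb4 (κ j'') (κ j)
    have : ({j, j', j''} : Finset (Fin 6)).card ≤ wt (ε (κ j) + ε l) := card_le_card fun m hm => by
      rw [mem_filter, Pi.add_apply, hκ]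
      refine ⟨mem_univ _, comb3 _ _ _ hl ?_⟩
      simp only [mem_insert, mem_singleton] at hm
      rcases hm with rfl | rfl | rfl
      exacts [Or.inl rfl, Or.inl e.symm, hl']
    rw [h2 _ _ hl, h5.1, card_eq_three.2 ⟨j, j', j'', n, h, h', rfl⟩] at this
    omega
  let π := Equiv.ofBijective κ (Finite.injective_iff_bijective.1 inj)
  refine ⟨π.symm, fun k l => funext fun j => ?_⟩
  have : ∀ m, dl (π.symm m) j = dl m (κ j) := fun m => by
    simp only [dl, Pi.single_apply, Equiv.eq_symm_apply]; rfl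
  rw [Pi.add_apply, Pi.add_apply, hκ, this, this]

theorem aut_one {F : Type} [Field F] [Finite F] (h : Nat.card F % 8 = 3 ∨ Nat.card F % 8 = 5)
    {σ : RingAut F} (hσ : σ * σ = 1) : σ = 1 := by
  by_contra n
  have := Fintype.ofFinite F
  obtain ⟨q, hq, -⟩ := H59.exists_card_eq_sq (σ := (σ : F →+* F))
    (fun e => n (RingEquiv.ext fun a => congrArg (fun f : F →+* F => f a) e))
    fun a => congrArg (fun f : RingAut F => f a) hσ
  rw [Nat.card_eq_fintype_card, hq, Nat.pow_mod] at h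
  have : q % 8 < 8 := Nat.mod_lt _ (by norm_num)
  generalize q % 8 = m at *
  interval_cases m <;> simp at h

section Grp
variable {G : Type u} [Group G] {S M : Subgroup G} {t : Fin 7 → G}

theorem sq_closure {s : Set G} (h : ∀ x ∈ s, x * x = 1) (c : ∀ x ∈ s, ∀ y ∈ s, x * y = y * x) :
    ∀ x ∈ closure s, x * x = 1 := fun x hx => by
  have := isMulCommutative_closure c
  induction hx using closure_induction with
  | mem x hx => exact h x hx
  | one => simp
  | mul x y hx hy a b =>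
    rw [mul_assoc, ← mul_assoc y, ← setLike_mul_comm hx hy, mul_assoc, b, mul_one, a]
  | inv x _ a => rw [← mul_inv_rev, a, inv_one]

theorem tr3 (h : OF S M t) {k l : Fin 6} (kl : k ≠ l) :
    ∃ g ∈ cen1 (t 0), g * t 1 * g⁻¹ = t k.succ ∧ g * t 2 * g⁻¹ = t l.succ := by
  obtain ⟨σ, hσ⟩ := Equiv.Perm.exists_extending_pair (f := ![(0 : Fin 7), 1, 2]) (g := ![0, k.succ, l.succ])
    (by decide) (by revert k l; decide)
  obtain ⟨σ, h0, hσ⟩ : ∃ σ : Equiv.Perm (Fin 7), Equiv.Perm.sign σ = 1 ∧ σ 0 = 0 ∧ σ 1 = k.succ ∧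
      σ 2 = l.succ := by
    rcases Int.units_eq_one_or (Equiv.Perm.sign σ) with e | e
    · exact ⟨σ, e, hσ 0, hσ 1, hσ 2⟩
    · exact ⟨σ * Equiv.swap 3 4, by simp [e], hσ 0, hσ 1, hσ 2⟩
  obtain ⟨g, hg⟩ := h.tr σ h0
  exact ⟨g, mem_centralizer_singleton_iff.2 (mul_inv_eq_iff_eq_mul.1 (by rw [hg, hσ.1])),
    by rw [hg, hσ.2.1], by rw [hg, hσ.2.2]⟩

theorem t0_eq (h : OF S M t) : t 0 = t 1 * t 2 * (t 3 * t 4) * (t 5 * t 6) := by
  rw [← mul_one (t 0), ← h.prod]
  simp only [← mul_assoc, h.sq, one_mul]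

theorem t0_mem (h : OF S M t) : t 0 ∈ M := by
  rw [t0_eq h]
  exact mul_mem (mul_mem (h.tt _ _ (by decide) (by decide)) (h.tt _ _ (by decide) (by decide)))
    (h.tt _ _ (by decide) (by decide))

theorem t_cen (h : OF S M t) (i : Fin 7) : t i ∈ cen1 (t 0) :=
  mem_centralizer_singleton_iff.2 (h.com i 0)

theorem t0_ne (h : OF S M t) : t 0 ≠ 1 := fun e => by
  obtain ⟨g, hg⟩ := h.tr (Equiv.swap 0 1 * Equiv.swap 2 3) (by simp)
  have : t 1 = 1 := (hg 0).symm.trans (by simp [e])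
  exact h.t1 (this ▸ one_mem M)

end Grp

section Geo
variable {F V : Type} [Field F] [Finite F] [AddCommGroup V] [Module F V] [FiniteDimensional F V]
  {Q : QuadraticForm F V} {G : Type u} [Group G] {M : Subgroup G} {ψ : Om Q ≃* M} {g g' : G}
  {T T' : Gam Q}

/-- `g` acts as `T` -/
def Act (ψ : Om Q ≃* M) (g : G) (T : Gam Q) : Prop :=
  ∀ x y : Om Q, (y : O Q) = Gam.conjO Q T x → g * ψ x * g⁻¹ = ψ y

/-- the automorphism of `Ω` -/
def cjO (T : Gam Q) : Om Q ≃* Om Q where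
  toFun x := ⟨Gam.conjO Q T x, conjO_mem_commutator T x.2⟩
  invFun x := ⟨Gam.conjO Q T⁻¹ x, conjO_mem_commutator _ x.2⟩
  left_inv x := Subtype.ext (by simp)
  right_inv x := Subtype.ext (by simp)
  map_mul' x y := Subtype.ext (by simp)

theorem exists_act (hA : Au Q) (ψ : Om Q ≃* M) (hg : g ∈ nor M) : ∃ T, Act ψ g T := by
  obtain ⟨T, hT⟩ := hA (ψ.trans ((M.normalizerMonoidHom ⟨g, hg⟩).trans ψ.symm))
  refine ⟨T, fun x y e => ?_⟩
  rw [← hT] at e
  rw [Subtype.ext e]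
  simp

theorem Act.val (h : Act ψ g T) {x y : Om Q} (e : g * ψ x * g⁻¹ = ψ y) :
    (y : O Q) = Gam.conjO Q T x :=
  congrArg Subtype.val (ψ.injective (Subtype.ext (e.symm.trans (h x (cjO T x) rfl))))

theorem Act.mul (h : Act ψ g T) (h' : Act ψ g' T') : Act ψ (g * g') (T * T') := fun x y e => by
  rw [← h (cjO T' x) y (by rw [e, map_mul]; rfl), ← h' x (cjO T' x) rfl]
  group

theorem Act.inv (h : Act ψ g T) : Act ψ g⁻¹ T⁻¹ := fun x y e => by
  rw [← h y x (by rw [e]; simp)]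
  group

theorem act_self (m : Om Q) : Act ψ (ψ m) (Gam.ofO Q m) := fun x y e => by
  rw [Gam.conjO_ofO] at e
  rw [show y = m * x * m⁻¹ from Subtype.ext e]
  simp

theorem Act.congr (h : Act ψ g T) (e : ∀ x ∈ Om Q, Gam.conjO Q T x = Gam.conjO Q T' x) : Act ψ g T' :=
  fun x y k => h x y (k.trans (e x x.2).symm)

theorem Act.triv (h : Act ψ 1 T) : ∀ x ∈ Om Q, Gam.conjO Q T x = x := fun x hx =>
  (h.val (x := ⟨x, hx⟩) (y := ⟨x, hx⟩) (by simp)).symm

variable {c c' : F} {e f : Fin 6 → V}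

theorem frm_basis (h : Frm Q c e) : ∃ b : Basis (Fin 6) F V, ⇑b = e ∧ OB Q b := by
  obtain ⟨b, i, hb, -⟩ := H59.OW.exists_basis h.two (ι := Fin 6) (by simp [h.dim])
    (fun i => by rw [h.norm]; exact h.ne) h.orth
  have : ⇑(b.reindex i.symm) = e := funext fun k => by simp [hb]
  exact ⟨_, this, fun j k n => by rw [this]; exact h.orth j k n⟩

theorem frm_sim (h : Frm Q c e) (h' : Frm Q c' f) : ∃ T : Gam Q, ∀ k, T (e k) = f k := by
  obtain ⟨b, rfl, -⟩ := frm_basis h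
  obtain ⟨b', rfl, -⟩ := frm_basis h'
  refine ⟨Gam.ofSim (b.equiv b' (Equiv.refl _)) (c' / c) (div_ne_zero h'.ne h.ne) fun v => ?_, fun k => by
    simp [Gam.ofSim_apply]⟩
  have := h.ne
  rw [← b.sum_repr v, map_sum]
  simp only [map_smul, Basis.equiv_apply, Equiv.refl_apply]
  rw [H59.OW.Q_sum_orth h.orth, H59.OW.Q_sum_orth h'.orth, mul_sum]
  refine sum_congr rfl fun i _ => ?_
  rw [h.norm, h'.norm]; field_simp

end Geo

end H10.R7C
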