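/- S3101, chapter REC, job C6: an adapted isomorphism. -/
import Cfsg.Agent.H10.R7A

set_option autoImplicit false
set_option linter.unusedSectionVars false

namespace H10.R7C
open Subgroup Cfsg H1.Gold H56 H58 H12.OW H27.R7 Module QuadraticMap Finset

universe u

variable {F V : Type} [Field F] [Finite F] [AddCommGroup V] [Module F V] [FiniteDimensional F V]
  {Q : QuadraticForm F V} {G : Type u} [Group G] {S M : Subgroup G} {t : Fin 7 → G} {c : F}
  {e : Fin 6 → V} {ψ : Om Q ≃* M}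

theorem rk_wt (hF : Frm Q c e) {b : Basis (Fin 6) F V} (hb : OB Q b) {ε : Fin 6 → ZMod 2} {o : O Q}
    (h : IsDg Q b ε o) : o.rk = wt ε := by
  convert (H59.OW.gd hF.nd hF.two).rk_dg _ b hb ε o h using 1
  unfold wt; congr

theorem exists_val (hF : Frm Q c e) (hA : Au Q) (h : OF S M t) (ψ0 : Om Q ≃* M) :
    ∃ ψ : Om Q ≃* M, ∀ k l : Fin 6, ∀ y : Om Q, (y : O Q) = refl Q (e k) * refl Q (e l) →
      (ψ y : G) = t k.succ * t l.succ := by
  have gd := H59.OW.gd hF.nd hF.two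
  obtain ⟨x, hx⟩ : ∃ x : Fin 6 → Fin 6 → Om Q, ∀ k l, (ψ0 (x k l) : G) = t k.succ * t l.succ :=
    ⟨fun k l => ψ0.symm ⟨_, h.tt _ _ k.succ_ne_zero l.succ_ne_zero⟩, fun k l => by simp⟩
  have inj : ∀ {a b : Om Q}, (ψ0 a : G) = ψ0 b → (a : O Q) = b := fun e =>
    congrArg Subtype.val (ψ0.injective (Subtype.ext e))
  have xm : ∀ k l, (x 0 k : O Q) * x 0 l = x k l := fun k l => inj (a := x 0 k * x 0 l) (by
    rw [map_mul, Subgroup.coe_mul, hx, hx, hx, h.com _ k.succ, mul_assoc, ← mul_assoc _ _ (t l.succ), h.sq,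
      one_mul])
  obtain ⟨b, hb, hd⟩ := hF.dim ▸ gd.diag (closure (Set.range fun k => (x 0 k : O Q))) (sq_closure
    (by rintro _ ⟨k, rfl⟩; exact (xm k k).trans (inj (b := 1) (by simp [hx, h.sq])))
    (by rintro _ ⟨k, rfl⟩ _ ⟨l, rfl⟩; simp only [xm]; exact inj (by rw [hx, hx, h.com])))
  choose ε hε using fun k => hd _ (subset_closure ⟨k, rfl⟩)
  have dg : ∀ k l, IsDg Q b (ε k + ε l) (x k l) := fun k l => xm k l ▸ (hε k).mul (hε l)
  have hz : (ψ0 (x 0 1 * x 2 3 * x 4 5) : G) = t 0 := by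
    rw [map_mul, map_mul, Subgroup.coe_mul, Subgroup.coe_mul, hx, hx, hx, t0_eq h]; rfl
  have neg : ((x 0 1 * x 2 3 * x 4 5 : Om Q) : O Q) = O.negOne Q := by
    generalize x 0 1 * x 2 3 * x 4 5 = z at hz
    refine ((H59.OW.gs hF.nd hF.two).cen (by simp [hF.dim]) z fun y hy => ?_).resolve_left fun k => ?_
    · refine inj (a := z * ⟨y, hy⟩) (b := ⟨y, hy⟩ * z) ?_
      rw [map_mul, map_mul, Subgroup.coe_mul, Subgroup.coe_mul, hz]
      exact (mem_centralizer_singleton_iff.1 (h.Mc (ψ0 _).2)).symm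
    · exact t0_ne h (by rw [← hz, show z = 1 from Subtype.ext k]; simp)
  have sum := IsDg.inj hF.two (((dg 0 1).mul (dg 2 3)).mul (dg 4 5)) (neg.symm ▸ isDg_neg)
  obtain ⟨π, hπ⟩ := comb ε (x 0 1 : O Q).rk (fun j => by
      rw [Fin.sum_univ_six, ← show _ = (1 : ZMod 2) from congrFun sum j]
      simp only [Pi.add_apply, add_assoc]) fun k l kl => by
    obtain ⟨g, hg, h1, h2⟩ := tr3 h kl
    obtain ⟨T, hT⟩ := exists_act hA ψ0 (h.cM hg)
    rw [← rk_wt hF hb (dg k l), hT.val (x := x 0 1) (y := x k l) (by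
      rw [hx, hx, ← h1, ← h2]; simp [mul_assoc]), (H59.OW.gt hF.nd hF.two).rk_conj]
  have ne := gd.ne _ b hb
  have xr : ∀ k l, (x k l : O Q) = refl Q (b (π k)) * refl Q (b (π l)) := fun k l =>
    (hπ k l ▸ dg k l).eq ((isDg_refl hb (ne _)).mul (isDg_refl hb (ne _)))
  choose a ha ha' using fun k => (sqcl_eq_iff (ne (π k)) (ne (π 0))).1 (by
    have := congrArg Prod.snd (ab_of_mem hF.nd (x k 0).2)
    rw [xr, map_mul, ab_refl _ (ne _), ab_refl _ (ne _)] at this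
    exact (eq_inv_of_mul_eq_one_left this).trans (SqCl.inv_eq _))
  obtain ⟨T, hT⟩ := frm_sim (f := fun k => a k • b (π k)) hF ⟨hF.two, hF.nd, ne (π 0),
    fun k => by rw [QuadraticMap.map_smul, ha' k, smul_eq_mul], fun i j n => by
      rw [polar_smul_left, polar_smul_right, hb _ _ (π.injective.ne n)]; simp, hF.dim⟩
  refine ⟨(cjO T).trans ψ0, fun k l y hy => ?_⟩
  rw [← hx, show x k l = cjO T y from Subtype.ext ?_]; · rfl
  change _ = Gam.conjO Q T y
  rw [hy, map_mul, Gam.conjO_refl, Gam.conjO_refl, hT, hT, refl_smul (ha k), refl_smul (ha l), xr]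

theorem Act.pm (hF : Frm Q c e) {g : G} {o o' : O Q} (h : Act ψ g (Gam.ofO Q o))
    (h' : Act ψ g (Gam.ofO Q o')) : o = o' ∨ o = O.negOne Q * o' := by
  have k := h.mul h'.inv
  rw [mul_inv_cancel, ← map_inv, ← map_mul] at k
  exact ((H59.OW.gs hF.nd hF.two).cen (by simp [hF.dim]) _ fun x hx => mul_inv_eq_iff_eq_mul.1
    ((Gam.conjO_ofO _ _).symm.trans (k.triv x hx))).imp mul_inv_eq_one.1 mul_inv_eq_iff_eq_mul.1

theorem c6 (hq : Nat.card F % 8 = 3 ∨ Nat.card F % 8 = 5) (hF : Frm Q c e) (hA : Au Q) (h : OF S M t)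
    (val : ∀ k l : Fin 6, ∀ y : Om Q, (y : O Q) = refl Q (e k) * refl Q (e l) →
      (ψ y : G) = t k.succ * t l.succ) : C6 Q e M t ψ := by
  obtain ⟨b, rfl, hb⟩ := frm_basis hF
  have ne := (H59.OW.gd hF.nd hF.two).ne _ b hb
  let rr : Fin 6 → Fin 6 → Om Q := fun k l =>
    ⟨_, refl_mul_refl_mem_commutator hF.nd (ne k) (ne l) (by rw [hF.norm, hF.norm])⟩
  have hr : ∀ k l, (ψ (rr k l) : G) = t k.succ * t l.succ := fun k l => val k l _ rfl
  have dr : ∀ k l, IsDg Q b (dl k + dl l) (rr k l) := fun k l =>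
    (isDg_refl hb (ne _)).mul (isDg_refl hb (ne _))
  obtain ⟨T, hT⟩ := exists_act hA ψ (h.cM (t_cen h 1))
  have hσ : T.σ = 1 := aut_one hq ((H59.OW.gs hF.nd hF.two).cs ∅ ⟨Set.finite_empty, by simp, by simp⟩
    (by simp [hF.dim]) (T * T) fun x hx => Or.inl ((h.sq 1 ▸ hT.mul hT).triv x hx.1)).1
  have ln : ∀ i, T (b i) = b.repr (T (b i)) i • b i := fun i => b.ext_elem fun m => by
    by_cases mi : m = i
    · simp [mi]
    obtain ⟨j, h1, h2⟩ : ∃ j, (dl i + dl j) i ≠ 0 ∧ (dl i + dl j) m = 0 := by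
      clear * - mi; revert i m; decide +kernel
    have k1 := hT.val (x := rr i j) (y := rr i j) (by
      rw [hr, mul_inv_eq_iff_eq_mul, ← mul_assoc, h.com 1, mul_assoc, h.com 1, mul_assoc])
    have k2 : (rr i j : O Q) (T (b i)) = -T (b i) := by
      rw [k1, Gam.conjO_apply, Gam.inv_apply_apply, dr i j i, if_neg h1]
      exact map_neg T.toEquiv _
    have k3 := (dr i j).repr (T (b i)) m
    rw [k2, if_pos h2, map_neg, Finsupp.neg_apply, neg_eq_iff_add_eq_zero, ← two_mul] at k3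
    simp [(mul_eq_zero.1 k3).resolve_left hF.two, Ne.symm mi]
  have hc : (T.c : F) = b.repr (T (b 0)) 0 ^ 2 := by
    have := Gam.map_Q_of hσ (b 0)
    rw [ln, QuadraticMap.map_smul, smul_eq_mul] at this
    rw [pow_two, mul_right_cancel₀ (ne 0) this]
  obtain ⟨s, D, hD⟩ : ∃ s D, T = Gam.sc Q s * Gam.ofO Q D :=
    ⟨_, Gam.exists_eq_sc_mul hσ (s := Units.mk0 _ fun k => T.c.ne_zero (by simp [hc, k])) hc⟩
  obtain ⟨w, hw⟩ := isDg_of_smul (h := D) ne fun j => ⟨(s⁻¹ : Fˣ) * b.repr (T (b j)) j, by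
    rw [mul_smul, ← ln, hD, Gam.mul_apply, Gam.sc_apply, Gam.ofO_apply, smul_smul]; simp⟩
  have h1 : Act ψ (t 1) (Gam.ofO Q D) := hT.congr fun x _ => by rw [hD, map_mul, Gam.conjO_sc, one_mul]
  have hk : ∀ k : Fin 6, Act ψ (t k.succ) (Gam.ofO Q (D * rr 0 k)) := fun k => by
    have := h1.mul (act_self (rr 0 k))
    rwa [hr, ← map_mul, show t (Fin.succ 0) = t 1 from rfl, ← mul_assoc, h.sq, one_mul] at this
  have hD' : D = refl Q (b 0) ∨ D = O.negOne Q * refl Q (b 0) := by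
    refine ((comb2 w fun k => ?_).resolve_left fun ev => ?_).imp (fun k => (k ▸ hw).eq (isDg_refl hb (ne 0)))
      fun k => (k ▸ hw).eq (isDg_neg.mul (isDg_refl hb (ne 0)))
    · obtain ⟨l, hl⟩ := exists_ne k
      obtain ⟨g, hg, e1, -⟩ := tr3 h hl.symm
      obtain ⟨T', hT'⟩ := exists_act hA ψ (h.cM hg)
      have := (hT'.mul h1).mul hT'.inv
      rw [e1, ← Gam.ofO_conjO] at this
      rw [← rk_wt hF hb hw, ← (H59.OW.gt hF.nd hF.two).rk_conj T' D, ← rk_wt hF hb (hw.mul (dr 0 k)),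
        ← rk_wt hF hb (isDg_neg.mul (hw.mul (dr 0 k)))]
      exact (this.pm hF (hk k)).imp (fun e => by rw [e]) fun e => by rw [e]
    · have hD : D ∈ Om Q := (mem_Om_iff hF.nd hF.two).2 (by
        obtain ⟨m, hm⟩ := ev
        rw [(H59.OW.gd hF.nd hF.two).ab_dg _ b hb w D hw]
        simp only [hF.norm, prod_const]
        rw [show Finset.card _ = m + m from hm ▸ by unfold wt; congr, pow_add, cl_mul_self])
      have k := h1.mul (act_self (ψ := ψ) ⟨D, hD⟩).inv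
      rw [mul_inv_cancel] at k
      refine h.t1 ((mul_mem_cancel_right (inv_mem (ψ ⟨D, hD⟩).2)).1 (zpowers_le.2 (t0_mem h) (h.cc
        ⟨(cen1 (t 0)).mul_mem (t_cen h 1) (inv_mem (h.Mc (ψ _).2)), fun m hm => ?_⟩)))
      have := k (ψ.symm ⟨m, hm⟩) (ψ.symm ⟨m, hm⟩) (by simp)
      rw [MulEquiv.apply_symm_apply] at this
      exact (mul_inv_eq_iff_eq_mul.1 this).symm
  refine ⟨fun k x y e => hk k x y ?_, fun k l _ => val k l⟩
  have : refl Q (b 0) * rr 0 k = refl Q (b k) := by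
    change _ * (_ * _) = _
    rw [← mul_assoc, refl_mul_self, one_mul]
  rw [Gam.conjO_ofO, e]
  rcases hD' with rfl | rfl
  · rw [this, refl_inv]
  · rw [mul_assoc (O.negOne Q), this, mul_inv_rev, refl_inv, negOne_inv, ← mul_assoc, negOne_comm,
      ← mul_assoc, ← mul_assoc, ← mul_assoc, O.negOne_mul_self, one_mul]

theorem jobC6 : JobC6.{u} := fun _ _ _ hq _ _ _ _ _ _ _ hF hA _ _ _ _ _ _ h ⟨ψ0⟩ =>
  let ⟨ψ, val⟩ := exists_val hF hA h ψ0
  ⟨ψ, c6 hq hF hA h val⟩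

end H10.R7C
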