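import Cfsg.Agent.H86.SPGDef

/-! STD-SP type I fusion (row S3129), slot `BM`: no affine map of `M_l` moves `1` to `x` and
respects `Sg`.  Notes: `blueprints/STDSP_G.md`. -/

set_option autoImplicit false
set_option linter.unusedSectionVars false

namespace H10.SBM

open Matrix
open H64.SG (Cz Cs Ns Inv2 IsO2 mem_Cz)
open H67.UA hiding Par
open H67.SP
open H59.SO (AutOn)
open H86.SPG

section Det

variable {F : Type} [Field F] [CharP F 2] {ι : Type} [Fintype ι] [DecidableEq ι]

/-- An alternating matrix of odd size is singular. -/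
theorem det_alt_odd (A : Matrix ι ι F) (hs : ∀ i j, A i j = A j i) (hd : ∀ i, A i i = 0)
    (ho : Odd (Fintype.card ι)) : A.det = 0 := by
  rw [det_apply']
  have e : ∀ σ : Equiv.Perm ι, ((Equiv.Perm.sign σ : ℤ) : F) = 1 := fun σ => by
    rcases Int.units_eq_one_or (Equiv.Perm.sign σ) with h | h <;> rw [h]
    · simp
    · simp [CharTwo.neg_eq]
  simp only [e, one_mul]
  refine Finset.sum_involution (fun σ _ => σ⁻¹) (fun σ _ => ?_) (fun σ _ h k => h ?_)
    (fun _ _ => Finset.mem_univ _) (fun σ _ => inv_inv σ)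
  · have : ∏ i, A (σ⁻¹ i) i = ∏ i, A (σ i) i := by
      rw [← Equiv.prod_comp σ]
      exact Finset.prod_congr rfl fun i _ => by simp [hs i]
    rw [this, CharTwo.add_self_eq_zero]
  · have h2 : σ ^ 2 ^ 1 = 1 := by
      rw [pow_one, sq]
      nth_rewrite 1 [← k]
      exact inv_mul_cancel σ
    have : Fact (Nat.Prime 2) := ⟨Nat.prime_two⟩
    obtain ⟨a, ha⟩ := Equiv.Perm.exists_fixed_point_of_prime (p := 2) (n := 1)
      (fun hh => (Nat.not_even_iff_odd.2 ho) (even_iff_two_dvd.2 hh)) h2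
    exact Finset.prod_eq_zero (Finset.mem_univ a) (by rw [ha, hd])

/-- `det (A + d dᵀ) = det A` for an alternating matrix of even size. -/
theorem det_alt_add (A : Matrix ι ι F) (hs : ∀ i j, A i j = A j i) (hd : ∀ i, A i i = 0)
    (he : Even (Fintype.card ι)) (d : ι → F) : (A + vecMulVec d d).det = A.det := by
  let P : Matrix ι Unit F := of fun i _ => d i
  let Q : Matrix Unit ι F := of fun _ j => d j
  have h0 : (fromBlocks A P Q 0).det = 0 := by
    refine det_alt_odd _ ?_ ?_ ?_
    · rintro (i | i) (j | j)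
      · exact hs i j
      all_goals simp [P, Q]
    · rintro (i | i) <;> simp [hd]
    · rw [Fintype.card_sum, Fintype.card_unit]; exact he.add_one
  have h1 : (fromBlocks A P Q 1).det = (A + vecMulVec d d).det := by
    rw [det_fromBlocks_one₂₂]
    congr 1
    ext i j
    simp [P, Q, mul_apply, vecMulVec_apply, CharTwo.sub_eq_add]
  have h2 : (fromBlocks A P 0 (1 : Matrix Unit Unit F)).det = A.det := by
    rw [det_fromBlocks_zero₂₁, det_one, mul_one]
  have h3 := det_updateRow_add (fromBlocks A P Q (1 : Matrix Unit Unit F)) (Sum.inr ())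
    (Sum.elim d 0) (Sum.elim 0 1)
  have e1 : updateRow (fromBlocks A P Q (1 : Matrix Unit Unit F)) (Sum.inr ())
      (Sum.elim d (0 : Unit → F) + Sum.elim (0 : ι → F) (1 : Unit → F)) = fromBlocks A P Q 1 := by
    ext (i | i) (j | j) <;> simp [updateRow_apply, Q]
  have e2 : updateRow (fromBlocks A P Q (1 : Matrix Unit Unit F)) (Sum.inr ())
      (Sum.elim d 0) = fromBlocks A P Q 0 := by
    ext (i | i) (j | j) <;> simp [updateRow_apply, Q]
  have e3 : updateRow (fromBlocks A P Q (1 : Matrix Unit Unit F)) (Sum.inr ())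
      (Sum.elim 0 1) = fromBlocks A P 0 1 := by
    ext (i | i) (j | j) <;> simp [updateRow_apply]
  rw [e1, e2, e3, h0, h1, h2, zero_add] at h3
  exact h3

/-- A square matrix of full rank is nonsingular. -/
theorem det_ne_of_rank (A : Matrix ι ι F) (h : Fintype.card ι ≤ A.rank) : A.det ≠ 0 := fun h0 => by
  obtain ⟨v, hv, h1⟩ := exists_mulVec_eq_zero_iff.2 h0
  have h2 := LinearMap.finrank_range_add_finrank_ker A.mulVecLin
  have h3 : 0 < Module.finrank F (LinearMap.ker A.mulVecLin) :=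
    Module.finrank_pos_iff_exists_ne_zero.2 ⟨⟨v, h1⟩, fun k => hv (congrArg Subtype.val k)⟩
  rw [Module.finrank_fintype_fun_eq_card] at h2
  unfold Matrix.rank at h
  omega

end Det

variable {n : ℕ} {F : Type} [Field F] [StarRing F] [TrivialStar F] [CharP F 2] [Finite F]
  {l : ℕ} (hl : 2 * l ≤ n + 1)

/-- the first `l` indices -/
def io (i : Fin l) : Fin (n + 1) := ⟨i.val, by omega⟩

/-- the symmetric matrix of `m` -/
def Bm (m : XU n F) : Matrix (Fin l) (Fin l) F :=
  (mt m - 1).submatrix (io hl) fun j => (io hl j).rev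

theorem io_ne (i j : Fin l) : io hl i ≠ (io hl j).rev := fun h => by
  have := congrArg Fin.val h
  simp only [io, Fin.val_rev] at this
  omega

theorem io_inj (a b : Fin l) : io hl a = io hl b ↔ a = b :=
  ⟨fun k => Fin.ext (by simpa [io] using congrArg Fin.val k), fun k => by rw [k]⟩

theorem Bm_apply (m : XU n F) (i j : Fin l) : Bm hl m i j = mt m (io hl i) (io hl j).rev := by
  simp [Bm, one_apply, io_ne]

variable [Par n F] [FV n F]

omit hl in
theorem row_zero {m : XU n F} (hm : m ∈ Mk n F l) (i j : Fin (n + 1)) (hi : l ≤ i.val) :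
    (mt m - 1) i j = 0 := by
  have := (FV.mem_M l m).1 hm (ev j) i hi
  rw [Pi.add_apply, ac_ev, ev_apply] at this
  rw [Matrix.sub_apply, one_apply, CharTwo.sub_eq_add]
  exact this

omit hl in
theorem sym_of_sq {m : XU n F} (h : m * m = 1) (i j : Fin (n + 1)) :
    (mt m - 1) i j = (mt m - 1) j.rev i.rev := by
  have e : m⁻¹ = m := inv_eq_of_mul_eq_one_right h
  have := inv_apply m i j
  rw [e, star_trivial] at this
  rw [Matrix.sub_apply, Matrix.sub_apply, this, one_apply, one_apply]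
  simp [Fin.rev_inj, eq_comm]

variable (bd : BD n F)
include bd

include hl in
theorem col_zero {m : XU n F} (hm : m ∈ Mk n F l) (i j : Fin (n + 1)) (hj : l ≤ j.rev.val) :
    (mt m - 1) i j = 0 := by
  rw [sym_of_sq (bd.mm l hl m hm).1, row_zero hm _ _ hj]

theorem Bm_symm {m : XU n F} (hm : m ∈ Mk n F l) (i j : Fin l) : Bm hl m i j = Bm hl m j i := by
  simp only [Bm, submatrix_apply]
  rw [sym_of_sq (bd.mm l hl m hm).1, Fin.rev_rev]

theorem Bm_mul {m m' : XU n F} (hm : m ∈ Mk n F l) (hm' : m' ∈ Mk n F l) :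
    Bm hl (m * m') = Bm hl m + Bm hl m' := by
  have h0 : (mt m - 1) * (mt m' - 1) = 0 := by
    ext i j
    rw [mul_apply, Matrix.zero_apply]
    refine Finset.sum_eq_zero fun k _ => ?_
    by_cases hk : l ≤ k.val
    · rw [row_zero hm' _ _ hk, mul_zero]
    · rw [col_zero hl bd hm _ _ (by rw [Fin.val_rev]; omega), zero_mul]
  have h1 : mt (m * m') - 1 = (mt m - 1) + (mt m' - 1) := by
    rw [mt_mul, ← add_zero (mt m - 1 + (mt m' - 1)), ← h0]
    noncomm_ring
  simp only [Bm, h1]
  rfl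

theorem rk_le {m : XU n F} (hm : m ∈ Mk n F l) : rk m ≤ (Bm hl m).rank := by
  let P : Matrix (Fin (n + 1)) (Fin l) F := of fun i a => if i = io hl a then 1 else 0
  let Q : Matrix (Fin l) (Fin (n + 1)) F := of fun b j => if j = (io hl b).rev then 1 else 0
  have e : mt m - 1 = P * Bm hl m * Q := by
    ext i j
    by_cases hi : l ≤ i.val
    · rw [row_zero hm _ _ hi, Matrix.mul_assoc, mul_apply]
      refine (Finset.sum_eq_zero fun a _ => ?_).symm
      have : i ≠ io hl a := fun k => by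
        have := congrArg Fin.val k
        simp only [io] at this
        omega
      simp [P, this]
    by_cases hj : l ≤ j.rev.val
    · rw [col_zero hl bd hm _ _ hj, mul_apply]
      refine (Finset.sum_eq_zero fun b _ => ?_).symm
      have : j ≠ (io hl b).rev := fun k => by
        rw [k, Fin.rev_rev] at hj
        simp only [io] at hj
        omega
      simp [Q, this]
    obtain ⟨a, rfl⟩ : ∃ a, i = io hl a := ⟨⟨i.val, by omega⟩, rfl⟩
    obtain ⟨b, rfl⟩ : ∃ b, j = (io hl b).rev := ⟨⟨j.rev.val, by omega⟩, by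
      rw [eq_comm, Fin.rev_eq_iff]; rfl⟩
    simp [P, Q, mul_apply, io_inj, Fin.rev_inj, Bm]
  rw [rk, e]
  exact (rank_mul_le_left _ _).trans (rank_mul_le_right _ _)

theorem rk_iff {m : XU n F} (hm : m ∈ Mk n F l) : rk m = l ↔ (Bm hl m).det ≠ 0 := by
  constructor
  · intro h
    refine det_ne_of_rank _ ?_
    rw [Fintype.card_fin]
    exact h.ge.trans (rk_le hl bd hm)
  · intro h
    refine le_antisymm (bd.mm l hl m hm).2.1 ?_
    have h1 := rank_of_det_ne_zero h
    rw [Fintype.card_fin] at h1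
    rw [← h1]
    exact rank_submatrix_le _ _ _

omit bd in
theorem Bm_alt {m : XU n F} (h : Alt m) (i : Fin l) : Bm hl m i i = 0 := by
  have := h (ev (io hl i).rev)
  rw [hf_ev_right, Fin.rev_rev, ac_ev] at this
  rw [Bm_apply, this]

omit bd in
theorem Bm_TT (d : Vn n F) :
    Bm hl (TT d) = vecMulVec (fun i => d (io hl i)) fun i => d (io hl i) := by
  ext i j
  rw [Bm_apply, ← ac_ev, H86.SPI.ac_TT, hf_ev_left, Fin.rev_rev, star_trivial, vecMulVec_apply]
  simp [ev_apply, io_ne, mul_comm]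

theorem det_TT (he : Even l) {m : XU n F} (hm : m ∈ Mk n F l) {d : Vn n F} (hd : Dg m d) :
    (Bm hl (m * TT d)).det = (Bm hl m).det := by
  have h1 := bd.mm l hl m hm
  have h2 := bd.tt l d (h1.2.2 d hd)
  have h3 := mul_mem hm h2
  have e : m = m * TT d * TT d := by rw [mul_assoc, (bd.mm l hl _ h2).1, mul_one]
  conv_rhs => rw [e, Bm_mul hl bd h3 h2, Bm_TT]
  exact (det_alt_add _ (Bm_symm hl bd h3) (Bm_alt hl (bd.alt m d h1.1 hd).1)
    (by rwa [Fintype.card_fin]) _).symm

theorem sg_iff (he : Even l) {m : XU n F} (hm : m ∈ Mk n F l)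
    (h : ¬ ∃ d, Wk l d ∧ m = TT d) : Sg l m ↔ (Bm hl m).det ≠ 0 := by
  have h1 := bd.mm l hl m hm
  constructor
  · rintro ⟨d, hd, k | k⟩
    · have h2 := bd.tt l d (h1.2.2 d hd)
      refine (h ⟨d, h1.2.2 d hd, ?_⟩).elim
      rw [← mul_one m, ← (bd.mm l hl _ h2).1, ← mul_assoc, k, one_mul]
    · rw [← det_TT hl bd he hm hd]
      exact (rk_iff hl bd (mul_mem hm (bd.tt l d (h1.2.2 d hd)))).1 k
  · intro k
    obtain ⟨d, hd⟩ := bd.ex m h1.1
    refine ⟨d, hd, Or.inr ((rk_iff hl bd (mul_mem hm (bd.tt l d (h1.2.2 d hd)))).2 ?_)⟩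
    rwa [det_TT hl bd he hm hd]

omit bd in
/-- Every symmetric matrix occurs. -/
theorem exists_Bm (S : Matrix (Fin l) (Fin l) F) (hs : ∀ i j, S i j = S j i) :
    ∃ m ∈ Mk n F l, Bm hl m = S := by
  let N : Matrix (Fin (n + 1)) (Fin (n + 1)) F :=
    ∑ a, ∑ b, S a b • op (ev (io hl a)) (ev (io hl b))
  have hN : ∀ y, N *ᵥ y = ∑ a, ∑ b, (S a b * hf y (ev (io hl b))) • ev (io hl a) := fun y => by
    simp only [N, sum_mulVec, smul_mulVec, op_mulVec, smul_smul]
  have hW : ∀ y, Wk l (N *ᵥ y) := fun y i hi => by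
    rw [hN]
    simp only [Finset.sum_apply, Pi.smul_apply, ev_apply, smul_eq_mul]
    refine Finset.sum_eq_zero fun a _ => Finset.sum_eq_zero fun b _ => ?_
    have : i ≠ io hl a := fun k => by
      have := congrArg Fin.val k
      simp only [io] at this
      omega
    rw [if_neg this, mul_zero]
  have hsum : ∀ {κ : Type} [Fintype κ] (f : κ → Vn n F) (y : Vn n F),
      hf (∑ a, f a) y = ∑ a, hf (f a) y := fun f y => by
    simp only [hf, Finset.sum_apply, Finset.sum_mul]
    exact Finset.sum_comm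
  have h1 : ∀ x y, hf (N *ᵥ x) y =
      ∑ a, ∑ b, S a b * hf x (ev (io hl b)) * hf y (ev (io hl a)) := fun x y => by
    rw [hN, hsum]
    refine Finset.sum_congr rfl fun a _ => ?_
    rw [hsum]
    exact Finset.sum_congr rfl fun b _ => by rw [hf_smul_left, H86.SPI.hf_comm (ev _) y]
  have h2 : ∀ x y, hf (N *ᵥ x) y = hf x (N *ᵥ y) := fun x y => by
    rw [H86.SPI.hf_comm x, h1, h1, Finset.sum_comm]
    exact Finset.sum_congr rfl fun a _ => Finset.sum_congr rfl fun b _ => by rw [hs b a]; ring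
  have h3 : ∀ x y, hf (N *ᵥ x) (N *ᵥ y) = 0 := fun x y =>
    (FV.wk_perp l (by omega) _).1 (fun i hi => hW x i (by omega)) _ (hW y)
  obtain ⟨m, hm⟩ := FV.isom (n := n) (F := F) (1 + N) fun x y => by
    simp only [add_mulVec, one_mulVec, hf_add_left, hf_add_right, h3, h2 x y]
    linear_combination (hf x (N *ᵥ y)) * two0 F
  refine ⟨m, (FV.mem_M l m).2 fun v => ?_, ?_⟩
  · have : ac m v + v = N *ᵥ v := by
      rw [ac, hm, add_mulVec, one_mulVec, add_right_comm, v_add_self, zero_add]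
    rw [this]; exact hW v
  · ext i j
    simp [Bm, hm, N, Matrix.sum_apply, op_apply, ev_apply, io_inj]

omit bd in
include hl in
theorem card_M (h4 : 4 ≤ l) : Nat.card F ^ (2 * l + 2) ≤ Nat.card (Mk n F l) := by
  have key : ∀ φ : Sym2 (Fin l) → F, ∃ m : Mk n F l, Bm hl m.1 = of fun i j => φ s(i, j) :=
    fun φ => by
      obtain ⟨m, hm, h⟩ := exists_Bm hl (of fun i j => φ s(i, j)) fun i j => by
        simp [Sym2.eq_swap]
      exact ⟨⟨m, hm⟩, h⟩
  choose g hg using key
  have inj : Function.Injective g := fun φ ψ h => by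
    have h1 := hg φ
    rw [h, hg ψ] at h1
    funext s
    induction s using Sym2.ind with
    | _ i j => exact (congrFun (congrFun h1 i) j).symm
  have h1 := Nat.card_le_card_of_injective g inj
  rw [Nat.card_fun, Nat.card_eq_fintype_card (α := Sym2 (Fin l)), Sym2.card, Fintype.card_fin] at h1
  refine le_trans (Nat.pow_le_pow_right Nat.card_pos ?_) h1
  rw [Nat.choose_two_right, Nat.le_div_iff_mul_le (by norm_num), Nat.add_sub_cancel]
  nlinarith

omit bd in
include hl in
theorem card_T {M : Type} (ψ : M → XU n F) (hψ : Function.Injective ψ) :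
    {m | ∃ d, Wk l d ∧ ψ m = TT d}.ncard ≤ Nat.card F ^ l := by
  let ex : (Fin l → F) → Vn n F := fun d i => if h : i.val < l then d ⟨i.val, h⟩ else 0
  have hex : ∀ d : Vn n F, Wk l d → ex (fun i => d (io hl i)) = d := fun d hd => by
    funext i
    by_cases hi : i.val < l
    · simp only [ex, dif_pos hi]; rfl
    · simp only [ex, dif_neg hi]; exact (hd i (by omega)).symm
  let f : (Fin l → F) → XU n F := fun d => TT (ex d)
  have h1 : {m | ∃ d, Wk l d ∧ ψ m = TT d}.ncard ≤ (f '' Set.univ).ncard := by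
    refine Set.ncard_le_ncard_of_injOn ψ ?_ hψ.injOn (Set.finite_univ.image f)
    rintro m ⟨d, hd, h⟩
    refine ⟨fun i => d (io hl i), trivial, ?_⟩
    rw [h]
    exact congrArg TT (hex d hd)
  refine h1.trans ((Set.ncard_image_le Set.finite_univ).trans ?_)
  rw [Set.ncard_univ, Nat.card_fun, Nat.card_eq_fintype_card (α := Fin l), Fintype.card_fin]

end H10.SBM

namespace H10.SBM

open Matrix
open H67.UA hiding Par
open H67.SP
open H59.SO (AutOn)
open H86.SPG

theorem jobBM : JobBM := by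
  intro dg n F _ _ _ _ _ _ b bd x l nf hr h4 hl θ hθ h
  have hx : x ∈ Mk n F l := (FV.mem_M l x).2 fun v => (nf.im _).1 ⟨v, rfl⟩
  have hdx : (Bm hl x).det ≠ 0 := (rk_iff hl bd hx).1 hr
  have he : Even l := by
    by_contra ho
    exact hdx (det_alt_odd _ (Bm_symm hl bd hx) (Bm_alt hl nf.alt)
      (by rw [Fintype.card_fin]; exact Nat.not_even_iff_odd.1 ho))
  have hθm : ∀ m : Mk n F l, θ m ∈ Mk n F l := fun m => hθ.bij.mapsTo m.2
  have comm : ∀ a c : Mk n F l, a * c = c * a := fun a c => Subtype.ext (by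
    have h1 := (bd.mm l hl _ (a * c).2).1
    have h2 := (bd.mm l hl _ a.2).1
    have h3 := (bd.mm l hl _ c.2).1
    change (a : XU n F) * c = c * a
    calc (a : XU n F) * c = (a * c : XU n F)⁻¹ := (inv_eq_of_mul_eq_one_right h1).symm
      _ = c * a := by
        rw [_root_.mul_inv_rev, inv_eq_of_mul_eq_one_right h2, inv_eq_of_mul_eq_one_right h3])
  let S1 : Set (Mk n F l) := {m | ∃ d, Wk l d ∧ (m : XU n F) = TT d}
  let S2 : Set (Mk n F l) := {m | ∃ d, Wk l d ∧ x * θ m = TT d}
  have c1 : S1.ncard ≤ Nat.card F ^ l := card_T hl _ Subtype.val_injective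
  have c2 : S2.ncard ≤ Nat.card F ^ l := card_T hl (fun m : Mk n F l => x * θ m) fun a c k =>
    Subtype.ext (hθ.bij.injOn a.2 c.2 (mul_left_cancel k))
  have main := dg (Mk n F l) F l (fun m => Bm hl m.1) (fun m => Bm hl (θ m)) (Bm hl x) comm
    (fun a c => Bm_mul hl bd a.2 c.2)
    (fun a c => by
      change Bm hl (θ (a * c : XU n F)) = _
      rw [hθ.mul _ a.2 _ c.2, Bm_mul hl bd (hθm a) (hθm c)])
    (S1 ∪ S2) (fun m hm => by
      have k := h m m.2
      rw [sg_iff hl bd he m.2 fun k => hm (Or.inl k),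
        sg_iff hl bd he (mul_mem hx (hθm m)) fun k => hm (Or.inr k),
        Bm_mul hl bd hx (hθm m)] at k
      exact not_iff_not.1 k)
    ⟨1, fun k => by
      have h0 : Bm hl (1 : XU n F) = 0 := by
        ext i j; simp [Bm, mt_one]
      have h1 : θ (1 : XU n F) = 1 := hθ.one
      have : Nonempty (Fin l) := ⟨⟨0, by omega⟩⟩
      change (Bm hl (1 : XU n F)).det = 0 ↔ (Bm hl x + Bm hl (θ 1)).det = 0 at k
      rw [h1, h0, add_zero] at k
      exact hdx (k.1 det_zero)⟩
  have c3 := Set.ncard_union_le S1 S2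
  have c4 := card_M (n := n) (F := F) hl h4
  have q2 : 2 ≤ Nat.card F := Finite.one_lt_card
  have c5 : Nat.card F ^ (2 * l + 2) ≤ Nat.card F ^ l * (Nat.card F ^ l + Nat.card F ^ l) :=
    c4.trans (main.trans (Nat.mul_le_mul_left _ (by omega)))
  have p : 0 < Nat.card F ^ l := by positivity
  have e : Nat.card F ^ (2 * l + 2) = Nat.card F ^ l * (Nat.card F ^ l * Nat.card F ^ 2) := by ring
  rw [e] at c5
  have c6 := Nat.le_of_mul_le_mul_left c5 p
  have c7 : Nat.card F ^ l * 4 ≤ Nat.card F ^ l * Nat.card F ^ 2 :=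
    Nat.mul_le_mul_left _ (by nlinarith)
  omega

end H10.SBM
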