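import Cfsg.Agent.H87.S4Spec

/-! Tower SP4: the models, abstract part and `A₆ × 2`. -/

set_option autoImplicit false

namespace H10.S4
open Subgroup H87.S4

universe v

theorem mod_equiv {K K' : Type*} [Field K] [Field K'] (e : K ≃+* K') {ty : Prop} :
    Mod K' ty → Mod K ty := by
  rintro ⟨G, _, _, T, m, co, h1, h2, ⟨g1, h3, y, w, c', y', w', n3, e3⟩, g2, h4, z, x, z', x', a',
    n4, e4⟩
  have s := e.surjective
  refine ⟨G, inferInstance, inferInstance, T, fun c y w a => m (e c) (e y) (e w) (e a),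
    ⟨fun _ _ _ _ => co.mem _ _ _ _, fun g hg => ?_, fun _ _ _ _ _ _ _ _ => by
      simp only [co.mul, map_add, map_mul, map_pow, map_ofNat], fun h => ?_⟩, fun g w => ?_,
    h2.trans ?_, ⟨g1, fun c y w => ?_, e.symm y, e.symm w, e.symm c', e.symm y', e.symm w',
      by simpa using n3, by simpa using e3⟩, g2, fun y w a => ?_, e.symm z, e.symm x, e.symm z',
      e.symm x', e.symm a', by simpa using n4, by simpa using e4⟩
  · simpa only [s.exists] using co.surj g hg
  · simpa only [e.injective.eq_iff] using co.inj h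
  · simpa only [s.exists, map_zero] using h1 g (e w)
  · simp only [s.forall, map_zero]
  · simpa only [s.exists, map_zero] using h3 (e c) (e y) (e w)
  · simpa only [s.exists, map_zero] using h4 (e y) (e w) (e a)

/-- The relations of the four root subgroups and of the two normalising elements. -/
structure Dat {K G : Type*} [Field K] [Group G] (C Y W A : K → G) (g h : G) : Prop where
  ad : ∀ s t, C (s + t) = C s * C t ∧ Y (s + t) = Y s * Y t ∧ W (s + t) = W s * W t ∧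
    A (s + t) = A s * A t
  cm : ∀ s t, Y s * C t = C t * Y s ∧ W s * C t = C t * W s ∧ W s * Y t = Y t * W s ∧
    A s * Y t = Y t * A s ∧ A s * W t = W t * A s
  rel : ∀ a c, A a * C c = C c * Y (a * c) * W (a ^ 2 * c) * A a
  inj : ∀ c y w a, C c * Y y * W w * A a = 1 → c = 0 ∧ y = 0 ∧ w = 0 ∧ a = 0
  gC : ∀ c, ∃ c' y' w', g * C c * g⁻¹ = C c' * Y y' * W w'
  gY : ∀ y, ∃ c' y' w', g * Y y * g⁻¹ = C c' * Y y' * W w'
  gm : ∃ y c' y' w', c' ≠ 0 ∧ g * Y y * g⁻¹ = C c' * Y y' * W w'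
  hA : ∀ a, ∃ y' w' a', h * A a * h⁻¹ = Y y' * W w' * A a'
  hY : ∀ y, ∃ y' w' a', h * Y y * h⁻¹ = Y y' * W w' * A a'
  hm : ∃ y y' w' a', a' ≠ 0 ∧ h * Y y * h⁻¹ = Y y' * W w' * A a'

variable {K G : Type*} [Field K] [Group G] {C Y W A : K → G} {g h : G}

theorem Dat.map (d : Dat C Y W A g h) {H : Type*} [Group H] {f : G →* H}
    (hf : Function.Injective f) : Dat (f ∘ C) (f ∘ Y) (f ∘ W) (f ∘ A) (f g) (f h) := by
  constructor <;> simp only [Function.comp, ← map_mul, ← map_inv, hf.eq_iff, map_eq_one_iff f hf]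
  exacts [d.ad, d.cm, d.rel, d.inj, d.gC, d.gY, d.gm, d.hA, d.hY, d.hm]

theorem Dat.mul [CharP K 2] (d : Dat C Y W A g h) (c y w a c' y' w' a' : K) :
    C c * Y y * W w * A a * (C c' * Y y' * W w' * A a') = C (c + c') * Y (y + y' + a * c') *
      W (w + w' + 2 * a * y' + a ^ 2 * c') * A (a + a') := by
  have l : ∀ {p q : G}, p * q = q * p → ∀ r, p * (q * r) = q * (p * r) := fun e r => by
    rw [← mul_assoc, e, mul_assoc]
  have r : ∀ r, A a * (C c' * r) = C c' * (Y (a * c') * (W (a ^ 2 * c') * (A a * r))) := fun r => by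
    simp only [← mul_assoc, d.rel]
  rw [CharTwo.two_eq_zero, zero_mul, zero_mul, add_zero, add_right_comm y, add_right_comm w]
  simp only [(d.ad _ _).1, (d.ad _ _).2.1, (d.ad _ _).2.2.1, (d.ad _ _).2.2.2, mul_assoc, r,
    l (d.cm _ _).1, l (d.cm _ _).2.1, l (d.cm _ _).2.2.1, l (d.cm _ _).2.2.2.1,
    l (d.cm _ _).2.2.2.2]

theorem Dat.mod {G : Type} [Group G] [Finite G] [Finite K] [CharP K 2] {C Y W A : K → G} {g h : G}
    (d : Dat C Y W A g h) {k : ℕ} (hk : Nat.card G = Nat.card K ^ 4 * k) (ok : Odd k)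
    (hW : ∀ x w, ∃ w', x * W w * x⁻¹ = W w') {ty : Prop}
    (ht : ty ↔ ∀ x w, x * W w * x⁻¹ = W w) : Mod K ty := by
  have z : ∀ {X : K → G}, (∀ s t, X (s + t) = X s * X t) → X 0 = 1 := fun {X} h =>
    left_eq_mul.1 (show X 0 = X 0 * X 0 by rw [← h, add_zero])
  have C0 := z fun s t => (d.ad s t).1
  have Y0 := z fun s t => (d.ad s t).2.1
  have W0 := z fun s t => (d.ad s t).2.2.1
  have A0 := z fun s t => (d.ad s t).2.2.2
  let m : K → K → K → K → G := fun c y w a => C c * Y y * W w * A a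
  have mul : ∀ c y w a c' y' w' a', m c y w a * m c' y' w' a' =
    m (c + c') (y + y' + a * c') (w + w' + 2 * a * y' + a ^ 2 * c') (a + a') := d.mul
  have m0 : m 0 0 0 0 = 1 := by simp only [m, C0, Y0, W0, A0, mul_one]
  have iv : ∀ c y w a, m c y w a * m c (y + a * c) (w + a ^ 2 * c) a = 1 := fun c y w a => by
    rw [mul, ← m0]
    congr 1 <;> grind
  have inj : ∀ {c y w a c' y' w' a'}, m c y w a = m c' y' w' a' →
      c = c' ∧ y = y' ∧ w = w' ∧ a = a' := fun {c y w a c' y' w' a'} e => by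
    have := iv c' y' w' a'
    rw [← e, mul] at this
    have := d.inj _ _ _ _ this
    grind
  let T : Subgroup G :=
    { carrier := {x | ∃ c y w a, x = m c y w a}
      one_mem' := ⟨0, 0, 0, 0, m0.symm⟩
      mul_mem' := by
        rintro _ _ ⟨_, _, _, _, rfl⟩ ⟨_, _, _, _, rfl⟩
        exact ⟨_, _, _, _, mul ..⟩
      inv_mem' := by
        rintro _ ⟨_, _, _, _, rfl⟩
        exact ⟨_, _, _, _, inv_eq_of_mul_eq_one_right (iv ..)⟩ }
  have cT : Nat.card T = Nat.card K ^ 4 := by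
    refine (Nat.card_eq_of_bijective (fun v : K × K × K × K =>
      (⟨m v.1 v.2.1 v.2.2.1 v.2.2.2, _, _, _, _, rfl⟩ : T)) ⟨fun v v' e => ?_, ?_⟩).symm.trans ?_
    · obtain ⟨h1, h2, h3, h4⟩ := inj (congrArg Subtype.val e)
      exact Prod.ext h1 (Prod.ext h2 (Prod.ext h3 h4))
    · rintro ⟨_, c, y, w, a, rfl⟩
      exact ⟨(c, y, w, a), rfl⟩
    · simp only [Nat.card_prod]
      ring
  have pT : IsPGroup 2 T := by
    cases nonempty_fintype K
    obtain ⟨n, -, hn⟩ := FiniteField.card K 2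
    exact IsPGroup.of_card (n := n * 4) (by rw [cT, Nat.card_eq_fintype_card, hn, pow_mul])
  have iT : T.index = k := by
    rw [← T.card_mul_index, cT] at hk
    exact Nat.eq_of_mul_eq_mul_left (pow_pos Nat.card_pos 4) hk
  have cj : ∀ x p q r : G, x * (p * q * r) * x⁻¹ = x * p * x⁻¹ * (x * q * x⁻¹) * (x * r * x⁻¹) :=
    fun x p q r => by group
  have m1 : ∀ c y w, C c * Y y * W w = m c y w 0 := fun _ _ _ => by simp only [m, A0, mul_one]
  have m2 : ∀ y w a, Y y * W w * A a = m 0 y w a := fun _ _ _ => by simp only [m, C0, one_mul]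
  have m3 : ∀ w, W w = m 0 0 w 0 := fun _ => by simp only [m, C0, Y0, A0, one_mul, mul_one]
  refine ⟨G, inferInstance, inferInstance, pT.toSylow (iT ▸ ok.not_two_dvd_nat), m,
    ⟨fun _ _ _ _ => ⟨_, _, _, _, rfl⟩, fun _ h => h, mul, inj⟩, by simpa only [← m3] using hW,
    by simpa only [← m3] using ht, ⟨g, fun c y w => ?_, ?_⟩, h, fun y w a => ?_, ?_⟩
  · obtain ⟨_, _, _, e1⟩ := d.gC c
    obtain ⟨_, _, _, e2⟩ := d.gY y
    obtain ⟨_, e3⟩ := hW g w
    rw [← m1, cj, e1, e2, e3, m1, m1, m3, mul, mul]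
    exact ⟨_, _, _, by rw [add_zero (0 + 0 : K), add_zero (0 : K)]⟩
  · obtain ⟨y, c', y', w', n, e⟩ := d.gm
    exact ⟨y, 0, c', y', w', n, by rw [← m1, ← m1, ← e, C0, W0, one_mul, mul_one]⟩
  · obtain ⟨_, _, _, e1⟩ := d.hA a
    obtain ⟨_, _, _, e2⟩ := d.hY y
    obtain ⟨_, e3⟩ := hW h w
    rw [← m2, cj, e1, e2, e3, m2, m2, m3, mul, mul]
    exact ⟨_, _, _, by rw [add_zero (0 + 0 : K), add_zero (0 : K)]⟩
  · obtain ⟨y, y', w', a', n, e⟩ := d.hm
    exact ⟨y, 0, y', w', a', n, by rw [← m1, ← m2, ← e, C0, W0, one_mul, mul_one]⟩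

/-- `A₆ × 2` -/
abbrev G2 : Type := alternatingGroup (Fin 6) × Multiplicative (ZMod 2)

/-- an element of `G2` -/
def el (σ : Equiv.Perm (Fin 6)) (e : ZMod 2) (h : Equiv.Perm.sign σ = 1 := by decide) : G2 :=
  (⟨σ, h⟩, Multiplicative.ofAdd e)

/-- the root subgroup of an involution -/
def rt (x : G2) (t : ZMod 2) : G2 := if t = 0 then 1 else x

open Equiv in
theorem dat2 : Dat (rt (el (swap 0 2 * swap 1 3) 0)) (rt (el (swap 0 1 * swap 2 3) 1)) (rt (el 1 1))
    (rt (el (swap 0 1 * swap 4 5) 0)) (el (swap 0 1 * swap 1 2) 0)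
    (el (swap 0 2 * swap 2 4 * (swap 1 3 * swap 3 5)) 0) := by
  constructor <;> decide +kernel

theorem jobM2 : JobM2.{v} := fun K _ hK => by
  have : Finite K := Nat.finite_of_card_ne_zero (by omega)
  cases nonempty_fintype K
  refine mod_equiv (FiniteField.ringEquivOfCardEq (K' := ZMod 2)
    (by rw [← Nat.card_eq_fintype_card, hK]; rfl)) ?_
  have h : ∀ (x : G2) w, x * rt (el 1 1) w * x⁻¹ = rt (el 1 1) w := fun x w => by
    rw [mul_inv_eq_iff_eq_mul]
    unfold rt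
    split_ifs
    · rw [mul_one, one_mul]
    · exact Prod.ext ((mul_one _).trans (one_mul _).symm) (mul_comm _ _)
  refine dat2.mod (k := 45) ?_ (by decide) (fun x w => ⟨w, h x w⟩) (iff_of_true trivial h)
  rw [Nat.card_prod, nat_card_alternatingGroup, Nat.card_fin, Nat.card_zmod,
    Nat.card_congr Multiplicative.toAdd, Nat.card_zmod]
  rfl

end H10.S4
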