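import Cfsg.Agent.H51.TESpec

/-! # S1308, tower TE part 2, slot C3 -/

set_option autoImplicit false

namespace H10.TeC3

open Cfsg Subgroup MulAction H14 H98 H1.Gold H31.S2 H14.GC H14.FE H14.NF H51.TE
open scoped commutatorElement

universe u

variable {G : Type u} [Group G]

theorem tv_cj {F E : Subgroup G} {x : G} (h : Tv F E x) (g : G) :
    Tv (cj g F) (cj g E) (g * x * g⁻¹) := by
  refine ⟨fun f hf => ?_, fun f hf => ?_⟩
  · rw [mem_cj, ← h.fix _ (mem_cj.1 hf)]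
    constructor
    · intro e
      calc x * (g⁻¹ * f * g) = g⁻¹ * (g * x * g⁻¹ * f) * g := by group
        _ = g⁻¹ * f * g * x := by rw [e]; group
    · intro e
      calc g * x * g⁻¹ * f = g * (x * (g⁻¹ * f * g)) * g⁻¹ := by group
        _ = f * (g * x * g⁻¹) := by rw [e]; group
  · have := h.cm _ (mem_cj.1 hf)
    rw [mem_cj]
    convert this using 1
    simp only [commutatorElement_def]; group

theorem job : H51.TE.JobC3.{u} := by
  intro odd dih G _ _ Q E gx Q₁ E₁ Q₂ E₂ c a ha a1 col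
  have tg := gx.tg
  have aa : a * a = 1 := pt_el tg c.p2 a ha
  have e1 : El E₁ := pt_el tg c.p1
  have e2 : El (cj a E₁) := pt_el tg col.p2
  have cm : ∀ r ∈ E₁, ∀ t ∈ cj a E₁, r * t = t * r := fun r hr t ht =>
    (mem_cen_iff.1 (col.comm ht) r hr).symm
  have dec : ∀ f ∈ E₁ ⊔ cj a E₁, ∃ r ∈ E₁, ∃ t ∈ cj a E₁, f = r * t := fun f hf =>
    (mem_sup_right_norm (col.comm.trans (centralizer_le_normalizer _))).1 hf
  have aF : cj a (E₁ ⊔ cj a E₁) = E₁ ⊔ cj a E₁ := by rw [cj_sup, cj_cj, aa, cj_one, sup_comm]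
  have F2 : E₁ ⊔ cj a E₁ ≤ E₁ ⊔ E₂ :=
    sup_le le_sup_left (cj_le_of_le_of_mem le_sup_left (mem_sup_right ha))
  have l1 : E₁ ≤ E₁ ⊔ cj a E₁ := le_sup_left
  have l2 : cj a E₁ ≤ E₁ ⊔ cj a E₁ := le_sup_right
  generalize E₁ ⊔ cj a E₁ = F at dec aF F2 l1 l2
  have eF : El F := by
    intro f hf
    obtain ⟨r, hr, t, ht, rfl⟩ := dec f hf
    calc r * t * (r * t) = r * (t * r) * t := by group
      _ = (r * r) * (t * t) := by rw [← cm r hr t ht]; group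
      _ = 1 := by rw [e1 r hr, e2 t ht, mul_one]
  have dj : ∀ t ∈ cj a E₁, t ∈ Q₁ → t = 1 := fun t ht hq => by
    by_contra h
    exact pt_ti tg col.p1 col.p2 col.ne t ⟨hq, pt_le tg col.p2 ht⟩ ⟨h, e2 t ht⟩
  obtain ⟨P, hP, -, -⟩ := tg.px _ _ _ _ col ⊥ bot_le IsPGroup.of_bot (fun x _ y hy => by
    rw [mem_bot.1 hy]; simp)
  obtain ⟨w, wP, wE⟩ := SetLike.exists_of_lt hP.lt
  have wc : ∀ r ∈ E₁, w * r = r * w := mem_cen_iff.1 (hP.le wP).2
  have tv : Tv F E₁ w := by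
    refine ⟨fun f hf => ⟨fun h => ?_, wc f⟩, fun f hf => ?_⟩
    · obtain ⟨r, hr, t, ht, rfl⟩ := dec f hf
      have : t * w = w * t := by
        apply mul_left_cancel (a := r)
        rw [← mul_assoc, ← h, ← mul_assoc, ← mul_assoc, wc r hr]
      by_cases t1 : t = 1
      · simpa [t1] using hr
      · exact absurd (commutatorElement_eq_one_iff_mul_comm.2 this) (hP.nd w wP wE t ht t1)
    · obtain ⟨r, hr, t, ht, rfl⟩ := dec f hf
      have e : ⁅r * t, w⁆ = r * ⁅t, w⁆ * r⁻¹ := by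
        have k : r⁻¹ * w⁻¹ = w⁻¹ * r⁻¹ := by rw [← mul_inv_rev, ← mul_inv_rev, wc r hr]
        calc ⁅r * t, w⁆ = r * (t * w * t⁻¹) * (r⁻¹ * w⁻¹) := by
              simp only [commutatorElement_def]; group
          _ = r * ⁅t, w⁆ * r⁻¹ := by rw [k]; simp only [commutatorElement_def]; group
      rw [e]
      exact mul_mem (mul_mem hr (hP.cm t ht w wP)) (inv_mem hr)
  have tv' : Tv F (cj a E₁) (a * w * a⁻¹) := aF ▸ tv_cj tv a
  have ti : ∀ Q₃ E₃, Pt Q E Q₃ E₃ → E₃ ≤ F → E₃ ⊓ E₁ ≠ ⊥ → E₃ = E₁ := by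
    intro Q₃ E₃ p3 h3 hne
    obtain ⟨x, hx, x1⟩ := (Subgroup.bot_or_exists_ne_one _).resolve_left hne
    have e : Q₃ = Q₁ := by
      by_contra h
      exact pt_ti tg p3 c.p1 h x ⟨pt_le tg p3 hx.1, pt_le tg c.p1 hx.2⟩ ⟨x1, e1 x hx.2⟩
    subst e
    exact eq_of_le_of_card_ge (fun d hd => gx.cu _ _ _ c.p1 p3 F (H51.TE.El.two eF) l1 d hd (h3 hd))
      (by rw [pt_card c.p1, pt_card p3])
  obtain ⟨e₀, he₀, e₀1, -⟩ := four_exists_inv (pt_four tg c.p1)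
  obtain ⟨⟨m, hm, hc⟩, -⟩ := odd G F E₁ (cj a E₁) w (a * w * a⁻¹) eF l1 l2
    (fun h => e₀1 (mem_bot.1 (h.le he₀)))
    (eq_bot_iff.2 fun x hx => mem_bot.2 (dj x hx.2 (pt_le tg c.p1 hx.1))) tv tv'
    (fun g hg => ti _ _ (pt_cj c.p1 g) (cj_le_of_le l1 hg))
    (fun g hg => ti _ _ (pt_cj col.p2 g) (cj_le_of_le l2 hg))
  have aN : a ∈ nor F := cj_eq_self_iff.1 aF
  have cw : ∀ f : G, w * f * w⁻¹ = ⁅f, w⁆⁻¹ * f := fun f => by
    simp only [commutatorElement_def]; group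
  have wN : w ∈ nor F := mem_normalizer_of_cj_le (by
    rintro _ ⟨f, hf, rfl⟩
    show w * f * w⁻¹ ∈ F
    rw [cw]
    exact mul_mem (inv_mem (l1 (tv.cm f hf))) hf)
  have ww : w * w ∈ cen F := mem_cen_iff.2 fun f hf => by
    have k := inv_mem (tv.cm f hf)
    have k1 := cw f
    generalize ⁅f, w⁆⁻¹ = z at k k1
    calc w * w * f = w * (w * f * w⁻¹) * w := by group
      _ = (w * z) * f * w := by rw [k1]; group
      _ = z * (w * f * w⁻¹) * (w * w) := by rw [wc z k]; group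
      _ = f * (w * w) := by rw [k1, ← mul_assoc z, e1 z k, one_mul]
  obtain ⟨g, hg, e, eF', e1', ew, ea⟩ := dih G F a w m eF aN wN (by rw [aa]; exact one_mem _) ww hm hc
    ⟨e₀, l1 he₀, e₀1, wc e₀ he₀⟩
  have gN : g ∈ nor F := (closure_le _).2 (by
    rintro _ (rfl | rfl)
    exacts [aN, wN]) hg
  have eE : e ∈ E₁ := (tv.fix e eF').1 ew
  have p0 := pt_cj c.p1 g
  have VF : cj g E₁ ≤ F := cj_le_of_le l1 gN
  have dV : g * e * g⁻¹ ∈ cj g E₁ := conj_mem_cj eE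
  have d1 : g * e * g⁻¹ ≠ 1 := fun h => e1' (by rwa [conj_eq_one_iff] at h)
  have aQ : a ∈ nor (cj g Q₁) :=
    pt_cen tg p0 (pt_le tg p0 dV) ⟨d1, eF _ (VF dV)⟩ (mem_cen1.2 ea)
  have sub : ∀ v ∈ cj g E₁, ∃ r ∈ E₁, v = ⁅r, a⁆ := by
    intro v hv
    have k := gx.f1 _ _ _ _ p0 c.p2 v hv a ha aQ _ c.two (F2 (VF hv)) (mem_sup_right ha)
    obtain ⟨r, hr, _, ⟨s, hs, rfl⟩, rfl⟩ := dec v (VF hv)
    have ai : a⁻¹ = a := inv_eq_of_mul_eq_one_right aa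
    have k0 : (MulAut.conj a).toMonoidHom s = a * s * a⁻¹ := rfl
    rw [k0] at k ⊢
    have k1 : a * r * a⁻¹ * s = r * (a * s * a⁻¹) := by
      calc a * r * a⁻¹ * s = a * r * a * s * (a * a) := by rw [ai, aa, mul_one]
        _ = a * (r * (a * s * a⁻¹)) * a := by rw [ai]; group
        _ = r * (a * s * a⁻¹) * (a * a) := by rw [← k]; group
        _ = r * (a * s * a⁻¹) := by rw [aa, mul_one]
    have k2 : a * (r⁻¹ * s) * a⁻¹ = r⁻¹ * s := by
      calc a * (r⁻¹ * s) * a⁻¹ = (a * r * a⁻¹)⁻¹ * r⁻¹ * (r * (a * s * a⁻¹)) := by group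
        _ = r⁻¹ * (a * r * a⁻¹)⁻¹ * (a * r * a⁻¹ * s) := by
          rw [← k1, ← cm _ (inv_mem hr) _ (inv_mem (conj_mem_cj hr))]
        _ = r⁻¹ * s := by group
    have k3 := mul_mem (inv_mem hr) hs
    have k4 := dj _ (conj_mem_cj k3) (by rw [k2]; exact pt_le tg c.p1 k3)
    rw [k2, inv_mul_eq_one] at k4
    refine ⟨r, hr, ?_⟩
    rw [← k4, commutatorElement_def, inv_eq_of_mul_eq_one_right (e1 r hr)]; group
  have vq : ∀ v ∈ cj g E₁, v ∈ Q₁ → v = 1 := by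
    intro v hv hq
    obtain ⟨r, hr, rfl⟩ := sub v hv
    have k : a * r⁻¹ * a⁻¹ ∈ Q₁ := by
      have := mul_mem (inv_mem (pt_le tg c.p1 hr)) hq
      simpa [commutatorElement_def, mul_assoc] using this
    have k1 := dj _ (conj_mem_cj (inv_mem hr)) k
    rw [conj_eq_one_iff, inv_eq_one] at k1
    simp [k1]
  have eq : (cj g E₁ : Set G) = (fun r => ⁅r, a⁆) '' (E₁ : Set G) := by
    refine Set.eq_of_subset_of_ncard_le (fun v hv => ?_) ?_
    · obtain ⟨r, hr, e⟩ := sub v hv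
      exact ⟨r, hr, e.symm⟩
    · refine (Set.ncard_image_le).trans (le_of_eq ?_)
      exact (card_cj g E₁).symm
  refine ⟨cj g Q₁, cj g E₁, ⟨c.p1, p0, fun h => d1 (vq _ dV (h ▸ pt_le tg p0 dV)),
    fun v hv => mem_cen_iff.2 fun r hr => H51.TE.El.comm eF (VF hv) (l1 hr), w, hP.le wP,
    isPGroup_iff_forall.1 hP.two w wP, fun t ht => tv.cm t (VF ht), fun h => d1 (vq _ dV
      (pt_le tg c.p1 ((tv.fix _ (VF dV)).1 (mem_cen_iff.1 h _ dV))))⟩, fun v => ⟨sub v, ?_⟩⟩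
  rintro ⟨r, hr, rfl⟩
  exact eq.ge ⟨r, hr, rfl⟩

end H10.TeC3
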