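import Cfsg.Agent.H10.WAsm
import Cfsg.Agent.H55.WB1
import Cfsg.Agent.H24.WalJR2
import Cfsg.Agent.H24.WalRank
import Cfsg.Agent.H24.WalL2
import Cfsg.Agent.H20.WG4
import Cfsg.Agent.H48.E8Final
import Cfsg.Agent.H18.WalG
import Cfsg.Agent.H18.WalD
import Cfsg.Agent.H18.WalP0
import Cfsg.Agent.H15.SFT2

/-! Theorem A of team `walter`: simple groups with abelian Sylow `2`-subgroups are `L₂(2^n)`,
`L₂(q)` with `q ≡ ±3 (mod 8)`, or of type JR; conditional on Gorenstein-Walter and Bender. -/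

set_option autoImplicit false

namespace H10.W

universe u

theorem walterA_of (GW : GWThm.{u}) (B : BenderThm.{u}) : WalterA.{u} :=
  walterA H55.W.jobAPI H24.jobL2 (H24.jobJR (H24.benderAb B)) (H24.benderAb B) (H24.rankTwo GW)
    H18.Wal.jobP0
    (H20.WG.jobGen H55.W.jobAPI H18.Wal.jobG H18.Wal.jobD @H15.sft_two_text)
    (H48.E8.jobE8 H55.W.jobAPI H55.W.jobB1)

end H10.W
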